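import Cfsg.Agent.SC3.Base
import Cfsg.Agent.Frob.Count

/-! Groups all of whose elements have prime power order: real elements. -/

set_option autoImplicit false

namespace Cfsg.Agent.EP

open Subgroup Finset Cfsg.Agent.SC3

/-- all elements have prime power order -/
def EPPO (G : Type*) [Group G] : Prop := ∀ g : G, g ≠ 1 → IsPrimePow (orderOf g)

variable {G : Type*} [Group G]

/-- involutions -/
def I2 (t : G) : Prop := t * t = 1 ∧ t ≠ 1

theorem i2_iff {t : G} : I2 t ↔ orderOf t = 2 := by rw [orderOf_eq_prime_iff, I2, pow_two]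

theorem I2.inv {t : G} (h : I2 t) : t⁻¹ = t := inv_eq_of_mul_eq_one_right h.1

theorem I2.conj {t : G} (h : I2 t) (g : G) : I2 (g * t * g⁻¹) := by
  rw [i2_iff] at *; rw [orderOf_conj, h]

/-- `p`-elements -/
def PE (p : ℕ) (x : G) : Prop := ∃ n, x ^ p ^ n = 1

theorem PE.conj {p : ℕ} {x : G} (h : PE p x) (g : G) : PE p (g * x * g⁻¹) :=
  let ⟨n, hn⟩ := h; ⟨n, by rw [conj_pow, hn]; simp⟩

theorem pe_of_mem {p : ℕ} {P : Subgroup G} (hP : IsPGroup p P) {x : G} (hx : x ∈ P) : PE p x :=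
  let ⟨n, hn⟩ := hP ⟨x, hx⟩; ⟨n, congrArg Subtype.val hn⟩

theorem isP_of_pe {p : ℕ} {P : Subgroup G} (h : ∀ x ∈ P, PE p x) : IsPGroup p P := fun x =>
  let ⟨n, hn⟩ := h x x.2; ⟨n, Subtype.ext hn⟩

theorem PE.ord {p : ℕ} (hp : p.Prime) {x : G} (h : PE p x) : ∃ n, orderOf x = p ^ n :=
  let ⟨_, hn⟩ := h
  let ⟨k, _, hk⟩ := (Nat.dvd_prime_pow hp).1 (orderOf_dvd_of_pow_eq_one hn)
  ⟨k, hk⟩

theorem PE.dvd {p : ℕ} (hp : p.Prime) {x : G} (h : PE p x) (h1 : x ≠ 1) : p ∣ orderOf x := by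
  obtain ⟨n, hn⟩ := h.ord hp
  rcases n with _ | n
  · exact absurd (orderOf_eq_one_iff.1 (by simpa using hn)) h1
  · exact hn ▸ dvd_pow_self p n.succ_ne_zero

theorem I2.pe {t : G} (h : I2 t) : PE 2 t := ⟨1, by rw [pow_one, sq, h.1]⟩

theorem PE.eq_one {x : G} (h : PE 2 x) (ho : Odd (orderOf x)) : x = 1 :=
  by_contra fun e => ho.not_two_dvd_nat (h.dvd Nat.prime_two e)

theorem mem_of_sq_mem [Finite G] {U : Subgroup G} {x : G} (ho : Odd (orderOf x)) (h : x * x ∈ U) : x ∈ U :=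
  mem_of_pow_mem (n := 2) (Nat.coprime_two_right.2 ho) (by rwa [sq])

theorem eq_one_of_inv {x : G} (ho : Odd (orderOf x)) (h : x = x⁻¹) : x = 1 :=
  PE.eq_one ⟨1, by rw [pow_one, sq]; exact mul_eq_one_iff_eq_inv.2 h⟩ ho

theorem exists_i2_pow [Finite G] {x : G} (h : 2 ∣ orderOf x) : ∃ k, I2 (x ^ k) :=
  ⟨orderOf x / 2, i2_iff.2 (orderOf_pow_orderOf_div (orderOf_pos x).ne' h)⟩

/-- real elements of odd order -/
def Rl (x : G) : Prop := Odd (orderOf x) ∧ x ≠ 1 ∧ ∃ t, t * t = 1 ∧ t * x * t = x⁻¹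

theorem Rl.conj {x : G} (h : Rl x) (g : G) : Rl (g * x * g⁻¹) := by
  obtain ⟨h1, h2, t, h3, h4⟩ := h
  refine ⟨by rwa [orderOf_conj], by simpa using h2, g * t * g⁻¹, ?_, ?_⟩
  · rw [show g * t * g⁻¹ * (g * t * g⁻¹) = g * (t * t) * g⁻¹ by group, h3]; simp
  · rw [show g * t * g⁻¹ * (g * x * g⁻¹) * (g * t * g⁻¹) = g * (t * x * t) * g⁻¹ by group, h4]; group

theorem rl_mul {u v : G} (hu : u * u = 1) (hv : v * v = 1) (ho : Odd (orderOf (u * v))) (h1 : u * v ≠ 1) :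
    Rl (u * v) :=
  ⟨ho, h1, u, hu, by
    rw [mul_inv_rev, inv_eq_of_mul_eq_one_right hu, inv_eq_of_mul_eq_one_right hv, ← mul_assoc, hu, one_mul]⟩

variable (G) in
/-- the `p`-part of the order -/
noncomputable def mm (p : ℕ) : ℕ := p ^ (Nat.card G).factorization p

variable (G) in
/-- the index of a Sylow subgroup in its normalizer -/
noncomputable def ee (p : ℕ) : ℕ :=
  ((default : Sylow p G) : Subgroup G).relIndex (Nm ((default : Sylow p G) : Subgroup G))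

variable (G) in
/-- the number of classes -/
noncomputable def nn (p : ℕ) : ℕ := (mm G p - 1) / ee G p

variable (G) in
/-- the number of non-trivial `p`-elements -/
noncomputable def cnt (p : ℕ) : ℕ := Nat.card {x : G // x ≠ 1 ∧ PE p x}

open Classical in
variable (G) in
/-- the real primes -/
noncomputable def RP : Finset ℕ := (Nat.card G).primeFactors.filter fun p => ∃ x : G, Rl x ∧ p ∣ orderOf x

variable [Finite G]

theorem mem_RP {p : ℕ} : p ∈ RP G ↔ p.Prime ∧ ∃ x : G, Rl x ∧ p ∣ orderOf x := by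
  classical
  rw [RP, mem_filter, Nat.mem_primeFactors]
  exact ⟨fun h => ⟨h.1.1, h.2⟩, fun h => ⟨⟨h.1, let ⟨x, _, hx⟩ := h.2; hx.trans (orderOf_dvd_natCard x),
    Nat.card_pos.ne'⟩, h.2⟩⟩

theorem odd_of_RP {p : ℕ} (h : p ∈ RP G) : Odd p :=
  let ⟨_, _, hx, h2⟩ := mem_RP.1 h; hx.1.of_dvd_nat h2

theorem card_sylow {p : ℕ} [Fact p.Prime] (P : Sylow p G) : Nat.card (P : Subgroup G) = mm G p :=
  P.card_eq_multiplicity

omit [Finite G] in
theorem mm_dvd (p : ℕ) : mm G p ∣ Nat.card G := Nat.ordProj_dvd _ _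

omit [Finite G] in
theorem prod_mm_dvd {s : Finset ℕ} (hs : ∀ p ∈ s, p.Prime) : ∏ p ∈ s, mm G p ∣ Nat.card G :=
  Finset.prod_dvd_of_isRelPrime (fun p hp q hq e => Nat.coprime_iff_isRelPrime.1
    (Nat.Coprime.pow _ _ ((Nat.coprime_primes (hs p hp) (hs q hq)).2 e))) fun p _ => mm_dvd p

theorem rel_sylow {p : ℕ} [Fact p.Prime] (P : Sylow p G) :
    (P : Subgroup G).relIndex (Nm (P : Subgroup G)) = ee G p := by
  obtain ⟨g, hg⟩ := sylow_conj (default : Sylow p G) P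
  apply Nat.eq_of_mul_eq_mul_left (card_pos' (P : Subgroup G))
  rw [card_mul_relIndex (le_Nm _), ee, card_sylow, ← card_sylow (default : Sylow p G),
    card_mul_relIndex (le_Nm _), ← hg, Nm_cj, card_cj]

theorem card_Nm_sylow {p : ℕ} [Fact p.Prime] (P : Sylow p G) :
    Nat.card (Nm (P : Subgroup G)) = mm G p * ee G p := by
  rw [← card_mul_relIndex (le_Nm _), rel_sylow, card_sylow]

/-- counting `p`-elements when the Sylow subgroups intersect trivially -/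
theorem cnt_ti {p : ℕ} [Fact p.Prime]
    (h : ∀ P Q : Sylow p G, ∀ x ∈ (P : Subgroup G), x ∈ (Q : Subgroup G) → x ≠ 1 → P = Q) :
    cnt G p * (mm G p * ee G p) = Nat.card G * (mm G p - 1) := by
  classical
  have := Fintype.ofFinite G
  have := Fintype.ofFinite (Sylow p G)
  have h1 := Frob.card_mul_eq_of_rel (univ.filter fun x : G => x ≠ 1 ∧ PE p x) (univ : Finset (Sylow p G))
    (fun x P => x ∈ (P : Subgroup G)) 1 (mm G p - 1) (fun x hx => by
      obtain ⟨h1, n, hn⟩ := (mem_filter.1 hx).2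
      obtain ⟨P, hP⟩ := exists_sylow_mem hn
      exact card_eq_one.2 ⟨P, eq_singleton_iff_unique_mem.2 ⟨by simpa using hP, fun Q hQ =>
        h Q P x (mem_filter.1 hQ).2 hP h1⟩⟩) fun P _ => by
      rw [← card_sylow P, ← card_nt]
      congr 1
      ext x
      simp only [mem_filter, mem_univ, true_and, mem_nt]
      exact ⟨fun h => ⟨h.2, h.1.1⟩, fun h => ⟨⟨h.2, sylow_pow h.1⟩, h.1⟩⟩
  rw [mul_one, ← Fintype.card_subtype, card_univ, ← Nat.card_eq_fintype_card, ← Nat.card_eq_fintype_card,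
    (default : Sylow p G).card_eq_index_normalizer] at h1
  rw [cnt, h1, ← card_Nm_sylow default, ← (Nm ((default : Sylow p G) : Subgroup G)).index_mul_card]
  exact mul_right_comm _ _ _

namespace EPPO

variable (h : EPPO G)
include h

omit [Finite G] in
theorem sub (H : Subgroup G) : EPPO H := fun g hg => by
  rw [← orderOf_coe]; exact h _ fun e => hg (Subtype.ext e)

omit [Finite G] in
theorem of_surj {G' : Type*} [Group G'] (f : G →* G') (hf : Function.Surjective f) : EPPO G' := fun g hg => by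
  obtain ⟨x, rfl⟩ := hf g
  obtain ⟨p, k, hp, -, e⟩ := (isPrimePow_nat_iff _).1 (h x fun e => hg (by rw [e, map_one]))
  obtain ⟨j, -, hj⟩ := (Nat.dvd_prime_pow hp).1 (e ▸ orderOf_map_dvd f x)
  exact (isPrimePow_nat_iff _).2 ⟨p, j, hp, Nat.pos_of_ne_zero fun e => hg (orderOf_eq_one_iff.1 (by simp [hj, e])), hj.symm⟩

omit [Finite G] in
theorem pe {p : ℕ} (hp : p.Prime) {x : G} (hx : p ∣ orderOf x) : PE p x := by
  by_cases e : x = 1
  · exact ⟨0, by simp [e]⟩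
  obtain ⟨r, k, hr, -, e⟩ := (isPrimePow_nat_iff _).1 (h x e)
  obtain rfl := (Nat.prime_dvd_prime_iff_eq hp hr).1 (hp.dvd_of_dvd_pow (e ▸ hx))
  exact ⟨k, by rw [e, pow_orderOf_eq_one]⟩

omit [Finite G] in
theorem exists_pe {x : G} (hx : x ≠ 1) : ∃ p : ℕ, p.Prime ∧ p ∣ orderOf x ∧ PE p x := by
  obtain ⟨r, k, hr, hk, e⟩ := (isPrimePow_nat_iff _).1 (h x hx)
  exact ⟨r, hr, e ▸ dvd_pow_self r hk.ne', k, by rw [e, pow_orderOf_eq_one]⟩

omit [Finite G] in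
theorem pe_comm {p : ℕ} (hp : p.Prime) {x y : G} (hx : PE p x) (h1 : x ≠ 1) (hc : Commute x y) : PE p y := by
  by_cases e : y = 1
  · exact ⟨0, by simp [e]⟩
  obtain ⟨r, hr, h2, h3⟩ := h.exists_pe e
  by_cases e' : r = p
  · exact e' ▸ h3
  obtain ⟨a, ha⟩ := hx.ord hp
  obtain ⟨b, hb⟩ := h3.ord hr
  have h4 := hc.orderOf_mul_eq_mul_orderOf_of_coprime (by
    rw [ha, hb]; exact Nat.Coprime.pow _ _ ((Nat.coprime_primes hp hr).2 (Ne.symm e')))
  obtain ⟨c, hc⟩ := (h.pe hp (h4 ▸ (hx.dvd hp h1).mul_right _)).ord hp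
  exact absurd ((Nat.prime_dvd_prime_iff_eq hr hp).1 (hr.dvd_of_dvd_pow (hc ▸ h4 ▸ h2.mul_left _))) e'

omit [Finite G] in
theorem isP_C1 {p : ℕ} (hp : p.Prime) {x : G} (hx : PE p x) (h1 : x ≠ 1) : IsPGroup p (C1 x) :=
  isP_of_pe fun _ hy => h.pe_comm hp hx h1 (mem_C1.1 hy)

omit [Finite G] in
theorem odd_comm {x y : G} (hx : PE 2 x) (hy : Odd (orderOf y)) (hc : Commute x y) : x = 1 ∨ y = 1 :=
  or_iff_not_imp_left.2 fun e => (h.pe_comm Nat.prime_two hx e hc).eq_one hy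

omit [Finite G] in
theorem pe_two {x : G} (hx : ¬ Odd (orderOf x)) : PE 2 x :=
  h.pe Nat.prime_two (even_iff_two_dvd.1 (Nat.not_odd_iff_even.1 hx))

theorem inv_sq {x g : G} (ho : Odd (orderOf x)) (h1 : x ≠ 1) (hg : g * x * g⁻¹ = x⁻¹) : g * g = 1 := by
  have h2 : Commute x (g * g) := by
    have : g * g * x * (g * g)⁻¹ = x := by
      rw [show g * g * x * (g * g)⁻¹ = g * (g * x * g⁻¹) * g⁻¹ by group, hg, ← conj_inv, hg, inv_inv]
    exact (mul_inv_eq_iff_eq_mul.1 this).symm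
  have h3 : PE 2 g := h.pe_two fun e => h1 (eq_one_of_inv ho (by
    rw [← hg, ← (mem_C1.1 (mem_of_sq_mem e (mem_C1.2 h2))).eq, mul_inv_cancel_right]))
  obtain ⟨n, hn⟩ := h3
  exact (h.odd_comm ⟨n, by rw [← sq, ← pow_mul, mul_comm, pow_mul, hn, one_pow]⟩ ho h2.symm).resolve_right h1

theorem inv_all {x t y : G} (ho : Odd (orderOf x)) (h1 : x ≠ 1) (ht : t * t = 1) (hg : t * x * t = x⁻¹)
    (hy : Commute x y) : t * y * t = y⁻¹ := by
  have := h.inv_sq (g := t * y) ho h1 (by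
    rw [mul_inv_rev, inv_eq_of_mul_eq_one_right ht, ← hg, mul_assoc t y, ← hy.eq]; group)
  exact eq_inv_of_mul_eq_one_left (by rw [← this]; group)

omit [Finite G] in
theorem odd_C1 {x y : G} (ho : Odd (orderOf x)) (h1 : x ≠ 1) (hy : Commute x y) : Odd (orderOf y) :=
  by_contra fun e => (h.odd_comm (h.pe_two e) ho hy.symm).elim (fun e' => e (by simp [e'])) h1

theorem rl_comm {x y : G} (hx : Rl x) (hy : Commute x y) (h1 : y ≠ 1) : Rl y :=
  let ⟨h2, h3, t, h4, h5⟩ := hx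
  ⟨h.odd_C1 h2 h3 hy, h1, t, h4, h.inv_all h2 h3 h4 h5 hy⟩

theorem comm_C1 {x y z : G} (hx : Rl x) (hy : Commute x y) (hz : Commute x z) : Commute y z := by
  obtain ⟨h2, h3, t, h4, h5⟩ := hx
  have h6 := h.inv_all h2 h3 h4 h5 (hy.mul_right hz)
  rw [show t * (y * z) * t = t * y * (t * t) * z * t by rw [h4]; group, show t * y * (t * t) * z * t =
    (t * y * t) * (t * z * t) by group, h.inv_all h2 h3 h4 h5 hy, h.inv_all h2 h3 h4 h5 hz, ← mul_inv_rev] at h6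
  exact (inv_injective h6).symm

theorem sc {x : G} (hx : Rl x) : SC (C1 x) := fun _ hy h1 => le_antisymm
  (fun _ hz => mem_C1.2 (h.comm_C1 (h.rl_comm hx (mem_C1.1 hy) h1) (mem_C1.1 hy).symm (mem_C1.1 hz)))
  fun _ hz => mem_C1.2 (h.comm_C1 hx (mem_C1.1 hy) (mem_C1.1 hz))

theorem sylow {p : ℕ} [hp : Fact p.Prime] {x : G} (hx : Rl x) (hd : p ∣ orderOf x) :
    ∃ P : Sylow p G, (P : Subgroup G) = C1 x := by
  obtain ⟨P, hP⟩ := (h.isP_C1 hp.out (h.pe hp.out hd) hx.2.1).exists_le_sylow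
  obtain ⟨z, hz, h1⟩ := exists_central P.isPGroup' fun e => hx.2.1 (e.le (hP (mem_C1.2 rfl)))
  have h2 : z ∈ C1 x := mem_C1.2 (mem_Ce.1 hz.2 x (hP (mem_C1.2 rfl))).symm
  exact ⟨P, le_antisymm (fun y hy => (h.sc hx).mem h2 h1 (mem_Ce.1 hz.2 y hy)) hP⟩

theorem card_C1 {p : ℕ} (hp : p.Prime) {x : G} (hx : Rl x) (hd : p ∣ orderOf x) : Nat.card (C1 x) = mm G p := by
  have := Fact.mk hp
  obtain ⟨P, hP⟩ := h.sylow hx hd
  rw [← hP, card_sylow]

theorem card_Nm {p : ℕ} (hp : p.Prime) {x : G} (hx : Rl x) (hd : p ∣ orderOf x) :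
    Nat.card (Nm (C1 x)) = mm G p * ee G p := by
  have := Fact.mk hp
  obtain ⟨P, hP⟩ := h.sylow hx hd
  rw [← hP, card_Nm_sylow]

theorem rel {p : ℕ} (hp : p.Prime) {x : G} (hx : Rl x) (hd : p ∣ orderOf x) :
    (C1 x).relIndex (Nm (C1 x)) = ee G p := by
  have := Fact.mk hp
  obtain ⟨P, hP⟩ := h.sylow hx hd
  rw [← hP, rel_sylow]

theorem sc_sylow {p : ℕ} [Fact p.Prime] (hp : p ∈ RP G) (P : Sylow p G) : SC (P : Subgroup G) := by
  obtain ⟨-, x, hx, hd⟩ := mem_RP.1 hp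
  obtain ⟨Q, hQ⟩ := h.sylow hx hd
  exact SC.sylow (hQ ▸ h.sc hx) P

theorem rl_of_pe {p : ℕ} (hp : p ∈ RP G) {y : G} (hy : PE p y) (h1 : y ≠ 1) : Rl y := by
  obtain ⟨h2, x, hx, hd⟩ := mem_RP.1 hp
  have := Fact.mk h2
  obtain ⟨P, hP⟩ := h.sylow hx hd
  obtain ⟨n, hn⟩ := hy
  obtain ⟨Q, hQ⟩ := exists_sylow_mem hn
  obtain ⟨g, hg⟩ := sylow_conj P Q
  rw [← hg, hP, ← C1_cj] at hQ
  exact h.rl_comm (hx.conj g) (mem_C1.1 hQ) h1

theorem mm_eq {p : ℕ} (hp : p ∈ RP G) : mm G p = ee G p * nn G p + 1 := by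
  have := Fact.mk (mem_RP.1 hp).1
  have h1 := (h.sc_sylow hp default).rel_dvd
  rw [rel_sylow, card_sylow] at h1
  have : 0 < mm G p := pow_pos this.out.pos _
  rw [nn, Nat.mul_div_cancel' h1]; omega

omit h in
theorem dvd_mm {p : ℕ} (hp : p ∈ RP G) : p ∣ mm G p :=
  let ⟨h1, x, _, h2⟩ := mem_RP.1 hp
  dvd_pow_self _ (h1.factorization_pos_of_dvd Nat.card_pos.ne' (h2.trans (orderOf_dvd_natCard x))).ne'

theorem nn_pos {p : ℕ} (hp : p ∈ RP G) : 0 < nn G p := Nat.pos_of_ne_zero fun e => by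
  have h1 := dvd_mm hp
  rw [h.mm_eq hp, e] at h1
  exact (mem_RP.1 hp).1.not_dvd_one (by simpa using h1)

theorem cnt_eq {p : ℕ} (hp : p ∈ RP G) : cnt G p * mm G p = Nat.card G * nn G p := by
  have := Fact.mk (mem_RP.1 hp).1
  have h1 := cnt_ti (G := G) (p := p) fun P Q x h1 h2 h3 =>
    Sylow.ext ((h.sc_sylow hp P x h1 h3).symm.trans (h.sc_sylow hp Q x h2 h3))
  have h2 : 0 < ee G p := Nat.pos_of_ne_zero index_ne_zero_of_finite
  apply Nat.eq_of_mul_eq_mul_left h2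
  rw [show mm G p - 1 = ee G p * nn G p by rw [h.mm_eq hp]; simp] at h1
  linarith

/-- elements normalizing the centralizer of a real element -/
theorem mem_or_two {x g : G} (hx : Rl x) (hg : g ∈ Nm (C1 x)) : g ∈ C1 x ∨ PE 2 g := by
  obtain ⟨h2, h3, t, h4, h5⟩ := hx
  refine or_iff_not_imp_right.2 fun e => ?_
  have ho : Odd (orderOf g) := by_contra fun e' => e (h.pe_two e')
  have h6 : g⁻¹ * t * g * x * (g⁻¹ * t * g)⁻¹ = x⁻¹ := by
    have := h.inv_all h2 h3 h4 h5 (mem_C1.1 (Nm_conj hg (mem_C1.2 (rfl : Commute x x))))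
    rw [show g⁻¹ * t * g * x * (g⁻¹ * t * g)⁻¹ = g⁻¹ * (t * (g * x * g⁻¹) * t⁻¹) * g by group,
      inv_eq_of_mul_eq_one_right h4, this]; group
  -- `a = t g⁻¹ t g` centralizes `x`
  have h7 : Commute x (t * (g⁻¹ * t * g)) := by
    have : t * (g⁻¹ * t * g) * x * (t * (g⁻¹ * t * g))⁻¹ = x := by
      rw [show t * (g⁻¹ * t * g) * x * (t * (g⁻¹ * t * g))⁻¹ = t * (g⁻¹ * t * g * x * (g⁻¹ * t * g)⁻¹) * t⁻¹ by
        group, h6, ← conj_inv, inv_eq_of_mul_eq_one_right h4, h5, inv_inv]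
    exact (mul_inv_eq_iff_eq_mul.1 this).symm
  obtain ⟨k, hk⟩ := h.odd_C1 h2 h3 h7
  set a := t * (g⁻¹ * t * g) with ha
  have h8 := h.inv_all h2 h3 h4 h5 (h7.pow_right k)
  have h9 : a ^ k * a ^ k * a = 1 := by rw [← pow_add, ← pow_succ, ← two_mul, ← hk, pow_orderOf_eq_one]
  have h10 : Commute t (g * a ^ k) := by
    have e1 : t * g = g * t * a := by rw [ha, mul_assoc g, ← mul_assoc t, h4]; group
    have e2 : a ^ k * t = t * (a ^ k)⁻¹ := by rw [← h8, ← mul_assoc, ← mul_assoc, h4, one_mul]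
    have e3 : (a ^ k)⁻¹ = a * a ^ k := by
      rw [inv_eq_iff_mul_eq_one, ← pow_succ', pow_succ, ← mul_assoc, h9]
    change t * (g * a ^ k) = g * a ^ k * t
    rw [mul_assoc g, e2, e3, ← mul_assoc t g, e1]; group
  have ht : t ≠ 1 := fun e' => h3 (eq_one_of_inv h2 (by rw [← h5, e']; simp))
  obtain ⟨n, hn⟩ := h.pe_comm Nat.prime_two ⟨1, by simpa [sq] using h4⟩ ht h10
  refine mem_of_pow_mem (n := 2 ^ n) ((Nat.coprime_two_right.2 ho).pow_right n) ?_
  have : ∀ j : ℕ, (g ^ j)⁻¹ * (g * a ^ k) ^ j ∈ C1 x := fun j => by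
    induction j with
    | zero => simp
    | succ j ih =>
      rw [show (g ^ (j + 1))⁻¹ * (g * a ^ k) ^ (j + 1) = g⁻¹ * ((g ^ j)⁻¹ * (g * a ^ k) ^ j) * g * a ^ k by
        rw [pow_succ, pow_succ]; group]
      exact mul_mem (Nm_conj' hg ih) (mem_C1.2 (h7.pow_right k))
  simpa [hn] using this (2 ^ n)

theorem card_two_dvd {p : ℕ} (hp : p.Prime) {x : G} (hx : Rl x) (hd : p ∣ orderOf x) {Y : Subgroup G}
    (hY : IsPGroup 2 Y) (hle : Y ≤ Nm (C1 x)) : Nat.card Y ∣ ee G p := by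
  obtain ⟨n, hn⟩ := hY.exists_card_eq
  have h1 := card_dvd_of_le hle
  rw [h.card_Nm hp hx hd] at h1
  refine Nat.Coprime.dvd_of_dvd_mul_left ?_ h1
  rw [hn, mm]
  exact Nat.Coprime.pow _ _ (Nat.coprime_two_left.2 (hx.1.of_dvd_nat hd))

theorem ee_pow {p : ℕ} (hp : p ∈ RP G) : ∃ j, ee G p = 2 ^ (j + 1) := by
  obtain ⟨h2, x, hx, hd⟩ := mem_RP.1 hp
  have h0 : ee G p ≠ 0 := index_ne_zero_of_finite
  have h3 : ee G p = 2 ^ (ee G p).primeFactorsList.length := Nat.eq_prime_pow_of_unique_prime_dvd h0 fun {r} hr h4 => by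
    obtain ⟨g, hg, h5⟩ := exists_ord (U := Nm (C1 x)) hr (h.card_Nm h2 hx hd ▸ h4.mul_left _)
    have h6 : g ≠ 1 := fun e => hr.ne_one (by simpa [e] using h5.symm)
    rcases h.mem_or_two hx hg with e | e
    · have h7 := ((h.pe_comm h2 (h.pe h2 hd) hx.2.1 (mem_C1.1 e)).dvd h2 h6)
      rw [h5, Nat.prime_dvd_prime_iff_eq h2 hr] at h7
      subst h7
      have h8 := dvd_mm hp
      rw [h.mm_eq hp, Nat.dvd_add_right (h4.mul_right _)] at h8
      exact absurd h8 h2.not_dvd_one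
    · exact ((Nat.prime_dvd_prime_iff_eq Nat.prime_two hr).1 (h5 ▸ e.dvd Nat.prime_two h6)).symm
  obtain ⟨ho, h1, t, h4, h5⟩ := hx
  have ht : I2 t := ⟨h4, fun e' => h1 (eq_one_of_inv ho (by rw [← h5, e']; simp))⟩
  have h6 := h.card_two_dvd h2 ⟨ho, h1, t, h4, h5⟩ hd (Y := zpowers t) (isP_zpowers (n := 1) Nat.prime_two
    (by simpa [sq] using h4)) (zpowers_le_of_mem (mem_Nm fun y hy => by
      rw [ht.inv, h.inv_all ho h1 h4 h5 (mem_C1.1 hy)]; exact inv_mem hy))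
  rw [Nat.card_zpowers, i2_iff.1 ht] at h6
  generalize (ee G p).primeFactorsList.length = j at h3
  rcases j with _ | j
  · rw [h3] at h6; simp at h6
  · exact ⟨j, h3⟩

theorem dvd_pred {x : G} (hx : Rl x) {E X : Subgroup G}
    (hE : IsPGroup 2 E) (hX : X ≤ C1 x) (hn : E ≤ Nm X) : Nat.card E ∣ Nat.card X - 1 := by
  rw [← card_nt]
  refine Frob.dvd_card_of_free_conj E _ (fun g hg s hs => mem_nt.2 ⟨Nm_conj (hn hg) (mem_nt.1 hs).1, by
    simpa using (mem_nt.1 hs).2⟩) fun g hg s hs e => ?_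
  exact (h.odd_comm (pe_of_mem hE hg) (h.odd_C1 hx.1 hx.2.1 (mem_C1.1 (hX (mem_nt.1 hs).1)))
    (mul_inv_eq_iff_eq_mul.1 e)).resolve_right (mem_nt.1 hs).2

theorem inv_of_i2 {x t : G} (hx : Rl x) (ht : I2 t) (hn : t ∈ Nm (C1 x)) {y : G} (hy : y ∈ C1 x) :
    t * y * t = y⁻¹ := by
  have h1 : t * y * t ∈ C1 x := by simpa [ht.inv] using Nm_conj hn hy
  have h2 : Commute t (y * (t * y * t)) := by
    change t * (y * (t * y * t)) = y * (t * y * t) * t
    rw [mul_assoc y, mul_assoc _ t t, ht.1, mul_one, ((h.sc hx).comm hy h1).eq, ← mul_assoc, ← mul_assoc,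
      ← mul_assoc, ← mul_assoc, ht.1, one_mul, mul_assoc]
  exact eq_inv_of_mul_eq_one_right ((h.odd_comm ht.pe (h.odd_C1 hx.1 hx.2.1 (mem_C1.1 (mul_mem hy h1))) h2).resolve_left ht.2)

/-- a complement of the centralizer of a real element in its normalizer -/
theorem exists_E {p : ℕ} (hp : p.Prime) {x : G} (hx : Rl x) (hd : p ∣ orderOf x) : ∃ E ≤ Nm (C1 x),
    IsPGroup 2 E ∧ Nat.card E = ee G p ∧ ∀ a ∈ E, ∀ b ∈ E, I2 a → I2 b → a = b := by
  obtain ⟨j, hj⟩ := h.ee_pow (mem_RP.2 ⟨hp, x, hx, hd⟩)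
  obtain ⟨E, hE⟩ := Sylow.exists_subgroup_card_pow_prime (G := Nm (C1 x)) 2 (n := j + 1)
    (by rw [h.card_Nm hp hx hd, hj]; exact dvd_mul_left _ _)
  have h1 : Nat.card (E.map (Nm (C1 x)).subtype) = 2 ^ (j + 1) := by rw [card_map_sub, hE]
  have h2 := IsPGroup.of_card h1
  refine ⟨_, map_subtype_le _, h2, h1.trans hj.symm, fun a ha b hb h3 h4 => ?_⟩
  have h5 := h.inv_of_i2 hx h3 (map_subtype_le _ ha) (mem_C1.2 (rfl : Commute x x))
  have h6 := h.inv_of_i2 hx h4 (map_subtype_le _ hb) (mem_C1.2 (rfl : Commute x x))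
  have h7 : Commute (a * b) x := by
    change a * b * x = x * (a * b)
    calc a * b * x = a * (b * x * b) * b := by rw [mul_assoc a, mul_assoc a, mul_assoc _ b b, h4.1, mul_one]
      _ = (a * x * a)⁻¹ * (a * b) := by rw [h6, mul_inv_rev, mul_inv_rev, h3.inv, mul_assoc, mul_assoc,
          mul_assoc, ← mul_assoc a a, h3.1, one_mul]
      _ = _ := by rw [h5, inv_inv]
  rw [← h3.inv]
  exact inv_eq_of_mul_eq_one_right ((h.odd_comm (pe_of_mem h2 (mul_mem ha hb)) hx.1 h7).resolve_right hx.2.1)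

theorem index_mod {p : ℕ} (hp : p ∈ RP G) : ∃ c, Nat.card G = (mm G p * c + 1) * (mm G p * ee G p) := by
  have := Fact.mk (mem_RP.1 hp).1
  obtain ⟨c, hc⟩ := (h.sc_sylow hp default).card_sylow
  have h0 : (Nm ((default : Sylow p G) : Subgroup G)).index ≠ 0 := index_ne_zero_of_finite
  exact ⟨c, by rw [← card_Nm_sylow default, ← card_sylow default, ← hc, Nat.sub_add_cancel (Nat.pos_of_ne_zero h0),
    index_mul_card]⟩

/-- the number of pairs of involutions with a real product of odd order -/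
theorem pairs : Nat.card {x : G × G // I2 x.1 ∧ I2 x.2 ∧ Odd (orderOf (x.1 * x.2)) ∧ x.1 * x.2 ≠ 1} =
    Nat.card G * ∑ p ∈ RP G, nn G p := by
  classical
  have := Fintype.ofFinite G
  rw [Nat.card_eq_fintype_card, Fintype.card_subtype, card_eq_sum_card_fiberwise
    (f := fun x : G × G => (orderOf (x.1 * x.2)).minFac) (t := RP G) fun x hx => ?_, mul_sum]
  · refine sum_congr rfl fun p hp => ?_
    have h2 := (mem_RP.1 hp).1
    rw [← h.cnt_eq hp, cnt, Nat.card_eq_fintype_card, Fintype.card_subtype]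
    refine Frob.card_fiber_mul _ _ (fun x => x.1 * x.2) _ (fun x hx => ?_) fun y hy => ?_
    · simp only [mem_filter, mem_univ, true_and] at hx ⊢
      exact ⟨hx.1.2.2.2, h.pe h2 (hx.2 ▸ Nat.minFac_dvd _)⟩
    obtain ⟨h3, h4⟩ := (mem_filter.1 hy).2
    have h5 := h.rl_of_pe hp h4 h3
    rw [← h.card_C1 h2 h5 (h4.dvd h2 h3), ← Frob.card_sub]
    obtain ⟨ho, -, t, h6, h7⟩ := h5
    have hy1 : ∀ s, s * y * s = y⁻¹ → s ≠ 1 := fun s e e' => h3 (eq_one_of_inv ho (by rw [← e, e']; simp))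
    refine card_bij (fun x _ => t * x.1) (fun x hx => ?_) (fun x hx x' hx' e => ?_) fun c hc => ?_
    · simp only [mem_filter, mem_univ, true_and] at hx ⊢
      obtain ⟨⟨⟨e1, e2, -⟩, -⟩, rfl⟩ := hx
      refine mem_C1.2 ?_
      change x.1 * x.2 * (t * x.1) = t * x.1 * (x.1 * x.2)
      have : x.1 * x.2 * t = t * (x.1 * x.2)⁻¹ := by rw [← h7, ← mul_assoc, ← mul_assoc, h6, one_mul]
      rw [← mul_assoc, this, mul_inv_rev, e1.inv, e2.inv, mul_assoc, mul_assoc, e1.1, mul_assoc,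
        ← mul_assoc x.1, e1.1, one_mul, mul_one]
    · have e1 := mul_left_cancel e
      exact Prod.ext e1 (mul_left_cancel ((mem_filter.1 hx).2.trans (e1 ▸ (mem_filter.1 hx').2.symm)))
    · have h8 := mem_C1.1 (mem_filter.1 hc).2
      have h9 := h.inv_all ho h3 h6 h7 h8
      have h10 : t * c * (t * c) = 1 := by rw [← mul_assoc, h9, inv_mul_cancel]
      have h11 : t * c * y * (t * c) = y⁻¹ := by
        rw [mul_assoc t, ← mul_assoc, h.inv_all ho h3 h6 h7 (h8.mul_right rfl), mul_inv_rev, mul_assoc,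
          inv_mul_cancel, mul_one]
      have h12 : t * c * (t * c * y) = y := by rw [← mul_assoc, h10, one_mul]
      refine ⟨(t * c, t * c * y), ?_, by simp only [← mul_assoc, h6, one_mul]⟩
      simp only [mem_filter, mem_univ, true_and, h12]
      refine ⟨⟨⟨⟨h10, hy1 _ h11⟩, ⟨by rw [← mul_assoc, h11, inv_mul_cancel], fun e => h3 (eq_one_of_inv ho ?_)⟩,
        ho, h3⟩, ?_⟩, trivial⟩
      · rw [← h11, e, one_mul, ← h12, e, mul_one]
      · obtain ⟨n, hn⟩ := h4.ord h2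
        have := h4.dvd h2 h3
        rw [hn] at this ⊢
        exact h2.pow_minFac fun e => h2.not_dvd_one (by simpa [e] using this)
  · simp only [coe_filter, mem_univ, true_and, Set.mem_ofPred_eq] at hx
    exact mem_coe.2 (mem_RP.2 ⟨Nat.minFac_prime fun e => hx.2.2.2 (orderOf_eq_one_iff.1 e), _,
      rl_mul hx.1.1 hx.2.1.1 hx.2.2.1 hx.2.2.2, Nat.minFac_dvd _⟩)

end EPPO

theorem sum_cnt {s : Finset ℕ} (hs : ∀ p ∈ s, p.Prime) : ∑ p ∈ s, cnt G p + 1 ≤ Nat.card G := by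
  classical
  have := Fintype.ofFinite G
  have h1 : ∀ p, cnt G p = (univ.filter fun x : G => x ≠ 1 ∧ PE p x).card := fun p => by
    rw [cnt, Nat.card_eq_fintype_card, Fintype.card_subtype]
  simp only [h1]
  rw [← card_biUnion fun p hp q hq e => disjoint_left.2 fun x h2 h3 => ?_, Nat.card_eq_fintype_card,
    ← card_univ]
  · exact card_lt_card ⟨subset_univ _, fun e => by simpa using e (mem_univ 1)⟩
  · obtain ⟨n, hn⟩ := (mem_filter.1 h3).2.2.ord (hs q hq)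
    exact e ((Nat.prime_dvd_prime_iff_eq (hs p hp) (hs q hq)).1 ((hs p hp).dvd_of_dvd_pow
      (hn ▸ (mem_filter.1 h2).2.2.dvd (hs p hp) (mem_filter.1 h2).2.1)))

/-- the proportion of real elements of odd order -/
theorem EPPO.fsum (h : EPPO G) :
    ∑ p ∈ RP G, (nn G p : ℚ) / mm G p + (cnt G 2 + 1) / Nat.card G ≤ 1 := by
  have h2 : 2 ∉ RP G := fun e => (odd_of_RP e).not_two_dvd_nat dvd_rfl
  have h1 := sum_cnt (G := G) (s := insert 2 (RP G)) fun p hp =>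
    (mem_insert.1 hp).elim (fun e => e ▸ Nat.prime_two) fun e => (mem_RP.1 e).1
  rw [sum_insert h2] at h1
  have h0 : (0 : ℚ) < Nat.card G := by exact_mod_cast Nat.card_pos
  rw [sum_congr rfl fun p hp => show (nn G p : ℚ) / mm G p = cnt G p / Nat.card G by
    have : (0 : ℚ) < mm G p := by exact_mod_cast pow_pos (mem_RP.1 hp).1.pos _
    rw [div_eq_div_iff this.ne' h0.ne', mul_comm]; exact_mod_cast (h.cnt_eq hp).symm, ← sum_div, ← add_div,
    div_le_one h0]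
  exact_mod_cast (by omega : ∑ p ∈ RP G, cnt G p + (cnt G 2 + 1) ≤ Nat.card G)

/-- a parabolic subgroup -/
structure Pb (S V A : Subgroup G) (F : Type) [Field F] [Fintype F] : Prop where
  VS : V ≤ S
  AS : A ≤ S
  V2 : ∀ v ∈ V, v * v = 1
  A2 : ∀ a ∈ A, a * a = 1
  cV : Nat.card V = Fintype.card F ^ 2
  cA : Nat.card A = Fintype.card F ^ 2
  cW : Nat.card (V ⊓ A : Subgroup G) = Fintype.card F
  cS : Nat.card S = Fintype.card F ^ 3
  syl : ¬ 2 ∣ S.index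
  cen : Ce V = V
  fix : ∀ a ∈ A, a ∉ V → ∀ v ∈ V, Commute a v → v ∈ A
  tr : ∀ v ∈ V, ∀ w ∈ V, v ≠ 1 → w ≠ 1 → ∃ g ∈ Nm V, g * v * g⁻¹ = w
  hom : ∃ φ : Nm V →* Matrix.SpecialLinearGroup (Fin 2) F, Function.Surjective φ ∧ ∀ g, φ g = 1 ↔ (g : G) ∈ V

end Cfsg.Agent.EP
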