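import Cfsg.Agent.EP.Dih2
import Cfsg.Agent.EP.Concl
import Cfsg.Agent.Ord.O168
import Cfsg.Agent.S2220

/-! The case of a self-centralizing four-group. -/

set_option autoImplicit false

namespace Cfsg.Agent.EP

open Subgroup Finset Cfsg.Agent.SC3

theorem dih_arith {K N d a s : ℤ} {j : ℕ} (hK : K = 2 ^ (j + 3)) (hN : N = 1 + (K - 1) * K + K * 2 * s)
    (h0 : 0 < d) (h1 : d ∣ N * (K * 2)) (h2 : d + 1 ∣ N * (K * 2)) (h3 : 1 + a ^ 2 + (a + 1) ^ 2 ≤ K * 2)
    (h4 : N * (d - a) ^ 2 = 2 * K ^ 2 * (d * (d + 1))) :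
    N = (2 * K + 1) * (K + 1) ∨ N = (2 * K - 1) * (K - 1) := by
  have K8 : 8 ≤ K := by
    have : (1 : ℤ) ≤ 2 ^ j := one_le_pow₀ (by norm_num)
    rw [hK, pow_add]; linarith
  have odd : ∀ {x : ℤ} (n : ℕ), Odd x → IsCoprime x (2 ^ n) := fun n ⟨m, hm⟩ =>
    IsCoprime.pow_right ⟨1, -m, by rw [hm]; ring⟩
  obtain ⟨e, he⟩ := Int.even_mul_succ_self d
  obtain ⟨y, hy⟩ : 2 * K ∣ d - a := by
    refine (Int.pow_dvd_pow_iff two_ne_zero).1 (IsCoprime.dvd_of_dvd_mul_left (y := N) ?_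
      ⟨e, by rw [h4, he]; ring⟩)
    rw [hK, ← pow_succ', ← pow_mul]
    exact (odd _ ⟨2 ^ (j + 2) * (K - 1) + K * s, by rw [hN, hK]; ring⟩).symm
  have e1 : N * y ^ 2 = e := mul_left_cancel₀ (show 4 * K ^ 2 ≠ 0 by positivity) (by
    rw [hy, he] at h4; linear_combination h4)
  have e0 : 0 < e := by nlinarith
  have y0 : y ≠ 0 := by rintro rfl; simp at e1; omega
  have N0 : N ≠ 0 := by rintro rfl; simp at e1; omega
  have e2 : y ^ 2 ∣ K := by
    have := IsCoprime.mul_dvd ⟨-1, 1, by ring⟩ h1 h2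
    rw [he, ← e1, show N * y ^ 2 + N * y ^ 2 = N * 2 * y ^ 2 by ring, mul_comm K, ← mul_assoc] at this
    exact (mul_dvd_mul_iff_left (mul_ne_zero N0 two_ne_zero)).1 this
  have e3 := Int.le_of_dvd (by omega) e2
  have e4 : a * (a + 1) - 2 * y ^ 2 = 0 := by
    refine Int.eq_zero_of_abs_lt_dvd (m := |2 * K * y|) ((abs_dvd _ _).2
      ⟨y * (K - 1) + 2 * y * s - (2 * a + 1 + 2 * K * y), ?_⟩) ?_
    · obtain rfl : d = a + 2 * K * y := by linarith
      rw [hN] at e1
      linear_combination he - 2 * e1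
    · have a0 : 0 ≤ a * (a + 1) := by
        rcases (by omega : a ≤ -1 ∨ 0 ≤ a) with h | h <;> nlinarith
      have y1 : 1 ≤ |y| := Int.one_le_abs y0
      rw [abs_mul, abs_of_pos (by omega : 0 < 2 * K), abs_lt, ← sq_abs y]
      rw [← sq_abs y] at e3
      constructor <;> nlinarith
  have e5 : a * (a + 1) ∣ 2 ^ (j + 4) := by
    rw [sub_eq_zero.1 e4, pow_succ' 2 (j + 3), ← hK]; exact mul_dvd_mul_left 2 e2
  have e6 : a = 1 ∨ a = -2 := by
    have y2 : 0 < y ^ 2 := by positivity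
    rcases Int.even_or_odd a with h | h
    · rcases Int.isUnit_iff.1 ((odd _ h.add_one).isUnit_of_dvd ((dvd_mul_left _ _).trans e5)) with h | h
      · obtain rfl : a = 0 := by omega
        omega
      · omega
    · rcases Int.isUnit_iff.1 ((odd _ h).isUnit_of_dvd ((dvd_mul_right _ _).trans e5)) with h | h
      · omega
      · subst h; omega
  have e7 : y ^ 2 = 1 := by rcases e6 with rfl | rfl <;> omega
  have e8 : y = 1 := (sq_eq_one_iff.1 e7).resolve_right (by rintro rfl; omega)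
  subst e8
  obtain rfl : d = a + 2 * K := by linarith
  rcases e6 with rfl | rfl
  · left; nlinarith
  · right; nlinarith

theorem three_le_of_dvd {m A : ℕ} (h : m ∣ A) (ho : Odd A) (hne : m ≠ A) : 3 * m ≤ A := by
  obtain ⟨c, rfl⟩ := h
  obtain ⟨i, rfl⟩ := (Nat.odd_mul.1 ho).2
  rcases i with _ | i
  · simp at hne
  · nlinarith

variable {G : Type*} [Group G] [Finite G]

theorem mm_dvd_or {p A B i : ℕ} (hp : p ∈ RP G) (h : Nat.card G = A * B * 2 ^ i) (hc : A.Coprime B) :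
    mm G p ∣ A ∨ mm G p ∣ B := by
  have h1 := (mem_RP.1 hp).1
  refine (hc.isPrimePow_dvd_mul ?_).1 (Nat.Coprime.dvd_of_dvd_mul_right ?_ (h ▸ mm_dvd p))
  · exact h1.isPrimePow.pow fun e => h1.not_dvd_one (by simpa [mm, e] using EPPO.dvd_mm hp)
  · exact Nat.Coprime.pow _ _ (Nat.coprime_two_right.2 (odd_of_RP hp))

theorem eq_of_dvd_mm {p r : ℕ} (hp : p ∈ RP G) (hr : r ∈ RP G) (h : mm G r ∣ mm G p) : r = p :=
  (Nat.prime_dvd_prime_iff_eq (mem_RP.1 hr).1 (mem_RP.1 hp).1).1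
    ((mem_RP.1 hr).1.dvd_of_dvd_pow ((EPPO.dvd_mm hr).trans h))

theorem concl_nine [IsSimpleGroup G] (hG : ¬ IsMulCommutative G) (h : EPPO G) (h3 : 3 ∈ RP G) {q a : ℕ}
    (hq : q.Prime) (h5 : 5 ≤ q) (hc : Nat.card G = 9 * 2 ^ a * q ^ 1) : Concl G := by
  rcases S2220.result hG q a 1 hq (by omega) (by omega) hc default (h.sc_sylow h3 default) with
    e | ⟨F, _, _, e1, e2⟩ | e
  · exact Or.inl e
  · exact Or.inr (Or.inl ⟨F, inferInstance, inferInstance, by simp [e1], e2⟩)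
  · exact Or.inr (Or.inl ⟨ZMod 17, inferInstance, inferInstance, by simp, e⟩)

namespace Dh

variable {c v z : G} {k : ℕ} (D : Dh c v z k)
include D

theorem fs : ∑ p ∈ RP G, (nn G p : ℚ) / mm G p < (k + 1) / (2 * k) := by
  have h1 := D.h.fsum
  obtain ⟨j, hj⟩ := D.p2
  have h2 : 1 ≤ k := hj ▸ Nat.one_le_two_pow
  have h3 : (0 : ℚ) < (C1 z).index := by exact_mod_cast Nat.pos_of_ne_zero index_ne_zero_of_finite
  have h4 : (0 : ℚ) < k := by exact_mod_cast h2
  rw [D.cnt_two, D.card_G] at h1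
  push_cast [Nat.cast_sub h2] at h1
  have : (1 : ℚ) - (k + 1) / (2 * k) < ((C1 z).index * (k - 1) + 1) / ((C1 z).index * (k * 2)) := by
    rw [lt_div_iff₀ (by positivity)]
    have : (1 - (k + 1) / (2 * k)) * ((C1 z).index * (k * 2)) = ((C1 z).index : ℚ) * (k - 1) := by
      field_simp; ring
    linarith
  linarith

theorem lower {s : Finset ℕ} (hs : s ⊆ RP G) {a b : ℕ} (hb : 0 < b) (h : ∀ p ∈ s, a * mm G p ≤ b) :
    a * (∑ p ∈ s, nn G p) * (2 * k) < (k + 1) * b := by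
  have h1 := (sum_le_sum_of_subset_of_nonneg hs fun _ _ _ => by positivity).trans_lt D.fs
  obtain ⟨j, hj⟩ := D.p2
  have h4 : (0 : ℚ) < k := by rw [hj]; positivity
  have h2 : (a * (∑ p ∈ s, nn G p : ℕ) : ℚ) / b ≤ ∑ p ∈ s, (nn G p : ℚ) / mm G p := by
    push_cast
    rw [mul_sum, sum_div]
    refine sum_le_sum fun p hp => ?_
    have : (0 : ℚ) < mm G p := by exact_mod_cast pow_pos (mem_RP.1 (hs hp)).1.pos _
    rw [div_le_div_iff₀ (by positivity) this, mul_right_comm, mul_comm (nn G p : ℚ)]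
    exact mul_le_mul_of_nonneg_right (by exact_mod_cast h p hp) (by positivity)
  have h3 := h2.trans_lt h1
  rw [div_lt_div_iff₀ (by positivity) (by positivity)] at h3
  exact_mod_cast h3

theorem plus {j : ℕ} (hj : k = 2 ^ (j + 3)) (hN : (C1 z).index = (2 * k + 1) * (k + 1)) :
    Nat.card G = 9 * 2 ^ 4 * 17 ^ 1 := by
  have k8 : 8 ≤ k := by have := Nat.one_le_two_pow (n := j); rw [hj, pow_add]; omega
  have hc : Nat.card G = (2 * k + 1) * (k + 1) * 2 ^ (j + 4) := by rw [D.card_G, hN, pow_succ, ← hj]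
  have cp : (2 * k + 1).Coprime (k + 1) := by
    rw [show 2 * k + 1 = k + (k + 1) by ring, Nat.coprime_add_self_left]; simp
  have hS : 2 * ∑ p ∈ RP G, nn G p = k + 4 := by
    have := D.count
    obtain ⟨l, rfl⟩ : ∃ l, k = l + 1 := ⟨k - 1, by omega⟩
    rw [hN, add_tsub_cancel_right] at this
    exact Nat.eq_of_mul_eq_mul_left (Nat.succ_pos l) (by simp only [Nat.succ_eq_add_one]; linarith)
  obtain ⟨p, hp, e⟩ : ∃ p ∈ RP G, mm G p = 2 * k + 1 := by
    by_contra hn
    push Not at hn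
    have := D.lower Subset.rfl (a := 1) (b := k + 1) (by omega) fun p hp => by
      rcases mm_dvd_or hp hc cp with h | h
      · have := three_le_of_dvd h ⟨k, rfl⟩ (hn p hp); omega
      · have := Nat.le_of_dvd (by omega) h; omega
    nlinarith
  have p3 : 3 ≠ p := by
    rintro rfl
    have := pow3_eq (n := j + 4) (e.trans (by rw [hj]; ring))
    omega
  have n2 : nn G p = 2 := by
    obtain ⟨t, ht⟩ := D.h.index_mod hp
    have h1 := D.h.mm_eq hp
    have h2 := Nat.le_of_dvd (by omega) (D.ee_dvd hp)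
    rw [D.card_G, hN, e] at ht
    have h3 : k + (2 * k + 1) * k = ee G p + (2 * k + 1) * (t * ee G p) :=
      Nat.eq_of_mul_eq_mul_left (Nat.succ_pos (2 * k)) (by simp only [Nat.succ_eq_add_one]; linarith)
    have h4 := congrArg (· % (2 * k + 1)) h3
    simp only [Nat.add_mul_mod_self_left] at h4
    rw [Nat.mod_eq_of_lt (by omega), Nat.mod_eq_of_lt (by omega)] at h4
    rw [e, ← h4] at h1
    exact Nat.eq_of_mul_eq_mul_left (by omega : 0 < k) (by omega)
  have oth : ∀ r ∈ (RP G).erase p, mm G r ∣ k + 1 := fun r hr =>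
    (mm_dvd_or (mem_of_mem_erase hr) hc cp).resolve_left fun h =>
      ne_of_mem_erase hr (eq_of_dvd_mm hp (mem_of_mem_erase hr) (e ▸ h))
  obtain ⟨r, hr, e'⟩ : ∃ r ∈ (RP G).erase p, mm G r = k + 1 := by
    by_contra hn
    push Not at hn
    have := D.lower (erase_subset p _) (a := 3) (b := k + 1) (by omega) fun r hr =>
      three_le_of_dvd (oth r hr) ⟨2 ^ (j + 2), by rw [hj]; ring⟩ (hn r hr)
    rw [← add_sum_erase _ _ hp, n2] at hS
    nlinarith
  obtain rfl := eq_of_dvd_mm (mem_of_mem_erase hr) D.three (e' ▸ oth 3 (mem_erase.2 ⟨p3, D.three⟩))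
  obtain rfl : j = 0 := by have := pow3_eq (n := j + 3) (e'.trans (by rw [hj])); omega
  rw [hc, hj]; norm_num

theorem minus {j : ℕ} (hj : k = 2 ^ (j + 3)) (hN : (C1 z).index = (2 * (k - 1) + 1) * (k - 1)) :
    False := by
  have k8 : 8 ≤ k := by have := Nat.one_le_two_pow (n := j); rw [hj, pow_add]; omega
  have hS := D.count
  have hc := D.card_G
  obtain ⟨l, rfl⟩ : ∃ l, k = l + 1 := ⟨k - 1, by omega⟩
  rw [hN, add_tsub_cancel_right] at hS hc
  replace hc : Nat.card G = (2 * l + 1) * l * 2 ^ (j + 4) := by rw [hc, hj, pow_succ _ (j + 3)]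
  replace hS : 2 * ∑ p ∈ RP G, nn G p + 1 = l :=
    Nat.eq_of_mul_eq_mul_left (Nat.succ_pos l) (by simp only [Nat.succ_eq_add_one]; linarith)
  have := D.lower Subset.rfl (a := 3) (b := 2 * l + 1) (by omega) fun p hp => by
    have h1 := D.h.mm_eq hp
    have h2 := single_le_sum (f := nn G) (fun _ _ => Nat.zero_le _) hp
    obtain ⟨t, ht⟩ := D.ee_dvd hp
    rcases mm_dvd_or hp hc (by simp) with h | h
    · refine three_le_of_dvd h ⟨l, rfl⟩ fun e => ?_
      have h3 : ee G p ∣ 2 := (Nat.dvd_add_right (Dvd.intro _ rfl)).1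
        (show ee G p ∣ ee G p * nn G p + 2 from ⟨2 * t, by linarith⟩)
      have := Nat.le_of_dvd two_pos h3
      nlinarith
    · refine (three_le_of_dvd h ⟨_, hS.symm⟩ fun e => ?_).trans (by omega)
      have h3 : ee G p ∣ 2 := (Nat.dvd_add_right (Dvd.intro _ rfl)).1
        (show ee G p ∣ ee G p * nn G p + 2 from ⟨t, by linarith⟩)
      have := Nat.le_of_dvd two_pos h3
      obtain rfl : p = 3 := by_contra fun p3 => by
        have h4 := sum_le_sum_of_subset (f := nn G) (show {p, 3} ⊆ RP G by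
          simp [insert_subset_iff, hp, D.three])
        rw [sum_pair p3] at h4
        have := D.h.nn_pos D.three
        nlinarith
      have h5 : 3 ^ (Nat.card G).factorization 3 + 1 = 2 ^ (j + 3) := by rw [← hj, ← e]; rfl
      rw [prime_of_pow Nat.prime_three (fun a => by rw [a] at h5; omega) h5] at h5
      omega
  nlinarith

theorem four (hk : k = 4) : Nat.card G = 168 ∨ Nat.card G = 9 * 2 ^ 3 * 5 ^ 1 := by
  subst hk
  have hS := D.count
  have hc := D.card_G
  have hf := D.fs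
  have dat : ∀ p ∈ RP G, (mm G p = 2 * nn G p + 1 ∨ mm G p = 4 * nn G p + 1) ∧ 0 < nn G p ∧
      p ∣ mm G p := fun p hp => by
    refine ⟨?_, D.h.nn_pos hp, EPPO.dvd_mm hp⟩
    obtain ⟨i, hi⟩ := D.h.ee_pow hp
    have h1 := D.ee_dvd hp
    have h2 := Nat.le_of_dvd (by norm_num) h1
    have h3 := D.h.mm_eq hp
    have h4 : 2 ∣ ee G p := hi ▸ dvd_pow_self 2 (by omega)
    generalize ee G p = e at *
    interval_cases e <;> omega
  have bd : ∀ p ∈ RP G, ∀ a b : ℕ, 0 < b → a * mm G p ≤ b * nn G p →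
      (a : ℚ) / b ≤ nn G p / mm G p := fun p hp a b hb h => by
    have : (0 : ℚ) < mm G p := by exact_mod_cast pow_pos (mem_RP.1 hp).1.pos _
    rw [div_le_div_iff₀ (by positivity) this, mul_comm (nn G p : ℚ)]
    exact_mod_cast h
  have dv : ∀ s ⊆ RP G, ∏ p ∈ s, mm G p ∣ (C1 z).index := fun s hs =>
    Nat.Coprime.dvd_of_dvd_mul_right (Nat.Coprime.prod_left fun p hp =>
      Nat.Coprime.pow _ 3 (Nat.coprime_two_right.2 (odd_of_RP (hs hp))))
      (hc ▸ prod_mm_dvd fun p hp => (mem_RP.1 (hs hp)).1)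
  have big : ∀ p ∈ RP G, 3 ≠ p → 5 ≤ p ∧ (p ≠ 5 → 7 ≤ p) ∧ ¬ 3 ∣ mm G p := fun p hp h => by
    have h1 := (mem_RP.1 hp).1
    have h2 := Nat.odd_iff.1 (odd_of_RP hp)
    have h3 := h1.two_le
    exact ⟨by omega, by omega, fun a => h ((Nat.prime_dvd_prime_iff_eq Nat.prime_three h1).1
      (Nat.prime_three.dvd_of_dvd_pow a))⟩
  obtain ⟨a1, a2, a3⟩ := dat 3 D.three
  have b3 := bd 3 D.three 2 9 (by norm_num) (by omega)
  rcases ((RP G).erase 3).eq_empty_or_nonempty with h | ⟨p, hp⟩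
  · have h1 := dv {3} (by simp [D.three])
    rw [← add_sum_erase _ _ D.three, h, sum_empty] at hS
    rw [prod_singleton, hS] at h1
    have h2 : mm G 3 ∣ 99 := by
      rcases a1 with e | e
      · exact ((Nat.dvd_add_right (Dvd.intro 4 rfl)).1 (show mm G 3 ∣ mm G 3 * 4 + 9 by
          convert h1 using 1; omega)).mul_right 11
      · exact ((Nat.dvd_add_right (Dvd.intro 2 rfl)).1 (show mm G 3 ∣ mm G 3 * 2 + 11 by
          convert h1 using 1; omega)).mul_left 9
    obtain ⟨t, ht⟩ := h1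
    have h3 : nn G 3 ≤ 49 := by have := Nat.le_of_dvd (by norm_num) h2; omega
    generalize nn G 3 = n at *
    rcases a1 with e | e <;> rw [e] at ht h2 a3 <;> interval_cases n <;> omega
  obtain ⟨p3, hp⟩ := mem_erase.1 hp
  have h : RP G = {3, p} := by
    refine Subset.antisymm (fun r hr => by_contra fun hn => ?_) (by simp [insert_subset_iff, hp, D.three])
    simp only [mem_insert, mem_singleton, not_or] at hn
    have h1 := sum_le_sum_of_subset_of_nonneg (f := fun p => (nn G p : ℚ) / mm G p)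
      (show {3, p, r} ⊆ RP G by simp [insert_subset_iff, hp, hr, D.three]) fun _ _ _ => by positivity
    rw [sum_insert (by simp [p3.symm, Ne.symm hn.1]), sum_pair (Ne.symm hn.2)] at h1
    have key : ∀ p ∈ RP G, 3 ≠ p → (1 : ℚ) / 5 ≤ nn G p / mm G p ∧
        (p ≠ 5 → (3 : ℚ) / 13 ≤ nn G p / mm G p) := fun p hp h => by
      obtain ⟨c1, c2, c3⟩ := dat p hp
      obtain ⟨c4, c5, c6⟩ := big p hp h
      have := Nat.le_of_dvd (by omega) c3
      exact ⟨bd p hp 1 5 (by norm_num) (by omega), fun a => bd p hp 3 13 (by norm_num) (by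
        have := c5 a; omega)⟩
    obtain ⟨c1, c2⟩ := key p hp p3.symm
    obtain ⟨c3, c4⟩ := key r hr (Ne.symm hn.1)
    push_cast at b3 hf
    by_cases a : p = 5
    · have := c4 (a ▸ hn.2); linarith
    · have := c2 a; linarith
  have h1 := dv _ Subset.rfl
  rw [h, sum_pair p3.symm] at hS hf
  rw [h, prod_pair p3.symm, hS] at h1
  obtain ⟨c1, c2, c3⟩ := dat p hp
  obtain ⟨c4, -, c6⟩ := big p hp p3.symm
  have c5 := Nat.le_of_dvd (by omega) c3
  have h2 := Nat.le_of_dvd (by omega) h1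
  have h3 : mm G 3 = 3 → 5 * nn G p < 2 * mm G p := fun e => by_contra fun a => by
    have := bd 3 D.three 1 3 (by norm_num) (by omega)
    have := bd p hp 2 5 (by norm_num) (by omega)
    push_cast at *; linarith
  obtain ⟨t, ht⟩ := h1
  have h4 : mm G 3 = 3 ∨ mm G 3 = 9 := by
    have : mm G 3 ≤ 25 := by
      have h6 : mm G 3 * mm G p ≤ 5 + 4 * mm G 3 + 4 * mm G p := by omega
      have h7 : 5 ≤ mm G p := by omega
      by_contra h8
      nlinarith [Nat.mul_le_mul (Nat.le_of_not_lt (mt Nat.le_of_lt_succ h8)) h7]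
    unfold mm at *
    generalize (Nat.card G).factorization 3 = f at *
    rcases f with _ | _ | _ | f
    · omega
    · simp
    · simp
    · rw [pow_add] at this; have := Nat.one_le_pow f 3 (by norm_num); omega
  rcases h4 with e | e
  · have h5 := h3 e
    rw [e] at ht a1
    have h6 : mm G p ∣ 19 := (Nat.dvd_add_right (Dvd.intro 2 rfl)).1
      (show mm G p ∣ mm G p * 2 + 19 from ⟨3 * t, by rw [← mul_assoc, mul_comm _ 3, ← ht]; omega⟩)
    have := (Nat.dvd_prime (by norm_num)).1 h6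
    omega
  · rw [e] at ht a1 h2
    have : mm G p ≤ 8 := by omega
    generalize mm G p = m at *
    interval_cases m <;> omega

end Dh

theorem q2 [IsSimpleGroup G] (hG : ¬ IsMulCommutative G) (h : EPPO G) (V : Subgroup G)
    (hV : Nat.card V = 4) (hC : centralizer (V : Set G) = V)
    (hN : Nat.card (normalizer (V : Set G)) = 24) : Concl G := by
  obtain ⟨c, v, z, k, D⟩ := exists_dh hG h hV hC hN
  obtain ⟨_ | j, hj⟩ := D.p2
  · rcases D.four hj with e | e
    · exact Or.inr (Or.inl ⟨ZMod 7, inferInstance, inferInstance, by simp, Ord.o168 h e⟩)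
    · exact concl_nine hG h D.three (by norm_num) le_rfl e
  have k1 : 1 ≤ k := hj ▸ Nat.one_le_two_pow
  obtain ⟨d, a, h1, h2, h3, h4, h5⟩ := D.chars ⟨2 ^ j, by rw [hj]; ring⟩
  rw [D.card_G] at h2 h3
  rcases dih_arith (K := k) (N := (C1 z).index) (d := d) (a := a) (s := (∑ p ∈ RP G, nn G p : ℕ)) (j := j)
    (by exact_mod_cast hj) (by rw [D.count]; push_cast [Nat.cast_sub k1]; rfl) (by exact_mod_cast h1)
    (by exact_mod_cast h2) (by exact_mod_cast h3) h4 h5 with e | e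
  · exact concl_nine hG h D.three (by norm_num) (by norm_num) (D.plus hj (by exact_mod_cast e))
  · exact (D.minus hj (by zify [k1]; linarith)).elim

end Cfsg.Agent.EP
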