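import Cfsg.Agent.EP.Tools
import Cfsg.Agent.Frob.Syl

/-! The dihedral Sylow subgroup. -/

set_option autoImplicit false

namespace Cfsg.Agent.EP

open Subgroup Finset Cfsg.Agent.SC3

variable {G : Type*} [Group G]

theorem inv_zp {c v w : G} (hv : v * v = 1) (h : v * c * v = c⁻¹) (hw : w ∈ zpowers c) :
    v * w * v = w⁻¹ := by
  obtain ⟨i, rfl⟩ := hw
  have e := inv_eq_of_mul_eq_one_right hv
  change v * c ^ i * v = (c ^ i)⁻¹
  rw [← inv_zpow, ← h]
  nth_rewrite 2 [← e]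
  nth_rewrite 4 [← e]
  rw [conj_zpow, e]

/-- the dihedral group -/
def DD (c v : G) (hv : v * v = 1) (h : v * c * v = c⁻¹) : Subgroup G where
  carrier := {g | g ∈ zpowers c ∨ v * g ∈ zpowers c}
  one_mem' := Or.inl (one_mem _)
  mul_mem' := by
    rintro a b (ha | ha) (hb | hb)
    · exact Or.inl (mul_mem ha hb)
    · refine Or.inr ?_
      rw [show v * (a * b) = v * a * v * (v * b) by
        rw [mul_assoc (v * a), ← mul_assoc v v, hv, one_mul, mul_assoc], inv_zp hv h ha]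
      exact mul_mem (inv_mem ha) hb
    · exact Or.inr (mul_assoc v a b ▸ mul_mem ha hb)
    · refine Or.inl ?_
      rw [show a * b = v * (v * a) * v * (v * b) by
        rw [← mul_assoc v v, hv, one_mul, mul_assoc, ← mul_assoc v v, hv, one_mul], inv_zp hv h ha]
      exact mul_mem (inv_mem ha) hb
  inv_mem' := by
    rintro a (ha | ha)
    · exact Or.inl (inv_mem ha)
    · refine Or.inr ?_
      have := inv_zp hv h ha
      rw [← mul_assoc, hv, one_mul, mul_inv_rev, inv_eq_of_mul_eq_one_right hv] at this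
      rwa [← mul_right_cancel this]

theorem mem_DD {c v g : G} {hv : v * v = 1} {h : v * c * v = c⁻¹} :
    g ∈ DD c v hv h ↔ g ∈ zpowers c ∨ v * g ∈ zpowers c := Iff.rfl

theorem sq_of_vK {c v g : G} (hv : v * v = 1) (h : v * c * v = c⁻¹) (hg : v * g ∈ zpowers c) :
    g * g = 1 := by
  have := inv_zp hv h hg
  rw [← mul_assoc, hv, one_mul, mul_inv_rev, inv_eq_of_mul_eq_one_right hv] at this
  nth_rewrite 1 [mul_right_cancel this]
  exact inv_mul_cancel g

theorem conj_vc {c v : G} (hv : v * v = 1) (h : v * c * v = c⁻¹) (m i : ℤ) :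
    c ^ m * (v * c ^ i) * (c ^ m)⁻¹ = v * c ^ (i - 2 * m) := by
  have := inv_zp hv h (zpow_mem (mem_zpowers c) m)
  calc _ = v * (v * c ^ m * v) * c ^ i * (c ^ m)⁻¹ := by
        rw [← mul_assoc v, ← mul_assoc v, hv]; group
    _ = _ := by rw [this]; group

theorem four_eq [Finite G] {V : Subgroup G} (hV : Nat.card V = 4) {a b : G} (ha : a ∈ V) (hb : b ∈ V)
    (h1 : I2 a) (h2 : I2 b) (h : a ≠ b) {x : G} (hx : x ∈ V) : x = 1 ∨ x = a ∨ x = b ∨ x = a * b := by
  classical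
  have := Fintype.ofFinite G
  have e : ({1, a, b, a * b} : Finset G) = univ.filter (· ∈ V) := eq_of_subset_of_card_le
    (fun y hy => by
      simp only [mem_insert, mem_singleton] at hy
      rcases hy with rfl | rfl | rfl | rfl <;> simp [*, mul_mem]) (by
      have h3 : a * b ≠ 1 := fun e => h (by rw [← h1.inv]; exact inv_eq_of_mul_eq_one_right e)
      rw [Frob.card_sub, hV, card_insert_of_notMem (by simp [h1.2.symm, h2.2.symm, h3.symm]),
        card_insert_of_notMem (by simp [h, h2.2]), card_pair (by simp [h1.2])])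
  simpa using e.ge (mem_filter.2 ⟨mem_univ x, hx⟩)

/-- dihedral data -/
structure Dh (c v z : G) (k : ℕ) : Prop where
  h : EPPO G
  oc : orderOf c = k
  p2 : ∃ j, k = 2 ^ (j + 2)
  v2 : I2 v
  vK : v ∉ zpowers c
  inv : v * c * v = c⁻¹
  z2 : I2 z
  zK : z ∈ zpowers c
  cen : ∀ g, Commute z g ↔ g ∈ zpowers c ∨ v * g ∈ zpowers c
  uniq : ∀ w ∈ zpowers c, I2 w → w = z
  conj : ∀ w, I2 w → IsConj z w
  three : 3 ∈ RP G

variable [Finite G]

theorem exists_three (h : EPPO G) {N : Subgroup G} (hN : Nat.card N = 24) :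
    ∃ k ∈ N, orderOf k = 3 ∧ ∃ t ∈ N, I2 t ∧ t * k * t = k⁻¹ := by
  obtain ⟨k, hk⟩ := exists_prime_orderOf_dvd_card' (G := N) 3 (by rw [hN]; norm_num)
  have h1 := sylow_index (p := 3) (a := 1) (T := zpowers k) (by rw [Nat.card_zpowers, hk]; rfl)
    (by rw [hN]; norm_num)
  have h2 := (Nm (zpowers k)).index_mul_card
  rw [hN] at h2
  have h3 : 2 ∣ Nat.card (Nm (zpowers k)) := by
    have h4 := Nat.le_of_dvd (by norm_num) (Dvd.intro _ h2)
    unfold Nat.ModEq at h1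
    generalize (Nm (zpowers k)).index = a at *
    interval_cases a <;> omega
  obtain ⟨t, ht, ht'⟩ := exists_ord Nat.prime_two h3
  have h4 : I2 (t : G) := i2_iff.2 ((orderOf_coe t).trans ht')
  have h5 : orderOf (k : G) = 3 := (orderOf_coe k).trans hk
  refine ⟨k, k.2, h5, t, t.2, h4, ?_⟩
  rcases (mem_Ak hk).1 ht with e | e
  · have := h.odd_comm h4.pe (y := k) (by rw [h5]; decide)
      (mul_inv_eq_iff_eq_mul.1 (congrArg Subtype.val e))
    exact absurd this (by simp [h4.2, ne_one_of_ord h5])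
  · simpa [h4.inv] using congrArg Subtype.val e

theorem dihedral [IsSimpleGroup G] (hG : ¬ IsMulCommutative G) (h : EPPO G) {S : Subgroup G}
    (hS : IsPGroup 2 S) {v z t : G} (hz : I2 z) (hC : C1 z = S) (hv : I2 v) (hvS : v ∈ S)
    (ht : t * t = 1) (htS : t ∈ S) (e : t * v * t = v * z)
    (hV : ∀ s ∈ S, Commute v s → s = 1 ∨ s = v ∨ s = z ∨ s = v * z) :
    ∃ c, ∃ h1 : v * c * v = c⁻¹, (∃ j, orderOf c = 2 ^ (j + 2)) ∧ v ∉ zpowers c ∧ z ∈ zpowers c ∧
      (∀ w ∈ zpowers c, I2 w → w = z) ∧ S = DD c v hv.1 h1 := by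
  classical
  obtain ⟨⟨x, hx, hx2⟩, hm⟩ := @Finite.exists_max {x // x ∈ S ∧ x * x = 1} ℕ _ ⟨⟨t, htS, ht⟩⟩ _
    fun x => orderOf (v * x)
  have hm' : ∀ y ∈ S, y * y = 1 → orderOf (v * y) ≤ orderOf (v * x) := fun y a b => hm ⟨y, a, b⟩
  have hzS : z ∈ S := hC ▸ mem_C1.2 rfl
  have cz : ∀ s ∈ S, Commute z s := fun s hs => mem_C1.1 (hC.ge hs)
  have h1 : v * (v * x) * v = (v * x)⁻¹ := by
    rw [← mul_assoc, hv.1, one_mul, mul_inv_rev, hv.inv, inv_eq_of_mul_eq_one_right hx2]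
  have hcS : v * x ∈ S := mul_mem hvS hx
  have hxc : x = v * (v * x) := by rw [← mul_assoc, hv.1, one_mul]
  generalize v * x = c at *
  have sqd : ∀ y : G, PE 2 y → y * y ≠ 1 → orderOf y = 2 * orderOf (y * y) := by
    intro y hy h2
    have := hy.dvd Nat.prime_two fun e => h2 (by simp [e])
    rw [← sq, orderOf_pow_of_dvd two_ne_zero this, Nat.mul_div_cancel' this]
  obtain ⟨j, hj⟩ : ∃ j, orderOf c = 2 ^ (j + 2) := by
    have h2 := hm' t htS ht
    have h3 : v * t * (v * t) = z := by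
      rw [mul_assoc, ← mul_assoc t, e, ← mul_assoc, hv.1, one_mul]
    rw [sqd _ (pe_of_mem hS (mul_mem hvS htS)) (h3 ▸ hz.2), h3, i2_iff.1 hz] at h2
    obtain ⟨n, hn⟩ := (pe_of_mem hS hcS).ord Nat.prime_two
    rcases n with _ | _ | n
    · omega
    · omega
    · exact ⟨n, hn⟩
  have c2 : c * c ≠ 1 := fun e => by
    have := Nat.le_of_dvd two_pos (orderOf_dvd_of_pow_eq_one ((sq c).trans e))
    rw [hj, pow_add] at this
    have := Nat.one_le_two_pow (n := j); omega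
  have nvc : ¬ Commute v c := fun e => c2 (by
    nth_rewrite 1 [← inv_inv c]
    rw [← h1, e.eq, mul_assoc c, hv.1, mul_one, inv_mul_cancel])
  have hcc : ∀ w ∈ zpowers c, Commute w c := by
    rintro _ ⟨i, rfl⟩; exact (Commute.refl c).zpow_left i
  have vK : v ∉ zpowers c := fun e => nvc (hcc v e)
  have KS : zpowers c ≤ S := zpowers_le_of_mem hcS
  have uq : ∀ w ∈ zpowers c, I2 w → w = z := by
    intro w hw h2
    have h3 := inv_zp hv.1 h1 hw
    rw [h2.inv] at h3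
    rcases hV w (KS hw) (show v * w = w * v by
      nth_rewrite 2 [← h3]; rw [mul_assoc _ v, hv.1, mul_one]) with e | e | e | e
    · exact absurd e h2.2
    · exact absurd (e ▸ hw) vK
    · exact e
    · refine absurd ?_ nvc
      have := (hcc w hw).mul_left (cz c hcS)
      rwa [e, mul_assoc, hz.1, mul_one] at this
  have zK : z ∈ zpowers c := by
    obtain ⟨i, hi⟩ := exists_i2_pow (x := c) (by rw [hj]; exact dvd_pow_self 2 (by omega))
    exact uq _ (npow_mem_zpowers c i) hi ▸ npow_mem_zpowers c i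
  refine ⟨c, h1, ⟨j, hj⟩, vK, zK, uq, ?_⟩
  set D := DD c v hv.1 h1 with hD
  have KD : zpowers c ≤ D := fun _ h => Or.inl h
  have vD : v ∈ D := Or.inr (hv.1 ▸ one_mem _)
  have DS : D ≤ S := by
    rintro g (hg | hg)
    · exact KS hg
    · exact (S.mul_mem_cancel_left hvS).1 (KS hg)
  have VD : ∀ s ∈ S, Commute v s → s ∈ D := fun s a b => by
    rcases hV s a b with rfl | rfl | rfl | rfl
    exacts [one_mem _, vD, KD zK, mul_mem vD (KD zK)]
  have same : ∀ y ∈ S, ∀ y' ∈ S, ∀ i m : ℤ, y * v * y⁻¹ = v * c ^ i →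
      y' * v * y'⁻¹ = v * c ^ (i - 2 * m) → y'⁻¹ * (c ^ m * y) ∈ D := by
    intro y a y' b i m e1 e2
    refine VD _ (mul_mem (inv_mem b) (mul_mem (KS (zpow_mem (mem_zpowers c) m)) a)) ?_
    rw [← conj_vc hv.1 h1, ← e1] at e2
    change v * _ = _ * v
    calc _ = y'⁻¹ * (y' * v * y'⁻¹) * (c ^ m * y) := by group
      _ = _ := by rw [e2]; group
  have odd : ∀ y ∈ S ⊓ Nm D, y ∉ D → ∃ i : ℤ, y * v * y⁻¹ = v * c ^ (2 * i + 1) := by
    intro y hy hn
    have nK : ∀ y ∈ Nm D, y * c * y⁻¹ ∈ zpowers c := fun y hy =>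
      (Nm_conj hy (KD (mem_zpowers c))).resolve_right fun e => c2 (by
        have := sq_of_vK hv.1 h1 e
        rwa [conj_mul, mul_inv_eq_one, mul_eq_left] at this)
    obtain ⟨i, hi⟩ := (Nm_conj hy.2 vD).resolve_left fun e => vK (by
      obtain ⟨i, hi⟩ := e
      have := zpow_mem (nK _ (inv_mem hy.2)) i
      rwa [conj_zpow, show c ^ i = _ from hi, ← mul_assoc, ← mul_assoc, inv_mul_cancel, one_mul,
        inv_inv, inv_mul_cancel_right] at this)
    have hi' : y * v * y⁻¹ = v * c ^ i := by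
      rw [show c ^ i = _ from hi, ← mul_assoc, hv.1, one_mul]
    rcases Int.even_or_odd' i with ⟨m, rfl | rfl⟩
    · have := same y hy.1 1 (one_mem _) _ m hi' (by simp)
      rw [inv_one, one_mul] at this
      exact absurd ((D.mul_mem_cancel_left (KD (zpow_mem (mem_zpowers c) m))).1 this) hn
    · exact ⟨m, hi'⟩
  have inD : ∀ y ∈ S ⊓ Nm D, y * y = 1 → y ∈ D := by
    intro y hy h2
    by_contra hn
    obtain ⟨i, hi⟩ := odd y hy hn
    have h3 : v * y * (v * y) = c ^ (2 * i + 1) := by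
      rw [mul_assoc, ← mul_assoc y]
      nth_rewrite 2 [← inv_eq_of_mul_eq_one_right h2]
      rw [hi, ← mul_assoc, hv.1, one_mul]
    have h4 : orderOf c ∣ orderOf (c ^ (2 * i + 1)) := by
      have : (orderOf c : ℤ) ∣ (2 * i + 1) * orderOf (c ^ (2 * i + 1)) := by
        rw [orderOf_dvd_iff_zpow_eq_one, zpow_mul, zpow_natCast, pow_orderOf_eq_one]
      refine Int.natCast_dvd_natCast.1 (IsCoprime.dvd_of_dvd_mul_left ?_ this)
      rw [hj]; push_cast
      exact IsCoprime.pow_left ⟨-i, 1, by ring⟩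
    have h5 := hm' y hy.1 h2
    rw [sqd _ (pe_of_mem hS (mul_mem hvS hy.1)) (h3 ▸ fun e => by
      rw [e, orderOf_one, hj] at h4
      exact absurd (Nat.dvd_one.1 h4) (by simp)), h3] at h5
    have := Nat.le_of_dvd (orderOf_pos _) h4
    have := orderOf_pos c; omega
  have SN : S ≤ S ⊓ Nm D := by
    by_contra hn
    obtain ⟨g, a, b, hg⟩ := Frob.exists_norm_notMem hS (inf_le_left : S ⊓ Nm D ≤ S) hn
    have k1 : ∀ y ∈ D, y * y = 1 → g * y * g⁻¹ ∈ D := fun y c1 c2 =>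
      inD _ (Nm_conj hg ⟨DS c1, le_Nm D c1⟩) (by rw [conj_mul, c2]; simp)
    have k2 : g * c * g⁻¹ ∈ D := by
      have := mul_mem (k1 v vD hv.1) (k1 x (hxc ▸ mul_mem vD (KD (mem_zpowers c))) hx2)
      rwa [conj_mul, hxc, ← mul_assoc v, hv.1, one_mul] at this
    have k3 : ∀ w ∈ zpowers c, g * w * g⁻¹ ∈ D := by
      rintro _ ⟨i, rfl⟩
      have := zpow_mem k2 i
      rwa [conj_zpow] at this
    refine b ⟨a, mem_Nm ?_⟩
    rintro w (hw | hw)
    · exact k3 w hw
    · have := mul_mem (k1 v vD hv.1) (k3 _ hw)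
      rwa [conj_mul, ← mul_assoc v, hv.1, one_mul] at this
  refine le_antisymm (fun y0 hy0 => by_contra fun hn => ?_) DS
  let φ : S →* ℤˣ := ⟨⟨fun h => if (h : G) ∈ D then 1 else -1, by simp⟩, fun a b => by
    by_cases h1 : (a : G) ∈ D <;> by_cases h2 : (b : G) ∈ D
    · simp [h1, h2, mul_mem]
    · simp [h1, h2, D.mul_mem_cancel_left h1]
    · simp [h1, h2, D.mul_mem_cancel_right h2]
    · obtain ⟨i, hi⟩ := odd _ (SN b.2) h2
      obtain ⟨i', hi'⟩ := odd _ (SN (inv_mem a.2)) (mt inv_mem_iff.1 h1)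
      have h3 := same _ b.2 _ (inv_mem a.2) _ (i - i') hi (by rw [hi']; congr 2; ring)
      rw [inv_inv, show (a : G) * (c ^ (i - i') * b) = a * c ^ (i - i') * (a : G)⁻¹ * (a * b) by group,
        D.mul_mem_cancel_left (Nm_conj (SN a.2).2 (KD (zpow_mem (mem_zpowers c) _)))] at h3
      simp [h1, h2, h3]⟩
  have star : ∀ y ∈ S, y * y ≠ 1 → ∀ n : ℕ, I2 (y ^ n) → y ^ n = z := by
    intro y hy h2 n hn'
    refine uq _ ((inD _ (SN (pow_mem hy n)) hn'.1).resolve_right ?_) hn'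
    rintro ⟨i, hi⟩
    have hi' : y ^ n = v * c ^ i := by rw [show c ^ i = _ from hi, ← mul_assoc, hv.1, one_mul]
    obtain ⟨s, hs, e⟩ : ∃ s ∈ S, s * v * s⁻¹ = y ^ n := by
      rcases Int.even_or_odd' i with ⟨m, rfl | rfl⟩
      · refine ⟨c ^ (-m), KS (zpow_mem (mem_zpowers c) _), ?_⟩
        have := conj_vc hv.1 h1 (-m) 0
        rw [zpow_zero, mul_one] at this
        rw [this, hi']; congr 2; ring
      · obtain ⟨i', e⟩ := odd _ (SN hy0) hn
        refine ⟨c ^ (i' - m) * y0, mul_mem (KS (zpow_mem (mem_zpowers c) _)) hy0, ?_⟩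
        rw [hi', show 2 * m + 1 = 2 * i' + 1 - 2 * (i' - m) by ring, ← conj_vc hv.1 h1, ← e]
        group
    have h3 : Commute v (s⁻¹ * y * s) := by
      rw [← commute_conj (g := s), e, show s * (s⁻¹ * y * s) * s⁻¹ = y by group]
      exact (Commute.refl y).pow_left n
    have h4 : s⁻¹ * y * s * (s⁻¹ * y * s) = 1 := by
      rcases hV _ (mul_mem (mul_mem (inv_mem hs) hy) hs) h3 with e | e | e | e <;> rw [e]
      exacts [one_mul _, hv.1, hz.1, by
        rw [mul_assoc, ← mul_assoc z, (cz v hvS).eq, mul_assoc, hz.1, mul_one, hv.1]]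
    exact h2 (by
      rw [show y * y = s * (s⁻¹ * y * s * (s⁻¹ * y * s)) * s⁻¹ by group, h4]; simp)
  have := transfer1 hG φ ⟨y0, hy0⟩ fun g hg n hn' => by
    change (if _ ∈ D then _ else _) = _
    refine if_pos (inD _ (SN hn') (by_contra fun h2 => hg ?_))
    have h3 : y0 ^ n * y0 ^ n ≠ 1 := fun e => h2 (by
      rw [show g⁻¹ * y0 ^ n * g * (g⁻¹ * y0 ^ n * g) = g⁻¹ * (y0 ^ n * y0 ^ n) * g by group, e]; simp)
    obtain ⟨l, hl⟩ := exists_i2_pow ((pe_of_mem hS (pow_mem hy0 n)).dvd Nat.prime_two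
      fun e => h3 (by simp [e]))
    have e1 := star _ (pow_mem hy0 n) h3 l hl
    have e2 : (g⁻¹ * y0 ^ n * g) ^ l = g⁻¹ * z * g := by
      rw [← e1]; simpa using conj_pow (a := g⁻¹) (b := y0 ^ n) (i := l)
    have e3 := star _ hn' h2 l (e2 ▸ by simpa using hz.conj g⁻¹)
    rw [e2] at e3
    refine hC.le (mem_C1.2 ?_)
    change z * g = g * z
    nth_rewrite 2 [← e3]
    group
  change (if _ ∈ D then _ else _) = _ at this
  rw [if_neg hn] at this
  exact absurd this (by decide)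

theorem exists_dh [IsSimpleGroup G] (hG : ¬ IsMulCommutative G) (h : EPPO G) {V : Subgroup G}
    (hV : Nat.card V = 4) (hC : Ce V = V) (hN : Nat.card (Nm V) = 24) :
    ∃ (c v z : G) (k : ℕ), Dh c v z k := by
  obtain ⟨k, hk, k3, t, ht, t2, e⟩ := exists_three h hN
  have k1 := ne_one_of_ord k3
  obtain ⟨w, hw, w2⟩ := exists_ord (U := V) Nat.prime_two (by rw [hV]; norm_num)
  have w2 := i2_iff.2 w2
  have hw' := Nm_conj hk hw
  have ne : w ≠ k * w * k⁻¹ := fun e => by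
    have := h.odd_comm w2.pe (y := k) (by rw [k3]; decide) (eq_mul_inv_iff_mul_eq.1 e)
    simp [w2.2, k1] at this
  have cV : ∀ a ∈ V, ∀ b ∈ V, Commute a b := fun a ha b hb => mem_Ce.1 (hC.ge ha) b hb
  have V2 : ∀ a ∈ V, a * a = 1 := fun a ha => by
    rcases four_eq hV hw hw' w2 (w2.conj k) ne ha with e | e | e | e <;> rw [e]
    exacts [one_mul _, w2.1, (w2.conj k).1, by
      rw [(cV _ hw' _ hw).mul_mul_mul_comm, w2.1, (w2.conj k).1, one_mul]]
  have tV : t ∉ V := fun a => by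
    have h1 := V2 _ (mul_mem a (Nm_conj hk a))
    rw [← mul_assoc t, ← mul_assoc t, e, ← mul_inv_rev, sq3 k3, inv_inv, sq3 k3] at h1
    exact k1 (inv_eq_one.1 h1)
  have hP : IsPGroup 2 (V ⊔ zpowers t : Subgroup G) := isP_of_pe fun x hx => by
    obtain ⟨u, hu, s, hs, rfl⟩ := mem_sup_Nm (zpowers_le_of_mem ht) hx
    refine ⟨2, ?_⟩
    have : u * s * (u * s) ∈ V := by
      rcases t2.zp hs with rfl | rfl
      · simpa using mul_mem hu hu
      · simpa [t2.inv, mul_assoc] using mul_mem hu (Nm_conj ht hu)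
    rw [show 2 ^ 2 = 2 * 2 from rfl, pow_mul, sq, sq, V2 _ this]
  obtain ⟨S, hS⟩ := hP.exists_le_sylow
  have VS : V ≤ S := le_sup_left.trans hS
  have tS : t ∈ (S : Subgroup G) := hS (mem_sup_right (mem_zpowers t))
  obtain ⟨z0, hz0, z1⟩ := exists_central S.isPGroup' fun e => w2.2 (e.le (VS hw))
  have zV : z0 ∈ V := hC.le (centralizer_le VS hz0.2)
  have z2 : I2 z0 := ⟨V2 _ zV, z1⟩
  have hCz : C1 z0 = S := S.is_maximal' (h.isP_C1 Nat.prime_two z2.pe z1)
    fun s hs => mem_C1.2 (mem_Ce.1 hz0.2 s hs)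
  obtain ⟨v, hv, v2, vz⟩ : ∃ v ∈ V, I2 v ∧ v ≠ z0 := by
    by_cases a : w = z0
    · exact ⟨_, hw', w2.conj k, fun b => ne (a.trans b.symm)⟩
    · exact ⟨w, hw, w2, a⟩
  have CS : ∀ s ∈ (S : Subgroup G), Commute v s → s ∈ V := fun s hs a => hC.le (mem_Ce.2 fun y hy => by
    have b := (mem_Ce.1 hz0.2 s hs).symm
    rcases four_eq hV hv zV v2 z2 vz hy with e | e | e | e <;> rw [e]
    exacts [Commute.one_right _, a.symm, b, a.symm.mul_right b])
  have e2 : t * v * t = v * z0 := by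
    have a := Nm_conj ht hv
    rw [t2.inv] at a
    rcases four_eq hV hv zV v2 z2 vz a with e | e | e | e
    · exact absurd (by simpa [t2.inv] using e) (v2.conj t).2
    · exact absurd (CS t tS (by
        change v * t = t * v
        nth_rewrite 1 [← e]; rw [mul_assoc, t2.1, mul_one])) tV
    · refine absurd (mul_left_cancel (a := t) ?_) vz
      rw [← (mem_Ce.1 hz0.2 t tS).eq, ← e, mul_assoc, t2.1, mul_one]
    · exact e
  obtain ⟨c, h1, ⟨j, hj⟩, vK, zK, uq, hD⟩ := dihedral hG h S.isPGroup' z2 hCz v2 (VS hv) t2.1 tS e2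
    fun s a b => four_eq hV hv zV v2 z2 vz (CS s a b)
  refine ⟨c, v, z0, _, h, rfl, ⟨j, hj⟩, v2, vK, h1, z2, zK, fun g => by rw [← mem_C1, hCz, hD, mem_DD],
    uq, fun u hu => ?_, mem_RP.2 ⟨by norm_num, k, ⟨by rw [k3]; decide, k1, t, t2.1, e⟩, by rw [k3]⟩⟩
  obtain ⟨g, hg⟩ := transfer2 hG (H := S) (M := zpowers c) S.not_dvd_index
    (relIindex_eq_two_iff'.2 ⟨v, VS hv, fun b hb => by
      rw [hD, mem_DD] at hb
      have : ¬ (v * b ∈ zpowers c ∧ b ∈ zpowers c) := fun a =>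
        vK (((zpowers c).mul_mem_cancel_right a.2).1 a.1)
      unfold Xor; tauto⟩) hu.1
  exact (isConj_iff.2 ⟨g, uq _ hg (hu.conj g)⟩).symm

end Cfsg.Agent.EP
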