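import Cfsg.Agent.EP.Dih1
import Cfsg.Agent.N9.Tools

/-! Counting and characters for a dihedral Sylow subgroup. -/

set_option autoImplicit false

namespace Cfsg.Agent.EP.Dh

open Subgroup Finset Cfsg.Agent.SC3 Cfsg.Agent.CharLib
open scoped ComplexConjugate

variable {G : Type*} [Group G] [Finite G] {c v z : G} {k : ℕ} (D : Dh c v z k)
include D

omit [Finite G] in
theorem card_K : Nat.card (zpowers c) = k := by rw [Nat.card_zpowers, D.oc]

omit [Finite G] in
theorem card_C : Nat.card (C1 z) = k * 2 := by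
  rw [← card_mul_relIndex (A := zpowers c) fun g hg => mem_C1.2 ((D.cen g).2 (Or.inl hg)), D.card_K,
    relIindex_eq_two_iff'.2 ⟨v, mem_C1.2 ((D.cen v).2 (Or.inr (D.v2.1 ▸ one_mem _))), fun b hb => by
      rw [mem_C1, D.cen] at hb
      have : ¬ (v * b ∈ zpowers c ∧ b ∈ zpowers c) := fun a =>
        D.vK (((zpowers c).mul_mem_cancel_right a.2).1 a.1)
      unfold Xor; tauto⟩]

omit [Finite G] in
theorem card_G : Nat.card G = (C1 z).index * (k * 2) := by rw [← D.card_C, index_mul_card]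

omit [Finite G] in
theorem peK {y : G} (hy : y ∈ zpowers c) : PE 2 y := by
  obtain ⟨j, hj⟩ := D.p2
  exact pe_of_mem (IsPGroup.of_card (D.card_K.trans hj)) hy

theorem into {y : G} (hy : PE 2 y) (h1 : y ≠ 1) : ∃ g, g * y * g⁻¹ ∈ zpowers c := by
  obtain ⟨n, hn⟩ := exists_i2_pow (hy.dvd Nat.prime_two h1)
  obtain ⟨g, hg⟩ := isConj_iff.1 (D.conj _ hn).symm
  refine ⟨g, ((D.cen _).1 (hg ▸ commute_conj.2 ((Commute.refl y).pow_left n))).elim id fun e => ?_⟩
  have h2 : I2 (g * y * g⁻¹) := ⟨sq_of_vK D.v2.1 D.inv e, by simpa using h1⟩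
  rw [← conj_pow] at hg
  rcases h2.zp (hg ▸ npow_mem_zpowers _ n : z ∈ _) with e | e
  · exact absurd e D.z2.2
  · exact e ▸ D.zK

theorem ti {y g : G} (hy : y ∈ zpowers c) (h1 : y ≠ 1) (h : g * y * g⁻¹ ∈ zpowers c) : Commute z g := by
  obtain ⟨n, hn⟩ := exists_i2_pow ((D.peK hy).dvd Nat.prime_two h1)
  have h2 := D.uniq _ (pow_mem h n) (by rw [conj_pow]; exact hn.conj g)
  rw [conj_pow, D.uniq _ (pow_mem hy n) hn] at h2
  exact (mul_inv_eq_iff_eq_mul.1 h2).symm

omit [Finite G] in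
theorem conj_iff {x : G} : IsConj z x ↔ I2 x :=
  ⟨fun h => let ⟨g, hg⟩ := isConj_iff.1 h; hg ▸ D.z2.conj g, D.conj x⟩

omit [Finite G] in
theorem i2_of {x : G} (h : v * x ∈ zpowers c) : I2 x :=
  ⟨sq_of_vK D.v2.1 D.inv h, fun e => D.vK (by simpa [e] using h)⟩

omit [Finite G] in
theorem comm_K {x y : G} (hx : x ∈ zpowers c) (hy : y ∈ zpowers c) : x⁻¹ * y * x = y := by
  obtain ⟨i, rfl⟩ := hx
  obtain ⟨l, rfl⟩ := hy
  simp only; group

omit [Finite G] in
theorem inv_K {x y : G} (hx : v * x ∈ zpowers c) (hy : y ∈ zpowers c) : x⁻¹ * y * x = y⁻¹ := by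
  rw [← D.comm_K hx (inv_mem hy), ← inv_zp D.v2.1 D.inv hy, mul_inv_rev, D.v2.inv]
  simp only [mul_assoc, ← mul_assoc v v, D.v2.1, one_mul]

theorem np_eq [Fintype G] {y : G} (hy : PE 2 y) (h1 : y ≠ 1) : N9.np z y = k := by
  classical
  obtain ⟨g, hg⟩ := D.into hy h1
  rw [← N9.np_conj z y g]
  have h2 : g * y * g⁻¹ ≠ 1 := by simpa using h1
  generalize g * y * g⁻¹ = y at hg h2
  rw [← D.card_K, ← Frob.card_sub, N9.np]
  refine card_bij (fun x _ => v * x) (fun x hx => ?_) (fun _ _ _ _ e => mul_left_cancel e)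
    fun w hw => ⟨v * w, ?_, by rw [← mul_assoc, D.v2.1, one_mul]⟩
  · simp only [mem_filter, mem_univ, true_and, D.conj_iff] at hx ⊢
    have h3 : x * y * x⁻¹ = y⁻¹ := by
      have := hx.2.inv
      rw [hx.1.inv] at this ⊢
      rw [← this, mul_inv_rev, mul_assoc, inv_mul_cancel, mul_one]
    refine ((D.cen x).1 (D.ti hg h2 (h3 ▸ inv_mem hg))).resolve_left fun e => h2 ?_
    have h4 := D.uniq _ (mul_mem (inv_mem e) hg) hx.2
    rw [D.uniq _ e hx.1, inv_mul_eq_iff_eq_mul, D.z2.1] at h4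
    exact h4
  · simp only [mem_filter, mem_univ, true_and, D.conj_iff] at hw ⊢
    have h3 : v * (v * w) ∈ zpowers c := by rwa [← mul_assoc, D.v2.1, one_mul]
    exact ⟨D.i2_of h3, D.i2_of (by rw [(D.i2_of h3).inv, ← mul_assoc]; exact mul_mem h3 hg)⟩

theorem cnt_two : cnt G 2 = (C1 z).index * (k - 1) := by
  classical
  have := Fintype.ofFinite G
  have h1 := Frob.card_mul_eq_of_rel (univ.filter fun x : G => x ≠ 1 ∧ PE 2 x) (univ : Finset G)
    (fun y g => g * y * g⁻¹ ∈ zpowers c) (k * 2) (k - 1) (fun y hy => by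
      obtain ⟨a, b⟩ := (mem_filter.1 hy).2
      obtain ⟨g, hg⟩ := D.into b a
      rw [← D.card_C, ← Frob.card_sub]
      refine card_bij (fun x _ => x * g⁻¹) (fun x hx => ?_) (fun _ _ _ _ e => mul_right_cancel e)
        fun w hw => ⟨w * g, ?_, by simp⟩
      · simp only [mem_filter, mem_univ, true_and] at hx ⊢
        exact mem_C1.2 (D.ti hg (by simpa using a) (by convert hx using 1; group))
      · simp only [mem_filter, mem_univ, true_and] at hw ⊢
        rw [show w * g * y * (w * g)⁻¹ = w⁻¹⁻¹ * (g * y * g⁻¹) * w⁻¹ by group]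
        rcases (D.cen _).1 (mem_C1.1 (inv_mem hw)) with e | e
        · rwa [D.comm_K e hg]
        · rw [D.inv_K e hg]; exact inv_mem hg) fun g _ => by
      rw [← D.card_K, ← card_nt]
      refine card_bij (fun x _ => g * x * g⁻¹) (fun x hx => ?_) (fun _ _ _ _ e => by simpa using e)
        fun w hw => ⟨g⁻¹ * w * g, ?_, by group⟩
      · simp only [mem_filter, mem_univ, true_and] at hx
        exact mem_nt.2 ⟨hx.2, by simpa using hx.1.1⟩
      · obtain ⟨a, b⟩ := mem_nt.1 hw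
        simp only [mem_filter, mem_univ, true_and]
        exact ⟨⟨fun e => b (by rw [show w = g * (g⁻¹ * w * g) * g⁻¹ by group, e]; simp),
          by simpa using (D.peK a).conj g⁻¹⟩, by convert a using 1; group⟩
  rw [← Fintype.card_subtype, ← Nat.card_eq_fintype_card, card_univ, ← Nat.card_eq_fintype_card,
    D.card_G, mul_right_comm] at h1
  obtain ⟨j, hj⟩ := D.p2
  exact Nat.eq_of_mul_eq_mul_right (by rw [hj]; positivity) h1

theorem count : (C1 z).index = 1 + (k - 1) * k + k * 2 * ∑ p ∈ RP G, nn G p := by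
  classical
  have := Fintype.ofFinite G
  have h1 := N9.sum_np z (isIrr_one (G := G))
  simp only [mul_one, div_one] at h1
  have h2 : ∑ g, N9.np z g = (C1 z).index ^ 2 := by exact_mod_cast h1
  have h3 : N9.np z 1 = (C1 z).index := by
    rw [index_centralizer_eq, Nat.card_eq_fintype_card, Fintype.card_subtype, N9.np]
    congr 1; ext x
    simp only [mem_filter, mem_univ, true_and, D.conj_iff, mul_one]
    exact ⟨fun h => h.1, fun h => ⟨h, h.inv.symm ▸ h⟩⟩
  have h4 : ∑ g ∈ univ.filter fun g : G => g ≠ 1 ∧ PE 2 g, N9.np z g = cnt G 2 * k := by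
    rw [sum_const_nat fun g hg => D.np_eq (mem_filter.1 hg).2.2 (mem_filter.1 hg).2.1, cnt,
      Nat.card_eq_fintype_card, Fintype.card_subtype]
  have h5 : ∑ g ∈ univ.filter fun g : G => g ≠ 1 ∧ ¬ PE 2 g, N9.np z g =
      Nat.card G * ∑ p ∈ RP G, nn G p := by
    rw [← D.h.pairs, Nat.card_eq_fintype_card, Fintype.card_subtype, card_eq_sum_card_fiberwise
      (f := fun x : G × G => x.1 * x.2) (t := univ.filter fun g : G => g ≠ 1 ∧ ¬ PE 2 g) fun x hx => ?_]
    · refine sum_congr rfl fun g hg => ?_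
      obtain ⟨a, b⟩ := (mem_filter.1 hg).2
      rw [N9.np]
      refine card_bij (fun x _ => (x, x⁻¹ * g)) (fun x hx => ?_) (fun _ _ _ _ e => congrArg Prod.fst e)
        fun w hw => ⟨w.1, ?_, ?_⟩
      · simp only [mem_filter, mem_univ, true_and, D.conj_iff, mul_inv_cancel_left] at hx ⊢
        exact ⟨⟨hx.1, hx.2, by_contra fun e => b (D.h.pe_two e), a⟩, trivial⟩
      · simp only [mem_filter, mem_univ, true_and, D.conj_iff] at hw ⊢
        exact ⟨hw.1.1, by rw [← hw.2, inv_mul_cancel_left]; exact hw.1.2.1⟩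
      · rw [← (mem_filter.1 hw).2, inv_mul_cancel_left]
    · simp only [coe_filter, mem_univ, true_and, Set.mem_ofPred_eq] at hx ⊢
      exact ⟨hx.2.2.2, fun e => hx.2.2.2 (e.eq_one hx.2.2.1)⟩
  rw [← add_sum_erase _ _ (mem_univ 1), ← sum_filter_add_sum_filter_not _ (PE 2), h3,
    show (univ.erase (1 : G)).filter (PE 2) = univ.filter fun g : G => g ≠ 1 ∧ PE 2 g by ext; simp,
    show (univ.erase (1 : G)).filter (fun g => ¬ PE 2 g) = univ.filter fun g : G => g ≠ 1 ∧ ¬ PE 2 g by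
      ext; simp, h4, h5, D.cnt_two, D.card_G] at h2
  refine Nat.eq_of_mul_eq_mul_left (Nat.pos_of_ne_zero (index_ne_zero_of_finite (H := C1 z))) ?_
  rw [← sq, ← h2]; ring

theorem ee_dvd {p : ℕ} (hp : p ∈ RP G) : ee G p ∣ k := by
  obtain ⟨h1, x, hx, hd⟩ := mem_RP.1 hp
  obtain ⟨E, -, h2, h3, h4⟩ := D.h.exists_E h1 hx hd
  obtain ⟨i, hi⟩ := D.h.ee_pow hp
  obtain ⟨j, hj⟩ := D.p2
  obtain ⟨t, ht, t2⟩ := exists_ord (U := E) Nat.prime_two (by rw [h3, hi]; exact dvd_pow_self _ (by omega))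
  have t2 := i2_iff.2 t2
  obtain ⟨g, hg⟩ := isConj_iff.1 (D.conj t t2)
  have h5 : E ≤ cj g (C1 z) := fun a ha => by
    rw [← C1_cj, hg, mem_C1]
    exact (mul_inv_eq_iff_eq_mul.1 (h4 _ (mul_mem (mul_mem ha ht) (inv_mem ha)) _ ht (t2.conj a) t2)).symm
  have h6 := card_dvd_of_le h5
  rw [card_cj, D.card_C, h3, hi, hj, ← pow_succ, Nat.pow_dvd_pow_iff_le_right one_lt_two] at h6
  rw [hi, hj]
  refine pow_dvd_pow 2 (Nat.lt_succ_iff.1 (lt_of_le_of_ne h6 fun e => ?_))
  have h7 := eq_of_card_le h5 (by rw [card_cj, D.card_C, h3, hi, hj, ← pow_succ, e])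
  have h8 := h4 (g * v * g⁻¹) (h7.ge (conj_mem_cj.2 (mem_C1.2 ((D.cen v).2 (Or.inr (D.v2.1 ▸ one_mem _))))))
    t ht (D.v2.conj g) t2
  rw [← hg, mul_left_inj, mul_right_inj] at h8
  exact D.vK (h8 ▸ D.zK)

section
variable [Fintype G] {θ : zpowers c → ℂ} (h0 : θ 1 = 0)
include h0

theorem ind_K (y : zpowers c) : indFun (zpowers c) θ y = θ y + θ y⁻¹ := by
  classical
  by_cases h1 : y = 1
  · rw [h1, inv_one, Subgroup.coe_one, indFun_one, h0]; simp
  have h2 : ∀ x : G, extendByZero (zpowers c) θ (x⁻¹ * y * x) =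
      (if x ∈ zpowers c then θ y else 0) + if v * x ∈ zpowers c then θ y⁻¹ else 0 := fun x => by
    by_cases a : x ∈ zpowers c
    · rw [if_pos a, if_neg fun b => D.vK (((zpowers c).mul_mem_cancel_right a).1 b), D.comm_K a y.2,
        extendByZero_coe, add_zero]
    by_cases b : v * x ∈ zpowers c
    · rw [if_neg a, if_pos b, D.inv_K b y.2, zero_add]
      exact extendByZero_coe _ _ y⁻¹
    rw [if_neg a, if_neg b, extendByZero_of_not_mem, add_zero]
    intro e
    have := D.ti y.2 (fun e => h1 (Subtype.ext e)) (g := x⁻¹) (by rwa [inv_inv])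
    exact ((D.cen x).1 (Commute.inv_right_iff.1 this)).elim a b
  rw [indFun, sum_congr rfl fun x _ => h2 x, sum_add_distrib,
    show ∑ x, (if v * x ∈ zpowers c then θ y⁻¹ else 0) = _ from
      Equiv.sum_comp (Equiv.mulLeft v) fun x => if x ∈ zpowers c then θ y⁻¹ else 0,
    N9.sum_ite_mem_const, N9.sum_ite_mem_const, ← mul_add, inv_mul_cancel_left₀ (N9.card_cast_ne _)]

theorem np_ind (y : G) : N9.np z y * indFun (zpowers c) θ y = k * indFun (zpowers c) θ y := by
  by_cases h : y ≠ 1 ∧ PE 2 y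
  · rw [D.np_eq h.2 h.1]
  rw [indFun, sum_eq_zero fun x _ => ?_]
  · simp
  by_cases a : x⁻¹ * y * x ∈ zpowers c
  · obtain rfl : y = 1 := by_contra fun e => h ⟨e, by simpa [mul_assoc] using (D.peK a).conj x⟩
    rw [extendByZero_of_mem _ _ a, ← h0]
    congr 1; ext; simp
  · exact extendByZero_of_not_mem _ _ a

end

theorem chars (h8 : 8 ∣ k) : ∃ (d : ℕ) (a : ℤ), 0 < d ∧ d ∣ Nat.card G ∧ d + 1 ∣ Nat.card G ∧
    1 + a ^ 2 + (a + 1) ^ 2 ≤ k * 2 ∧ (C1 z).index * (d - a) ^ 2 = 2 * k ^ 2 * (d * (d + 1)) := by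
  classical
  have := Fintype.ofFinite G
  let I : ℂˣ := Units.mk0 Complex.I Complex.I_ne_zero
  have hI : I ^ 4 = 1 := Units.ext (by simp [I])
  have hg : ∀ x : zpowers c, x ∈ zpowers (⟨c, mem_zpowers c⟩ : zpowers c) := by
    rintro ⟨_, i, rfl⟩; exact ⟨i, rfl⟩
  let l := monoidHomOfForallMemZpowers hg (g' := I) (by
    rw [orderOf_mk, D.oc]
    exact (orderOf_dvd_of_pow_eq_one hI).trans (Dvd.dvd.trans (by norm_num) h8))
  have lc : l ⟨c, mem_zpowers c⟩ = I := monoidHomOfForallMemZpowers_apply_gen _ _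
  have lz : l ⟨z, D.zK⟩ = 1 := by
    obtain ⟨m, hm⟩ := h8
    have h1 : orderOf (c ^ (4 * m)) = 2 := by
      have : 0 < m := Nat.pos_of_ne_zero (by rintro rfl; have := orderOf_pos c; rw [D.oc] at this; omega)
      rw [orderOf_pow_of_dvd (by omega) (by rw [D.oc, hm]; exact ⟨2, by ring⟩), D.oc, hm]
      exact Nat.div_eq_of_eq_mul_right (by omega) (by ring)
    rw [show (⟨z, D.zK⟩ : zpowers c) = ⟨c, mem_zpowers c⟩ ^ (4 * m) from
      Subtype.ext (D.uniq _ (npow_mem_zpowers c _) (i2_iff.2 h1)).symm, map_pow, lc, pow_mul, hI, one_pow]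
  let u : zpowers c → ℂ := fun _ => 1
  let l1 : zpowers c → ℂ := fun x => l x
  let l2 : zpowers c → ℂ := fun x => (l⁻¹ x : ℂˣ)
  have iu : IsIrrCharacter _ u := isIrr_one
  have i1 : IsIrrCharacter _ l1 := isIrr_unitsHom l
  have i2 : IsIrrCharacter _ l2 := isIrr_unitsHom l⁻¹
  have v1 : l1 ⟨c, mem_zpowers c⟩ = Complex.I := congrArg Units.val lc
  have v2 : l2 ⟨c, mem_zpowers c⟩ = -Complex.I := by simp [l2, lc, I]
  have n1 : u ≠ l1 := fun e => by
    have := congrArg Complex.im (v1 ▸ congrFun e ⟨c, mem_zpowers c⟩); simp [u] at this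
  have n2 : u ≠ l2 := fun e => by
    have := congrArg Complex.im (v2 ▸ congrFun e ⟨c, mem_zpowers c⟩); simp [u] at this
  have n3 : l1 ≠ l2 := fun e => by
    have := congrArg Complex.im (v1 ▸ v2 ▸ congrFun e ⟨c, mem_zpowers c⟩); norm_num at this
  have h0 : (u - l1) 1 = 0 := by simp [u, l1]
  set α := indFun (zpowers c) (u - l1) with hα
  have gα : IsGeneralizedCharacter G α := isGen_indFun _ (isGen_sub (isGen_of_irr iu) (isGen_of_irr i1))
  have rα : (fun h : zpowers c => α h) = u - l1 + (u - l2) := funext fun y => by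
    rw [hα, D.ind_K h0]; simp [u, l1, l2]
  have a1 : classInner α (fun _ => 1) = 1 := by
    rw [hα, inner_indFun_left _ _ fun _ _ => rfl, CharLib.inner_sub_left, inner_irr_self iu,
      inner_irr_ne i1 iu n1.symm, sub_zero]
  have a2 : classInner α α = 3 := by
    nth_rewrite 1 [hα]
    rw [inner_indFun_left _ _ (isGen_classFun gα), rα]
    simp only [CharLib.inner_add_right, CharLib.inner_sub_left, CharLib.inner_sub_right, inner_irr_self iu, inner_irr_self i1,
      inner_irr_ne i1 iu n1.symm, inner_irr_ne iu i1 n1, inner_irr_ne iu i2 n2, inner_irr_ne i1 i2 n3]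
    norm_num
  have one := isIrr_one (G := G)
  have α1 : α 1 = 0 := by rw [hα, indFun_one, h0, mul_zero]
  have αz : α z = 0 := by
    have := congrFun rα ⟨z, D.zK⟩
    simpa [u, l1, l2, lz] using this
  obtain ⟨φ, ψ, hφ, hψ, e⟩ := N9.norm_two (isGen_sub gα (isGen_of_irr one)) (by
    rw [CharLib.inner_sub_left, CharLib.inner_sub_right, CharLib.inner_sub_right, a2, a1, inner_gen_comm (isGen_of_irr one) gα, a1,
      inner_irr_self one]; norm_num)
  let φ' : IrrCharacter G := ⟨φ, hφ⟩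
  let ψ' : IrrCharacter G := ⟨ψ, hψ⟩
  have d1 : φ 1 = dg φ' := dg_eq φ'
  have d2 : ψ 1 = dg ψ' := dg_eq ψ'
  have p1 := dg_pos φ'
  have p2 := dg_pos ψ'
  replace e : α - (fun _ => 1) = φ - ψ := by
    rcases e with e | e | e
    · have := congrFun e 1
      simp only [Pi.sub_apply, Pi.add_apply, α1, d1, d2] at this
      have : (0 : ℤ) - 1 = dg φ' + dg ψ' := by exact_mod_cast this
      omega
    · exact e
    · have := congrFun e 1
      simp only [Pi.sub_apply, Pi.add_apply, Pi.neg_apply, α1, d1, d2] at this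
      have : (0 : ℤ) - 1 = -(dg φ' + dg ψ') := by exact_mod_cast this
      omega
  have d3 : dg ψ' = dg φ' + 1 := by
    have := congrFun e 1
    simp only [Pi.sub_apply, α1, d1, d2] at this
    have : (0 : ℤ) - 1 = dg φ' - dg ψ' := by exact_mod_cast this
    omega
  choose s hs using fun χ : IrrCharacter G => val_two χ D.z2.1
  have s1 : φ z = s φ' := (hs φ').1
  have s2 : ψ z = s ψ' := (hs ψ').1
  have s3 : s ψ' = s φ' + 1 := by
    have := congrFun e z
    simp only [Pi.sub_apply, αz, s1, s2] at this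
    have : (0 : ℤ) - 1 = s φ' - s ψ' := by exact_mod_cast this
    omega
  have m1 : ψ' ≠ φ' := fun e => by rw [e] at d3; omega
  have m2 : ψ' ≠ triv G := fun e => by rw [e, dg_triv] at d3; omega
  have m3 : φ' ≠ triv G := fun e' => by
    have := congrArg (classInner · fun _ => (1 : ℂ)) e
    simp only [CharLib.inner_sub_left, a1, inner_irr_self one] at this
    rw [show φ = fun _ => 1 from congrArg Subtype.val e', inner_irr_self one,
      inner_irr_ne hψ one fun e => m2 (Subtype.ext e)] at this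
    norm_num at this
  refine ⟨dg φ', s φ', p1, dg_dvd _, d3 ▸ dg_dvd _, ?_, ?_⟩
  · have h1 := sum_int_mul (fun χ => (hs χ).1) (fun χ => (hs χ).1)
    rw [if_pos (IsConj.refl z), D.card_C] at h1
    have h2 := sum_le_sum_of_subset_of_nonneg (f := fun χ => s χ * s χ)
      (subset_univ {triv G, φ', ψ'}) fun _ _ _ => mul_self_nonneg _
    have h3 : s (triv G) = 1 := by exact_mod_cast (hs (triv G)).1.symm.trans (triv_apply z)
    rw [sum_insert (by simp [m2.symm, m3.symm]), sum_pair m1.symm, h1, h3, s3] at h2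
    push_cast at h2
    linarith
  · have h1 : ∑ g, (N9.np z g : ℂ) * α g = k * Nat.card G := by
      rw [sum_congr rfl fun g _ => D.np_ind h0 g, ← mul_sum]
      have := a1
      simp only [classInner, map_one, mul_one] at this
      rw [(inv_mul_eq_one₀ card_ne_zero).1 this]
    have h2 : ∀ g, α g = 1 + φ g - ψ g := fun g => by
      have := congrFun e g
      simp only [Pi.sub_apply] at this
      linear_combination this
    have h3 := N9.sum_np z one
    simp only [h2, mul_sub, mul_add, sum_sub_distrib, sum_add_distrib, N9.sum_np z hφ, N9.sum_np z hψ,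
      h3, s1, s2, s3, d1, d2, d3, D.card_G] at h1
    have q1 : (dg φ' : ℂ) ≠ 0 := by exact_mod_cast p1.ne'
    have q2 : (dg φ' : ℂ) + 1 ≠ 0 := Nat.cast_add_one_ne_zero _
    have q3 : ((C1 z).index : ℂ) ≠ 0 := by exact_mod_cast index_ne_zero_of_finite
    push_cast at h1
    field_simp at h1
    have : ((C1 z).index : ℂ) * (dg φ' - s φ') ^ 2 = 2 * k ^ 2 * (dg φ' * (dg φ' + 1)) := by
      linear_combination h1
    exact_mod_cast this

end Cfsg.Agent.EP.Dh
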