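import Cfsg.Agent.EP.Loc

/-! Reduction to a TI Sylow `2`-subgroup or to the local setting. -/

set_option autoImplicit false

namespace Cfsg.Agent.EP

open Subgroup Cfsg.Agent.SC3 Cfsg.Agent.Frob
open scoped IsMulCommutative

variable {G : Type*} [Group G] [Finite G]

namespace Emb

theorem Js_eq {D T : Subgroup G} (h : D ≤ T) (h' : ∀ A, MaxEA 2 T A → A ≤ D) : Js 2 T = Js 2 D := by
  obtain ⟨B, hB⟩ := exists_maxEA 2 T
  have : ∀ A, MaxEA 2 T A ↔ MaxEA 2 D A := fun A =>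
    ⟨fun e => ⟨⟨h' A e, e.1.2⟩, fun C f => e.2 C ⟨f.1.trans h, f.2⟩⟩, fun e => ⟨⟨e.1.1.trans h, e.1.2⟩,
      fun C f => (hB.2 C f).trans (e.2 B ⟨h' B hB, hB.1.2⟩)⟩⟩
  simp only [Js, this]

theorem grow {T R : Subgroup G} (hR : IsPGroup 2 R) (h : T ≤ R) (h' : ¬ R ≤ T) :
    Nat.card T < Nat.card (R ⊓ Nm T : Subgroup G) := by
  obtain ⟨g, h1, h2, h3⟩ := exists_norm_notMem hR h h'
  have h4 : T ≤ R ⊓ Nm T := le_inf h le_normalizer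
  exact (card_le_of_le h4).lt_of_ne fun e => h2 ((eq_of_le_of_card_ge h4 e.ge).ge ⟨h1, h3⟩)

theorem case2 (h : EPPO G) {S X0 : Subgroup G} (hS : IsSyl 2 ⊤ S) (h1 : IsPGroup 2 X0) (h2 : X0 ≠ ⊥)
    (h3 : X0 ≤ Nm (Js 2 S)) (h4 : ¬ Nm X0 ≤ Nm (Js 2 S)) : ∃ V T A : Subgroup G, Loc V T A := by
  set M := Nm (Js 2 S) with hM
  let Q : Subgroup G → Prop := fun X => IsPGroup 2 X ∧ X ≠ ⊥ ∧ ¬ Nm X ≤ M
  obtain ⟨T, ⟨t1, t2, X1, t3⟩, t4⟩ := Set.exists_max_image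
    {T : Subgroup G | IsPGroup 2 T ∧ T ≤ M ∧ ∃ X, Q X ∧ T ≤ Nm X} (fun T => Nat.card T)
    (Set.toFinite _) ⟨X0, h1, h3, X0, ⟨h1, h2, h4⟩, le_normalizer⟩
  have t0 : T ≠ ⊥ := (one_lt_card_iff_ne_bot _).1 (((one_lt_card_iff_ne_bot _).2 h2).trans_le
    (t4 X0 ⟨h1, h3, X0, ⟨h1, h2, h4⟩, le_normalizer⟩))
  have t5 : Nm (Js 2 T) ≤ M := by
    obtain ⟨R, r1, r2⟩ := exists_isSyl t2 t1
    obtain ⟨m, r3, rfl⟩ := (hS.of_le (le_normalizer.trans (norm_le_Js S)) le_top).conj r1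
    by_cases e : Frob.cj m S ≤ T
    · rw [le_antisymm r2 e, Js_cj, Frob.cj_eq_iff.2 r3]
    · by_contra e'
      exact (grow r1.2.1 r2 e).not_ge (t4 _ ⟨r1.2.1.to_inf_left, inf_le_left.trans r1.1, Js 2 T,
        ⟨t1.to_le (Js_le T), Js_ne_bot t1 t0, e'⟩, inf_le_right.trans (norm_le_Js T)⟩)
  obtain ⟨X, ⟨x1, x2⟩, x3⟩ := Set.exists_max_image {X : Subgroup G | Q X ∧ T ≤ Nm X}
    (fun X => Nat.card (Nm X)) (Set.toFinite _) ⟨X1, t3⟩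
  have x4 : ∀ Y : Subgroup G, IsPGroup 2 Y → Y ≠ ⊥ → Nm X ≤ Nm Y → Nm Y = Nm X := fun Y a b c =>
    (eq_of_le_of_card_ge c (x3 Y ⟨⟨a, b, fun e => x1.2.2 (c.trans e)⟩, x2.trans c⟩)).symm
  have x5 : IsSyl 2 (Nm X) T := ⟨x2, t1, fun R a b c => by_contra fun e =>
    (grow c a e).not_ge (t4 _ ⟨c.to_inf_left, inf_le_right.trans ((norm_le_Js T).trans t5), X, x1,
      inf_le_left.trans b⟩)⟩
  obtain ⟨D, ⟨d1, d2, d3⟩, d4⟩ := Set.exists_max_image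
    {Y : Subgroup G | IsPGroup 2 Y ∧ Y ≤ Nm X ∧ Nm X ≤ Nm Y} (fun Y => Nat.card Y) (Set.toFinite _)
    ⟨X, x1.1, le_normalizer, le_rfl⟩
  have d5 : ∀ Y : Subgroup G, IsPGroup 2 Y → Y ≤ Nm X → Nm X ≤ Nm Y → Y ≤ D := fun Y a b c =>
    le_sup_right.trans (eq_of_le_of_card_ge le_sup_left (d4 (D ⊔ Y) ⟨d1.to_sup_of_normal_right' a
      (d2.trans c), sup_le d2 b, (le_inf d3 c).trans (normalizer_inf_normalizer_le_normalizer_sup _ _)⟩)).ge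
  have d0 : D ≠ ⊥ := fun e => x1.2.1 (eq_bot_iff.2 (e ▸ d5 X x1.1 le_normalizer le_rfl))
  have v0 := Zs_ne_bot d1 d0
  have v1 : IsPGroup 2 (ZZ D) := d1.to_le (Zs_le D)
  have v2 : Nm (ZZ D) = Nm X := x4 _ v1 v0 (d3.trans (norm_le_Zs D))
  have v3 : Ce (ZZ D) = D := le_antisymm (d5 _ (h.pC v1 v0) (v2 ▸ centralizer_le_normalizer _)
    (v2 ▸ Nm_le_Nm_Ce _)) fun x hx => mem_Ce.2 fun y hy => (ZZ_comm hy hx).symm
  obtain ⟨A, a1, a2⟩ : ∃ A, MaxEA 2 T A ∧ ¬ A ≤ D := by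
    by_contra! e
    exact x1.2.2 ((d3.trans (norm_le_Js D)).trans (Js_eq (x5.normal_le d1 d2 (x2.trans d3)) e ▸ t5))
  exact ⟨ZZ D, T, A, h, v2 ▸ x5, by rw [v3], v0, by rw [v2, v3]; exact d5, a1, by rwa [v3]⟩

theorem emb {M : Subgroup G} (hM : ∀ X : Subgroup G, IsPGroup 2 X → X ≠ ⊥ → X ≤ M → Nm X ≤ M)
    {x g : G} (h1 : x ≠ 1) (h2 : PE 2 x) (h3 : x ∈ M) (h4 : g * x * g⁻¹ ∈ M) : g ∈ M := by
  obtain ⟨R, r1, r2⟩ := exists_isSyl (p := 2) (Y := M ⊓ Frob.cj g⁻¹ M) (Q := zpowers x)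
    (zpowers_le.2 ⟨h3, Frob.mem_cj.2 (by rwa [inv_inv])⟩) (isP_of_pe (by
      rintro _ ⟨i, rfl⟩
      exact h2.imp fun n e => by
        rw [← zpow_natCast, ← zpow_mul, mul_comm, zpow_mul, zpow_natCast, e, one_zpow]))
  have r0 : R ≠ ⊥ := fun e => h1 (mem_bot.1 (e.le (r2 (mem_zpowers x))))
  have r3 := hM R r1.2.1 r0 (r1.1.trans inf_le_left)
  have r4 : Frob.cj g R ≤ M := by
    rintro _ ⟨y, hy, rfl⟩
    simpa using Frob.mem_cj.1 (r1.1 hy).2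
  have r5 := hM _ (cj_isPGroup g r1.2.1) (fun e => r0 (map_eq_bot_iff_of_injective _
    (MulAut.conj g).injective |>.1 e)) r4
  have r6 : IsSyl 2 ⊤ R := ⟨le_top, r1.2.1, fun R' a _ c => by_contra fun e =>
    (grow c a e).not_ge (card_le_of_le (r1.2.2 _ (le_inf a le_normalizer) (fun y hy => ⟨r3 hy.2,
      Frob.mem_cj.2 (r5 (mem_Nm_cj.2 (by simpa [mul_assoc] using hy.2)))⟩) c.to_inf_left))⟩
  obtain ⟨m, m1, m2⟩ := (r6.of_le (r1.1.trans inf_le_left) le_top).conj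
    ((r6.cj g).of_le r4 fun y _ => Frob.mem_cj.2 trivial)
  have m3 : m⁻¹ * g ∈ Nm R := Frob.cj_eq_iff.1 (by
    rw [← Frob.cj_cj, ← m2, Frob.cj_cj, inv_mul_cancel, Frob.cj_one])
  simpa using M.mul_mem m1 (r3 m3)

theorem case1 [IsSimpleGroup G] (hG : ¬ IsMulCommutative G) (h : EPPO G) (P : Sylow 2 G)
    (h0 : (P : Subgroup G) ≠ ⊥) (hM : ∀ X : Subgroup G, IsPGroup 2 X → X ≠ ⊥ →
      X ≤ Nm (Js 2 (P : Subgroup G)) → Nm X ≤ Nm (Js 2 (P : Subgroup G))) : TI (P : Subgroup G) := by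
  have hS := isSyl_sylow P
  have ho := P.not_dvd_index
  generalize (P : Subgroup G) = S at *
  set M := Nm (Js 2 S)
  have j1 : IsPGroup 2 (Js 2 S) := hS.2.1.to_le (Js_le S)
  have j2 := Js_ne_bot hS.2.1 h0
  have m1 : M ≠ ⊤ := not_normal hG j1 j2
  have m2 : Nm S ≤ M := norm_le_Js S
  have m3 : S ≤ M := le_normalizer.trans m2
  obtain ⟨z, hz, z1⟩ := exists_i2 hS.2.1 h0
  obtain ⟨t, t1, t2⟩ : ∃ t, I2 t ∧ t ∉ M := by
    by_contra! e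
    have : (closure {t : G | I2 t}).Normal := ⟨fun x hx g => by
      refine closure_induction (fun y hy => subset_closure (I2.conj hy g)) (by simp)
        (fun a b _ _ ha hb => ?_) (fun a _ ha => ?_) hx
      · simpa [mul_assoc] using mul_mem ha hb
      · simpa [mul_assoc] using inv_mem ha⟩
    rcases this.eq_bot_or_eq_top with f | f
    · exact z1.2 (mem_bot.1 (f.le (subset_closure z1)))
    · exact m1 (eq_top_iff.2 (f ▸ (closure_le M).2 e))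
  have i1 : ∀ u ∈ M, ∀ v ∈ M, I2 u → I2 v → ∃ m ∈ M, m * u * m⁻¹ = v := fun u hu v hv a b => by
    have c := b.conj t
    have e : t * v * t⁻¹ ∉ M := fun e => t2 (emb hM b.2 b.pe hv e)
    obtain ⟨w, w1, w2⟩ := exists_swap a.1 c.1 (by
      by_contra f
      obtain ⟨k, hk⟩ := exists_i2_pow (even_iff_two_dvd.1 (Nat.not_odd_iff_even.1 f))
      obtain ⟨f1, f2⟩ := comm_pow_of_i2 a.1 c.1 hk
      exact e (emb hM hk.2 hk.pe (emb hM a.2 a.pe hu (by rwa [← f1.eq, mul_inv_cancel_right]))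
        (by rw [f2.eq, mul_inv_cancel_right]
            exact emb hM a.2 a.pe hu (by rwa [← f1.eq, mul_inv_cancel_right]))))
    have w3 : t⁻¹ * w * u * (t⁻¹ * w)⁻¹ = v := by
      rw [mul_inv_rev, inv_eq_of_mul_eq_one_right w1, ← mul_assoc, mul_assoc t⁻¹, mul_assoc t⁻¹, w2]
      group
    exact ⟨_, emb hM a.2 a.pe hu (w3 ▸ hv), w3⟩
  have v0 : ZZ (Js 2 S) ≠ ⊥ := Zs_ne_bot j1 j2
  have v1 : IsPGroup 2 (ZZ (Js 2 S)) := j1.to_le (Zs_le _)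
  have v2 : ZZ (Js 2 S) ≤ M := (Zs_le _).trans le_normalizer
  have v3 : Nm (ZZ (Js 2 S)) = M := le_antisymm (hM _ v1 v0 v2) (norm_le_Zs _)
  have v4 : ∀ x y, x ∈ ZZ (Js 2 S) → y ∈ ZZ (Js 2 S) → Commute x y := fun x y a b => ZZ_comm a b.1
  have v5 : ∀ v ∈ ZZ (Js 2 S), v * v = 1 := fun v => ZZ_sq
  generalize ZZ (Js 2 S) = V at *
  have i2 : ∀ u ∈ M, u * u = 1 → u ∈ V := fun u hu a => by
    obtain ⟨v, hv, b⟩ := exists_i2 v1 v0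
    by_cases e : u = 1
    · exact e ▸ V.one_mem
    obtain ⟨m, c, rfl⟩ := i1 v (v2 hv.1) u hu b ⟨a, e⟩
    exact Nm_conj (v3.ge c) hv.1
  have : IsMulCommutative V := ⟨⟨fun a b => Subtype.ext (v4 _ _ a.2 b.2)⟩⟩
  have md := md_of h v5 v0 fun Y a b c => fun y hy => mem_Ce.2 fun v hv => by
    by_cases e : v = 1
    · exact e ▸ .one_right y
    obtain ⟨m, d, rfl⟩ := i1 z (m3 hz.1) v (v2 hv) z1 ⟨v5 v hv, e⟩
    have := mem_Ce.1 hz.2 _ ((hS.of_le m3 le_top).normal_le a (v3 ▸ b) (m3.trans (v3 ▸ c))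
      (Nm_conj' (c (v3.ge d)) hy))
    simpa [mul_assoc] using commute_conj (g := m).2 this.symm
  have s1 : S ≤ Ce V := fun s hs => by_contra fun e => by
    obtain ⟨j, hj⟩ := exists_i2_pow (x := pj V ⟨s, v3.ge (m3 hs)⟩)
      (((pe_coe.1 (pe_of_mem hS.2.1 hs)).map _).dvd Nat.prime_two fun f => e (pj_eq_one.1 f))
    rw [← map_pow] at hj
    generalize (⟨s, v3.ge (m3 hs)⟩ : Nm V) ^ j = a at hj
    obtain ⟨g, hg⟩ := md.exists_odd hj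
    obtain ⟨g, rfl⟩ := pj_surj V g
    obtain ⟨d, d1, -, d2⟩ := h.lift (h.pC v1 v0) (s := a) (k := (a * (g * a * g⁻¹) : Nm V))
      (Nm_le_Nm_Ce _ (Subtype.prop _)) (fun f => hg (by simpa using (pe_coe.1 f).map (pj V)))
      ((pj_eq_one (g := a * (a * (g * a * g⁻¹)) * a⁻¹ * (a * (g * a * g⁻¹)))).1 (by
        simp only [map_mul, map_inv]
        rw [← mul_assoc (pj V a), hj.1, one_mul, mul_assoc _ (pj V a)⁻¹, inv_mul_cancel_left,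
          (hj.conj _).1]))
    have := (Ce V).mul_mem (inv_mem d1) (mem_Ce.2 fun y => v4 _ y
      (i2 _ (v3.le (mul_mem (centralizer_le_normalizer _ d1) a.2)) d2))
    exact hj.2 (pj_eq_one.2 (by simpa using this))
  have s2 : Ce V = S := le_antisymm (hS.2.2 _ s1 le_top (h.pC v1 v0)) s1
  exact ⟨h, hS.2.1, ho, fun x hx a g b => s2 ▸ Nm_le_Nm_Ce _ (v3.ge
    (emb hM a (pe_of_mem hS.2.1 hx) (m3 hx) (m3 b))), fun e => m1 (eq_top_iff.2 (e ▸ m2)), h0⟩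

end Emb

theorem ti_or_loc [IsSimpleGroup G] (hG : ¬ IsMulCommutative G) (h : EPPO G) (he : 2 ∣ Nat.card G) :
    (∃ S : Subgroup G, TI S) ∨ ∃ V T A : Subgroup G, Loc V T A := by
  let P : Sylow 2 G := default
  by_cases e : ∀ X : Subgroup G, IsPGroup 2 X → X ≠ ⊥ →
      X ≤ Nm (Js 2 (P : Subgroup G)) → Nm X ≤ Nm (Js 2 (P : Subgroup G))
  · exact .inl ⟨_, Emb.case1 hG h P (P.ne_bot_of_dvd_card he) e⟩
  · push Not at e
    obtain ⟨X, a, b, c, d⟩ := e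
    exact .inr (Emb.case2 h (isSyl_sylow P) a b c d)

end Cfsg.Agent.EP
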