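import Cfsg.Agent.EP.HigC

/-! Higman's theorem on Suzuki `2`-groups for an automorphism of Mersenne prime order. -/

namespace Cfsg.Agent.EP

open Finset Subgroup Function
open scoped commutatorElement

namespace Hg

/-- a type synonym -/
def Tw (S : Type*) := S

variable {S : Type*} [Group S] {F : Type*} [Field F] [Fintype F] {n : ℕ}

theorem ext_cocycle (H : FH n F) {ζ : F → S} (h1 : ∀ s t, ζ (s + t) = ζ s * ζ t)
    (h2 : ∀ t x, x * ζ t = ζ t * x) (h3 : ∀ t, ζ t = 1 → t = 0) {c : S → F} (A : Ad ⊤ c)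
    (h4 : ∀ t, c (ζ t) = 0) {γ : F → F → F} (h5 : ∀ x y t, γ (x + y) t = γ x t + γ y t)
    (h6 : ∀ x s t, γ x (s + t) = γ x s + γ x t) (h7 : ∀ x, x * x = ζ (γ (c x) (c x))) :
    ∃ f : S → F, (∀ x y, f (x * y) = f x + f y + γ (c x) (c y)) ∧ ∀ t, f (ζ t) = t := by
  have := H.ch
  let _ := ZMod.algebra F 2
  have z0 : ζ 0 = 1 := by simpa using h1 0 0
  have g1 : ∀ t, γ 0 t = 0 := fun t => by simpa using h5 0 0 t
  have g2 : ∀ t, γ t 0 = 0 := fun t => by simpa using h6 t 0 0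
  let ad : S → S → S := fun x y => x * y * ζ (γ (c x) (c y))
  have a1 : ∀ x, ad x x = 1 := fun x => by simp only [ad]; rw [h7, ← h1, H.add_self, z0]
  let _ : Add (Tw S) := ⟨ad⟩
  let _ : Neg (Tw S) := ⟨id⟩
  let _ : Zero (Tw S) := ⟨(1 : S)⟩
  let _ : AddGroup (Tw S) := AddGroup.ofLeftAxioms (fun (x y w : S) => show ad (ad x y) w =
      ad x (ad y w) by
    simp only [ad, A.top, h4, add_zero, h5, h6]
    rw [mul_assoc (x * y), ← h2, ← mul_assoc, mul_assoc (x * y * w), ← h1, ← mul_assoc x,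
      ← mul_assoc x, mul_assoc (x * y * w), ← h1]
    congr 2
    ring) (fun (x : S) => show ad 1 x = x by simp [ad, A.one, g1, z0]) a1
  let _ : AddCommGroup (Tw S) := ⟨fun x y => neg_add_rev y x ▸ rfl⟩
  let _ : Module (ZMod 2) (Tw S) := AddCommGroup.zmodModule fun x => (two_nsmul x).trans (a1 x)
  let j : F →+ Tw S := AddMonoidHom.mk' ζ fun s t => show _ = ad (ζ s) (ζ t) by
    simp [ad, h1, h4, g1, z0]
  obtain ⟨g, hg⟩ := (j.toZModLinearMap 2).exists_leftInverse_of_injective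
    (LinearMap.ker_eq_bot'.mpr h3)
  have e : ∀ t, g (ζ t) = t := fun t => DFunLike.congr_fun hg t
  refine ⟨g, fun x y => ?_, e⟩
  have e' : ∀ x y : S, g (ad x y) = g x + g y := fun x y : Tw S => map_add g x y
  rw [← e (γ _ _), ← e', ← e']
  refine congrArg g ?_
  simp only [ad, h4, g2, z0, mul_one]
  rw [mul_assoc (x * y), ← h1, H.add_self, z0, mul_one]

theorem fh (hn : 3 ≤ n) (hp : (2 ^ n - 1).Prime) : ∃ (F : Type) (_ : Field F) (_ : Fintype F), FH n F :=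
  letI := Fintype.ofFinite (GaloisField 2 n)
  ⟨GaloisField 2 n, inferInstance, inferInstance, hn, hp, by
    rw [← Nat.card_eq_fintype_card, GaloisField.card 2 n (by omega)], inferInstance⟩

theorem gh (hS : IsPGroup 2 S) (k : MulAut S) (hn : 3 ≤ n) (hp : (2 ^ n - 1).Prime)
    (hk : k ^ (2 ^ n - 1) = 1) (hf : ∀ x, k x = x → x = 1)
    (hI : Nat.card {x : S // x * x = 1} = 2 ^ n) : GH n k.toMonoidHom := by
  have e : ∀ m x, k.toMonoidHom^[m] x = (k ^ m) x := fun m => by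
    induction m with
    | zero => exact fun _ => rfl
    | succ m ih => exact fun x => by rw [iterate_succ_apply, ih, pow_succ]; rfl
  exact ⟨hS, hn, hp, fun x => by rw [e, hk]; rfl, hf, hI⟩

theorem FH.pick (H : FH n F) {a b : ℕ} (ha : a < b) (hb : b < n) : ∃ j i, n < 2 * i ∧ i < n ∧
    ∀ t : F, t ^ 2 ^ a * t ^ 2 ^ b = t ^ 2 ^ j * (t ^ 2 ^ j) ^ 2 ^ i := by
  have := H.n3
  obtain ⟨m, hm⟩ := (Nat.prime_of_pow_sub_one_prime (by omega) H.pr).2.odd_of_ne_two (by omega)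
  by_cases e : n < 2 * (b - a)
  · exact ⟨a, b - a, e, by omega, fun t => by rw [← pow_mul, ← pow_add 2, Nat.add_sub_cancel' ha.le]⟩
  · exact ⟨b, n - (b - a), by omega, by omega, fun t => by
      rw [← pow_mul, ← pow_add 2, show b + (n - (b - a)) = n + a by omega, pow_add 2, pow_mul, H.pow_q,
        mul_comm]⟩

end Hg

open Hg

variable {S : Type*} [Group S] [Finite S] (hS : IsPGroup 2 S) (k : MulAut S) {n : ℕ} (hn : 3 ≤ n)
  (hp : (2 ^ n - 1).Prime) (hk : k ^ (2 ^ n - 1) = 1) (hf : ∀ x, k x = x → x = 1)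
  (hI : Nat.card {x : S // x * x = 1} = 2 ^ n) (hna : ¬ IsMulCommutative S)
include hS hn hp hk hf hI hna

theorem Hg.expo' (x : S) : x * x * (x * x) = 1 := by
  obtain ⟨F, _, _, H⟩ := fh hn hp
  exact (expo H _ S _ rfl (gh hS k hn hp hk hf hI)).resolve_left (fun e => hna ⟨⟨e⟩⟩) x

theorem higman :
    (∀ x : S, x ^ 4 = 1) ∧ (Nat.card S = 2 ^ (2 * n) ∨ Nat.card S = 2 ^ (3 * n)) := by
  have h := gh hS k hn hp hk hf hI
  have h4 := expo' hS k hn hp hk hf hI hna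
  exact ⟨fun x => by rw [← h4 x, ← sq, ← sq, ← pow_mul], (h.order h4).resolve_left fun e => hna ⟨⟨fun a b =>
    h.cen ((eq_top_of_card_eq h.Z0 (h.card_Z0.trans e.symm)).ge (mem_top b)) a⟩⟩⟩

theorem coords (hc : Nat.card S = 2 ^ (2 * n)) {r : S} (hr : r * r ≠ 1) :
    ∃ (F : Type) (_ : Field F) (_ : Fintype F) (i : ℕ) (θ : F →+* F) (α : F) (l : Fˣ)
      (e : F → F → S), Fintype.card F = 2 ^ n ∧ n < 2 * i ∧ i < n ∧ (∀ x, θ x = x ^ 2 ^ i) ∧
      orderOf l = 2 ^ n - 1 ∧ Function.Bijective (Function.uncurry e) ∧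
      (∀ a b c d, e a b * e c d = e (a + c) (b + d + (α * a * θ c + (1 + α) * θ a * c))) ∧
      (∀ a b, k (e a b) = e (l * a) (l * θ l * b)) ∧ e 1 0 = r := by
  have h := gh hS k hn hp hk hf hI
  have h4 := expo' hS k hn hp hk hf hI hna
  obtain ⟨F, _, _, H⟩ := fh hn hp
  have := H.ch
  have := h.nontriv
  obtain ⟨z0, ν, Z0⟩ := h.exists_eig H h.Z0_inv h.Z0_ne
  obtain ⟨c0, μ, E0⟩ := h.exists_eig H (X := ⊤) (fun _ _ => trivial) top_ne_bot
  have k1 : Nat.card E0.add.ker = Nat.card h.Z0 := by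
    have := E0.card h H
    rw [card_top, hc, two_mul, pow_add] at this
    rw [h.card_Z0, Nat.eq_of_mul_eq_mul_left (Nat.two_pow_pos n) this]
  have k2 : h.Z0 = E0.add.ker := eq_of_le_of_card_ge (fun x hx => h.mem_of_inv E0.ker_inv
    (fun e => h.Z0_ne (eq_bot_of_card_eq _ (by rw [← k1, e, card_bot]))) hx) k1.le
  have k3 : ∀ x, c0 x = 0 ↔ x * x = 1 := fun x =>
    ⟨fun e => k2.ge ⟨trivial, e⟩, fun e => (k2.le e).2⟩
  have cm : ∀ x y : S, ⁅x, y⁆ * ⁅x, y⁆ = 1 := fun x y => (k3 _).mp (E0.add.cm x y)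
  have r0 : c0 r ≠ 0 := fun e => hr ((k3 r).mp e)
  have r1 : z0 (r * r) ≠ 0 := fun e => hr (Z0.z_inj h (h4 r) e)
  have Z : Eig _ h.Z0 (fun x => z0 x / z0 (r * r)) ν := ⟨Z0.inv, fun x hx y hy => by
    rw [Z0.add x hx y hy, add_div], fun x hx => by rw [Z0.eq x hx, mul_div_assoc], r * r, h4 r,
    div_ne_zero r1 r1⟩
  set z : S → F := fun x => z0 x / z0 (r * r)
  have r2 : z (r * r) = 1 := div_self r1
  obtain ⟨B, b1, b2, b3, b4⟩ := E0.transport E0 h H (ρ := ν) (b := fun x y => z ⁅x, y⁆)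
    (fun y _ x _ x' _ => by
      beta_reduce
      rw [cm_mul_left, h.conj (cm _ _), Z.add _ (cm _ _) _ (cm _ _), add_comm])
    (fun x _ y _ y' _ => by
      beta_reduce
      rw [show ⁅x, y * y'⁆ = ⁅x, y⁆ * (y * ⁅x, y'⁆ * y⁻¹) by group, h.conj (cm _ _),
        Z.add _ (cm _ _) _ (cm _ _)])
    (fun x _ y _ e => by
      rcases e with e | e
      · rw [(show Commute y x from h.cen ((k3 x).mp e) y).symm.commutator_eq, Z.add.one]
      · rw [(show Commute x y from h.cen ((k3 y).mp e) x).commutator_eq, Z.add.one])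
    fun x _ y _ => by rw [← map_commutatorElement, Z.eq _ (cm x y)]
  have na : ¬ ∀ x y : S, z ⁅x, y⁆ = 0 := fun e => hna ⟨⟨fun x y =>
    commutatorElement_eq_one_iff_mul_comm.mp (Z.z_inj h (cm x y) (e x y))⟩⟩
  obtain ⟨d, b5, b6⟩ := H.exp2 b1 b2 b3
  obtain ⟨b, a, b7⟩ : ∃ b a, d b a ≠ 0 := by
    by_contra! e
    exact na fun x y => by simp [b4 x trivial y trivial, b5, e]
  have q1 : ∀ x, z (x * x) = (c0 x / c0 r) ^ 2 ^ (a : ℕ) * (c0 x / c0 r) ^ 2 ^ (b : ℕ) := fun x => by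
    by_cases e : c0 x = 0
    · rw [(k3 x).mp e, Z.add.one, e]; simp
    obtain ⟨m, hm⟩ := H.gen (E0.ne_zero h) (E0.ne_one h) (div_ne_zero e r0)
    have e1 := (k3 ((k.toMonoidHom^[m] r)⁻¹ * x)).mp (by
      rw [E0.add.top, E0.add.inv trivial, (E0.iter trivial m).2, ← hm, div_mul_cancel₀ _ r0,
        neg_add_cancel])
    rw [hm, ← mul_inv_cancel_left (k.toMonoidHom^[m] r) x,
      (show Commute _ _ from h.cen e1 _).symm.mul_mul_mul_comm, e1, mul_one, ← iterate_map_mul,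
      (Z.iter (h4 r) m).2, r2, mul_one, ← b6 b a b7, mul_pow, ← pow_mul, ← pow_mul, ← pow_mul,
      ← pow_mul, mul_comm m, mul_comm m]
  have q2 : ∀ x y, z (x * y * (x * y)) = z ⁅x, y⁆ + (z (x * x) + z (y * y)) := fun x y => by
    rw [h.sq_mul (h4 x), Z.add _ (cm x y) _ (h.Z0.mul_mem (h4 x) (h4 y)), Z.add _ (h4 x) _ (h4 y)]
  obtain ⟨j, i, i1, i2, i3⟩ : ∃ j i, n < 2 * i ∧ i < n ∧
      ∀ t : F, t ^ 2 ^ (a : ℕ) * t ^ 2 ^ (b : ℕ) = t ^ 2 ^ j * (t ^ 2 ^ j) ^ 2 ^ i := by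
    rcases lt_trichotomy a b with e | rfl | e
    · exact H.pick e b.2
    · refine absurd (fun x y => ?_) na
      have := q2 x y
      rw [q1, q1, q1, E0.add.top, add_div, H.add_pow] at this
      linear_combination -this + H.add_self ((c0 x / c0 r) ^ 2 ^ (a : ℕ) * (c0 y / c0 r) ^ 2 ^ (a : ℕ))
    · simpa only [mul_comm (_ ^ 2 ^ (b : ℕ))] using H.pick e a.2
  let θ := iterateFrobenius F 2 i
  have E : Eig k.toMonoidHom ⊤ (fun x => (c0 x / c0 r) ^ 2 ^ j) (μ ^ 2 ^ j) := ⟨E0.inv,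
    fun x _ y _ => by rw [E0.add.top, add_div, H.add_pow],
    fun x _ => by rw [E0.eq x trivial, mul_div_assoc, mul_pow], r, trivial, by simp [r0]⟩
  set c : S → F := fun x => (c0 x / c0 r) ^ 2 ^ j
  set l := μ ^ 2 ^ j
  have r3 : c r = 1 := by simp [c, r0]
  have q3 : ∀ x, z (x * x) = c x * θ (c x) := fun x => (q1 x).trans (i3 _)
  have q4 : ν = l * θ l := (b6 b a b7).symm.trans (i3 _)
  have k4 : ∀ x, c x = 0 ↔ x * x = 1 := fun x => by simp [c, r0, k3]
  choose ζ z1 z2 using Z.surj h H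
  have z3 : ∀ x, x * x = 1 → ζ (z x) = x := fun x hx => by
    refine (inv_eq_of_mul_eq_one_right (z1 _)).symm.trans (inv_eq_of_mul_eq_one_right ?_)
    exact Z.z_inj h (h.Z0.mul_mem (z1 _) hx) (by rw [Z.add _ (z1 _) x hx, z2, H.add_self])
  obtain ⟨f0, f1, f2⟩ := ext_cocycle H (ζ := ζ) (fun s t => by
      rw [← z3 _ (h.Z0.mul_mem (z1 s) (z1 t)), Z.add _ (z1 s) _ (z1 t), z2, z2])
    (fun t => h.cen (z1 t)) (fun t e => by rw [← z2 t, e, Z.add.one]) E.add
    (fun t => (k4 _).mpr (z1 t)) (γ := fun a b => θ a * b) (fun x y t => by rw [map_add, add_mul])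
    (fun x s t => mul_add _ _ _) fun x => by rw [mul_comm (θ _), ← q3, z3 _ (h4 x)]
  have n0 := Z.ne_zero h
  have pc : ((2 ^ n - 1 : ℕ) : F) = 1 := by
    rw [Nat.cast_pred (Nat.two_pow_pos n), Nat.cast_pow, Nat.cast_ofNat, CharTwo.two_eq_zero,
      zero_pow (by omega), zero_sub, CharTwo.neg_eq]
  let g := av k.toMonoidHom (2 ^ n - 1) f0 ν⁻¹
  have g1 : ∀ x y, g (x * y) = g x + g y + θ (c x) * c y := fun x y => by
    simp only [g, av, iterate_map_mul, f1, mul_add, sum_add_distrib]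
    rw [sum_congr rfl (f := fun i => ν⁻¹ ^ i * (θ _ * _)) (g := fun _ => θ (c x) * c y) fun m _ => by
      rw [(E.iter trivial m).2, (E.iter trivial m).2, map_mul, map_pow, mul_mul_mul_comm, ← mul_pow,
        mul_comm (θ l), ← q4, ← mul_assoc, ← mul_pow, inv_mul_cancel₀ n0, one_pow, one_mul],
      sum_const, card_range, nsmul_eq_mul, pc, one_mul]
  have g2 : ∀ x, x * x = 1 → g x = z x := fun x hx => by
    simp only [g, av]
    rw [sum_congr rfl (g := fun _ => z x) fun m _ => by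
      rw [← z3 _ (Z.iter hx m).1, f2, (Z.iter hx m).2, ← mul_assoc, ← mul_pow, inv_mul_cancel₀ n0,
        one_pow, one_mul], sum_const, card_range, nsmul_eq_mul, pc, one_mul]
  have g3 : ∀ x, g (k x) = ν * g x := fun x => by
    rw [show g x = _ from (av_k h.kp (H.pow_p (inv_ne_zero n0)) x).symm, mul_inv_cancel_left₀ n0]; rfl
  let φ : S → F × F := fun x => (c x, g x + g r * c x * θ (c x))
  have p1 : ∀ x y, (φ (x * y)).2 = (φ x).2 + (φ y).2 +
      (g r * c x * θ (c y) + (1 + g r) * θ (c x) * c y) := fun x y => by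
    simp only [φ, g1, E.add.top, map_add]
    ring
  have p2 : Bijective φ := (Nat.bijective_iff_injective_and_card φ).mpr ⟨fun x y e => by
    have e1 : c x = c y := congrArg Prod.fst e
    have e2 : c (x⁻¹ * y) = 0 := by rw [E.add.top, E.add.inv trivial, e1, neg_add_cancel]
    have e3 := g1 x (x⁻¹ * y)
    have e4 : g x + g r * c x * θ (c x) = g y + g r * c y * θ (c y) := congrArg Prod.snd e
    rw [e1, add_left_inj] at e4
    rw [mul_inv_cancel_left, e2, mul_zero, add_zero, g2 _ ((k4 _).mp e2), ← e4, left_eq_add] at e3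
    exact inv_mul_eq_one.mp (Z.z_inj h ((k4 _).mp e2) e3), by
    rw [hc, Nat.card_prod, Nat.card_eq_fintype_card, H.card, two_mul, pow_add]⟩
  let ψ := (Equiv.ofBijective φ p2).symm
  have p3 : ∀ a b, φ (ψ (a, b)) = (a, b) := fun a b => (Equiv.ofBijective φ p2).apply_symm_apply _
  have p4 : ∀ a b, c (ψ (a, b)) = a := fun a b => congrArg Prod.fst (p3 a b)
  refine ⟨F, _, inferInstance, i, θ, g r, Units.mk0 l (E.ne_zero h), fun a b => ψ (a, b), H.card, i1, i2,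
    fun _ => rfl, by rw [← orderOf_units]; exact H.ord (E.ne_zero h) (E.ne_one h), ψ.bijective,
    fun a b a' b' => p2.1 ?_, fun a b => p2.1 ?_, p2.1 ?_⟩
  · rw [p3]
    exact Prod.ext (show c _ = _ by rw [E.add.top, p4, p4]) (by rw [p1, p3, p3, p4, p4])
  · have e := congrArg Prod.snd (p3 a b)
    have e1 := E.eq (ψ (a, b)) trivial
    rw [p3]
    simp only [φ, p4, g3, Units.val_mk0, MulEquiv.coe_toMonoidHom] at e e1 ⊢
    rw [e1, map_mul, q4]
    exact Prod.ext rfl (by simp only; linear_combination l * θ l * e)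
  · rw [p3]
    simp [φ, r3, H.add_self]

end Cfsg.Agent.EP
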