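import Cfsg.Agent.EP.HigF
import Cfsg.Agent.Thom.Norm

/-! `2`-groups with a fixed-point-free automorphism of Mersenne prime order regular on the
involutions: eigen-functionals and the order bound. -/

namespace Cfsg.Agent.EP.Hg

open Finset Subgroup Function
open scoped commutatorElement

variable {S : Type*} [Group S]

/-- standing hypotheses on the group -/
structure GH (n : ℕ) (k : S →* S) : Prop where
  pg : IsPGroup 2 S
  n3 : 3 ≤ n
  pr : (2 ^ n - 1).Prime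
  kp : ∀ x, k^[2 ^ n - 1] x = x
  fpf : ∀ x, k x = x → x = 1
  cI : Nat.card {x : S // x * x = 1} = 2 ^ n

theorem exists_inv [Finite S] (h : IsPGroup 2 S) {T : Subgroup S} (hT : T ≠ ⊥) :
    ∃ t ∈ T, t * t = 1 ∧ t ≠ 1 := by
  obtain ⟨m, h1, h2⟩ := (h.to_subgroup T).nontrivial_iff_card.mp (T.nontrivial_iff_ne_bot.mpr hT)
  obtain ⟨t, ht⟩ := exists_prime_orderOf_dvd_card' 2 (h2 ▸ dvd_pow_self 2 h1.ne')
  obtain ⟨h3, h4⟩ := orderOf_eq_prime_iff.mp ht
  exact ⟨t, t.2, congrArg Subtype.val ((sq t).symm.trans h3), fun e => h4 (Subtype.ext e)⟩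

namespace GH

variable {n : ℕ} {k : S →* S} (h : GH n k)
include h

theorem surj (y : S) : ∃ x, k x = y :=
  ⟨k^[2 ^ n - 1 - 1] y, by
    rw [← iterate_succ_apply' k, Nat.succ_eq_add_one, Nat.sub_add_cancel h.pr.one_le, h.kp]⟩

variable [Finite S]

theorem inj : Injective k := Finite.injective_iff_surjective.mpr h.surj

theorem ind {P : S → Prop} (hP : ∀ x, P x → P (k x)) {t s : S} (h1 : t * t = 1) (h2 : t ≠ 1)
    (h3 : P t) (h4 : s * s = 1) (h5 : s ≠ 1) : P s := by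
  classical
  have := Fintype.ofFinite S
  have := Fact.mk h.pr
  have e1 : minimalPeriod k t = 2 ^ n - 1 := minimalPeriod_eq_prime (h.kp t) fun e => h2 (h.fpf t e)
  have e2 : (range (2 ^ n - 1)).image (k^[·] t) = (univ.filter fun x => x * x = 1).erase 1 :=
    eq_of_subset_of_card_le (fun x hx => by
      obtain ⟨i, -, rfl⟩ := mem_image.mp hx
      simp only [mem_erase, mem_filter, mem_univ, ← iterate_map_mul, h1, iterate_map_one,
        and_true]
      exact fun e => h2 (h.inj.iterate i (e.trans (iterate_map_one k i).symm))) (by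
      rw [card_image_of_injOn (by rw [coe_range, ← e1]; exact iterate_injOn_Iio_minimalPeriod),
        card_range, card_erase_of_mem (by simp), ← h.cI, Nat.card_eq_fintype_card,
        Fintype.card_subtype])
  obtain ⟨i, -, rfl⟩ := mem_image.mp (e2.ge (show s ∈ _ by simp [h4, h5]))
  exact Iterate.rec P h3 hP i

theorem mem_of_inv {T : Subgroup S} (hT : ∀ x ∈ T, k x ∈ T) (h0 : T ≠ ⊥) {s : S} (hs : s * s = 1) :
    s ∈ T := by
  obtain ⟨t, h1, h2, h3⟩ := exists_inv h.pg h0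
  by_cases e : s = 1
  exacts [e ▸ T.one_mem, h.ind hT h2 h3 h1 hs e]

theorem nontriv : Nontrivial S := Finite.one_lt_card_iff_nontrivial.mp
  ((h.cI ▸ Nat.one_lt_two_pow (by have := h.n3; omega)).trans_le (Finite.card_subtype_le _))

theorem cen {s : S} (hs : s * s = 1) (x : S) : x * s = s * x :=
  have := h.nontriv
  mem_center_iff.mp (h.mem_of_inv (fun y hy => mem_center_iff.mpr fun g => by
    obtain ⟨g, rfl⟩ := h.surj g
    rw [← map_mul, ← map_mul, mem_center_iff.mp hy]) h.pg.bot_lt_center.ne' hs) x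

theorem conj {s : S} (hs : s * s = 1) (x : S) : x * s * x⁻¹ = s := by
  rw [h.cen hs, mul_inv_cancel_right]

theorem sq_mul {x : S} (hx : x * x * (x * x) = 1) (u : S) :
    x * u * (x * u) = ⁅x, u⁆ * (x * x * (u * u)) := by
  rw [← mul_assoc (x * x), ← h.cen hx u]; group

theorem sub {T : Subgroup S} (hT : ∀ x ∈ T, k x ∈ T) (h0 : T ≠ ⊥) :
    GH n ((k.domRestrict T).codRestrict T fun x => hT x x.2) where
  pg := h.pg.to_subgroup T
  n3 := h.n3
  pr := h.pr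
  kp x := Subtype.ext ((Semiconj.iterate_right (f := Subtype.val) (gb := k) (fun _ => rfl) _ x).trans
    (h.kp x))
  fpf x e := Subtype.ext (h.fpf x (congrArg Subtype.val e))
  cI := h.cI ▸ Nat.card_congr ⟨fun x => ⟨x.1, congrArg Subtype.val x.2⟩,
    fun x => ⟨⟨x.1, h.mem_of_inv hT h0 x.2⟩, Subtype.ext x.2⟩, fun _ => rfl, fun _ => rfl⟩

/-- the subgroup of elements of order at most two -/
def Z0 : Subgroup S where
  carrier := {x | x * x = 1}
  one_mem' := one_mul 1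
  mul_mem' {a b} ha hb := by
    change _ = 1 at *
    rw [mul_assoc, ← mul_assoc b, h.cen ha, mul_assoc a, hb, mul_one, ha]
  inv_mem' {a} ha := by
    change _ = 1 at *
    rw [← mul_inv_rev, ha, inv_one]

theorem Z0_inv : ∀ x ∈ h.Z0, k x ∈ h.Z0 := fun x (hx : _ = 1) =>
  show _ = 1 by rw [← map_mul, hx, map_one]

theorem card_Z0 : Nat.card h.Z0 = 2 ^ n := h.cI

theorem Z0_ne : h.Z0 ≠ ⊥ := (one_lt_card_iff_ne_bot _).mp
  (h.card_Z0 ▸ Nat.one_lt_two_pow (by have := h.n3; omega))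

end GH

variable {F : Type*} [Field F]

/-- `c` is additive on `X` -/
def Ad (X : Subgroup S) (c : S → F) : Prop := ∀ x ∈ X, ∀ y ∈ X, c (x * y) = c x + c y

/-- nonzero eigen-functionals -/
structure Eig (k : S →* S) (X : Subgroup S) (c : S → F) (μ : F) : Prop where
  inv : ∀ x ∈ X, k x ∈ X
  add : Ad X c
  eq : ∀ x ∈ X, c (k x) = μ * c x
  ne : ∃ x ∈ X, c x ≠ 0

variable {X Y : Subgroup S} {c d : S → F} {μ ν : F} {k : S →* S} {n : ℕ}

theorem Ad.one (h : Ad X c) : c 1 = 0 := by simpa using h 1 X.one_mem 1 X.one_mem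

theorem Ad.inv (h : Ad X c) {x : S} (hx : x ∈ X) : c x⁻¹ = -c x :=
  eq_neg_of_add_eq_zero_left (by rw [← h _ (X.inv_mem hx) x hx, inv_mul_cancel, h.one])

/-- the kernel -/
def Ad.ker (h : Ad X c) : Subgroup S where
  carrier := {x | x ∈ X ∧ c x = 0}
  one_mem' := ⟨X.one_mem, h.one⟩
  mul_mem' ha hb := ⟨X.mul_mem ha.1 hb.1, by rw [h _ ha.1 _ hb.1, ha.2, hb.2, add_zero]⟩
  inv_mem' ha := ⟨X.inv_mem ha.1, by rw [h.inv ha.1, ha.2, neg_zero]⟩

theorem Ad.card (h : Ad X c) (hs : ∀ t, ∃ x ∈ X, c x = t) :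
    Nat.card X = Nat.card F * Nat.card h.ker := by
  let f : X →* Multiplicative F := MonoidHom.mk' (fun x => Multiplicative.ofAdd (c x)) fun x y =>
    congrArg Multiplicative.ofAdd (h x x.2 y y.2)
  have h1 : f.range = ⊤ := f.range_eq_top.mpr fun t =>
    (hs t.toAdd).elim fun x e => ⟨⟨x, e.1⟩, congrArg Multiplicative.ofAdd e.2⟩
  rw [← f.ker.index_mul_card, index_ker, h1, card_top]
  exact congrArg₂ _ rfl (Nat.card_congr ⟨fun x => ⟨x.1, x.1.2, x.2⟩, fun x => ⟨⟨x.1, x.2.1⟩, x.2.2⟩,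
    fun _ => rfl, fun _ => rfl⟩)

theorem Eig.ker_inv (E : Eig k X c μ) : ∀ x ∈ E.add.ker, k x ∈ E.add.ker := fun x hx =>
  ⟨E.inv x hx.1, by rw [E.eq x hx.1, hx.2, mul_zero]⟩

theorem Eig.iter (E : Eig k X c μ) {x : S} (hx : x ∈ X) (i : ℕ) :
    k^[i] x ∈ X ∧ c (k^[i] x) = μ ^ i * c x := by
  induction i with
  | zero => simpa using hx
  | succ i ih => rw [iterate_succ_apply', E.eq _ ih.1, ih.2]; exact ⟨E.inv _ ih.1, by ring⟩

theorem Eig.res (E : Eig k X c μ) (hle : Y ≤ X) (hY : ∀ x ∈ Y, k x ∈ Y) (h : ∃ x ∈ Y, c x ≠ 0) :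
    Eig k Y c μ :=
  ⟨hY, fun x hx y hy => E.add x (hle hx) y (hle hy), fun x hx => E.eq x (hle hx), h⟩

theorem Eig.ne_zero (E : Eig k X c μ) (h : GH n k) : μ ≠ 0 := fun e => by
  obtain ⟨x, h1, h2⟩ := E.ne
  have := (E.iter h1 (2 ^ n - 1)).2
  rw [h.kp, e, zero_pow h.pr.ne_zero, zero_mul] at this
  exact h2 this

/-- averaging over the automorphism group -/
def av (k : S →* S) (p : ℕ) (c : S → F) (μ : F) (x : S) : F := ∑ i ∈ range p, μ ^ i * c (k^[i] x)

theorem av_k {p : ℕ} (h : ∀ x, k^[p] x = x) (hμ : μ ^ p = 1) (x : S) :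
    μ * av k p c μ (k x) = av k p c μ x := by
  have h1 := sum_range_succ (fun i => μ ^ i * c (k^[i] x)) p
  rw [sum_range_succ', hμ, h, pow_zero, iterate_zero_apply, add_left_inj] at h1
  rw [av, av, ← h1, mul_sum]
  exact sum_congr rfl fun i _ => by rw [pow_succ', mul_assoc]; rfl

variable [Finite S] [Fintype F]

omit [Fintype F] in
theorem Eig.ne_one (E : Eig k X c μ) (h : GH n k) : μ ≠ 1 := fun e => by
  obtain ⟨x, h1, h2⟩ := E.ne
  obtain ⟨y, hy, rfl⟩ := Thom.surj_of_fpf k X E.inv (fun x _ => h.fpf x) h1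
  exact h2 (by rw [E.add _ (X.inv_mem hy) _ (E.inv y hy), E.add.inv hy, E.eq y hy, e]; ring)

theorem Eig.surj (E : Eig k X c μ) (h : GH n k) (H : FH n F) (t : F) : ∃ x ∈ X, c x = t := by
  by_cases e : t = 0
  · exact ⟨1, X.one_mem, e ▸ E.add.one⟩
  obtain ⟨x, h1, h2⟩ := E.ne
  obtain ⟨m, hm⟩ := H.gen (E.ne_zero h) (E.ne_one h) (div_ne_zero e h2)
  exact ⟨_, (E.iter h1 m).1, by rw [(E.iter h1 m).2, ← hm, div_mul_cancel₀ _ h2]⟩

theorem Eig.card (E : Eig k X c μ) (h : GH n k) (H : FH n F) :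
    Nat.card X = 2 ^ n * Nat.card E.add.ker := by
  rw [E.add.card (E.surj h H), Nat.card_eq_fintype_card (α := F), H.card]

omit [Finite S] in
theorem Ad.exists_eig (A : Ad X c) (h : GH n k) (H : FH n F) (hX : ∀ x ∈ X, k x ∈ X) {x : S}
    (hx : x ∈ X) (h0 : c x ≠ 0) : ∃ d μ, Eig k X d μ ∧ d x ≠ (0 : F) := by
  classical
  have h1 : ∑ μ : Fˣ, av k (2 ^ n - 1) c μ x = -c x := by
    simp only [av]
    rw [sum_comm, sum_eq_single 0 (fun i hi e => by
      rw [← sum_mul, FiniteField.sum_pow_units, H.card, if_neg fun f =>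
        (Nat.le_of_dvd (Nat.pos_of_ne_zero e) f).not_gt (mem_range.mp hi), zero_mul])
      fun e => absurd (mem_range.mpr h.pr.pos) e, ← sum_mul, FiniteField.sum_pow_units,
      if_pos (dvd_zero _), neg_one_mul, iterate_zero_apply]
  obtain ⟨μ, -, h2⟩ := exists_ne_zero_of_sum_ne_zero (h1.trans_ne (neg_ne_zero.mpr h0))
  have h3 : ∀ y ∈ X, ∀ i, k^[i] y ∈ X := fun y hy i => Iterate.rec (· ∈ X) hy hX i
  refine ⟨_, (μ : F)⁻¹, ⟨hX, fun y hy z hz => ?_, fun y _ => ?_, x, hx, h2⟩, h2⟩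
  · simp only [av, iterate_map_mul, A _ (h3 y hy _) _ (h3 z hz _), mul_add, sum_add_distrib]
  · rw [← av_k h.kp (H.pow_p μ.ne_zero) y, inv_mul_cancel_left₀ μ.ne_zero]

theorem GH.exists_eig (h : GH n k) (H : FH n F) (hX : ∀ x ∈ X, k x ∈ X) (h0 : X ≠ ⊥) :
    ∃ (d : S → F) (μ : F), Eig k X d μ := by
  classical
  obtain ⟨m, h1, h2⟩ := (h.pg.to_subgroup X).nontrivial_iff_card.mp (X.nontrivial_iff_ne_bot.mpr h0)
  obtain ⟨m, rfl⟩ := Nat.exists_eq_add_one.mpr h1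
  obtain ⟨M, hM⟩ := Sylow.exists_subgroup_card_pow_prime 2 (h2 ▸ pow_dvd_pow 2 m.le_succ)
  have h3 : M.index = 2 := Nat.eq_of_mul_eq_mul_left (Nat.two_pow_pos m) (by
    rw [← hM, card_mul_index, h2, hM, pow_succ])
  obtain ⟨x, hx⟩ : ∃ x, x ∉ M := by
    by_contra! e
    rw [(eq_top_iff' M).mpr e, index_top] at h3
    omega
  have A : Ad X fun y => if y ∈ M.map X.subtype then (0 : F) else 1 := fun y hy z hz => by
    have := mul_mem_iff_of_index_two h3 (a := ⟨y, hy⟩) (b := ⟨z, hz⟩)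
    simp only [← mem_map_iff_mem (f := X.subtype) X.subtype_injective, map_mul, coe_subtype] at this
    simp only [this]
    by_cases e : y ∈ M.map X.subtype <;> by_cases e' : z ∈ M.map X.subtype <;>
      simp [e, e', H.add_self]
  obtain ⟨d, μ, E, -⟩ := A.exists_eig h H hX x.2 (by
    rw [if_neg fun e : x.1 ∈ _ => hx ((mem_map_iff_mem X.subtype_injective).mp e)]
    exact one_ne_zero)
  exact ⟨d, μ, E⟩

theorem Eig.transport (E : Eig k X c μ) (E' : Eig k Y d ν) (h : GH n k) (H : FH n F) {ρ : F}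
    {b : S → S → F} (h1 : ∀ y ∈ Y, Ad X (b · y)) (h2 : ∀ x ∈ X, Ad Y (b x))
    (h3 : ∀ x ∈ X, ∀ y ∈ Y, c x = 0 ∨ d y = 0 → b x y = 0)
    (h4 : ∀ x ∈ X, ∀ y ∈ Y, b (k x) (k y) = ρ * b x y) :
    ∃ B : F → F → F, (∀ x y t, B (x + y) t = B x t + B y t) ∧ (∀ x s t, B x (s + t) = B x s + B x t) ∧
      (∀ x t, B (μ * x) (ν * t) = ρ * B x t) ∧ ∀ x ∈ X, ∀ y ∈ Y, b x y = B (c x) (d y) := by
  choose σ s1 s2 using E.surj h H
  choose τ t1 t2 using E'.surj h H
  have key : ∀ x ∈ X, ∀ y ∈ Y, b x y = b (σ (c x)) (τ (d y)) := fun x hx y hy => by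
    have e1 := X.mul_mem (X.inv_mem (s1 (c x))) hx
    have e2 := Y.mul_mem (Y.inv_mem (t1 (d y))) hy
    have e3 := h1 y hy _ (s1 (c x)) _ e1
    have e4 := h2 _ (s1 (c x)) _ (t1 (d y)) _ e2
    rw [mul_inv_cancel_left] at e3 e4
    beta_reduce at e3
    rw [e3, e4, h3 _ e1 y hy (.inl (by rw [E.add _ (X.inv_mem (s1 _)) x hx, E.add.inv (s1 _), s2,
      neg_add_cancel])), h3 _ (s1 _) _ e2 (.inr (by rw [E'.add _ (Y.inv_mem (t1 _)) y hy,
      E'.add.inv (t1 _), t2, neg_add_cancel])), add_zero, add_zero]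
  refine ⟨fun s t => b (σ s) (τ t), fun x y t => ?_, fun x s t => ?_, fun x t => ?_, key⟩
  · have := key _ (X.mul_mem (s1 x) (s1 y)) _ (t1 t)
    rw [E.add _ (s1 x) _ (s1 y), s2, s2, t2] at this
    exact this.symm.trans (h1 _ (t1 t) _ (s1 x) _ (s1 y))
  · have := key _ (s1 x) _ (Y.mul_mem (t1 s) (t1 t))
    rw [E'.add _ (t1 s) _ (t1 t), s2, t2, t2] at this
    exact this.symm.trans (h2 _ (s1 x) _ (t1 s) _ (t1 t))
  · have := key _ (E.inv _ (s1 x)) _ (E'.inv _ (t1 t))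
    rw [E.eq _ (s1 x), E'.eq _ (t1 t), s2, t2] at this
    exact this.symm.trans (h4 _ (s1 x) _ (t1 t))

theorem Eig.nonsing (E : Eig k X c μ) (E' : Eig k Y d ν) (h : GH n k) (H : FH n F)
    {b : S → S → F} (h1 : ∀ y ∈ Y, Ad X (b · y)) (h2 : ∀ x ∈ X, Ad Y (b x))
    (h3 : ∀ x ∈ X, ∀ y ∈ Y, c x = 0 ∨ d y = 0 → b x y = 0)
    (h4 : ∀ x ∈ X, ∀ y ∈ Y, b (k x) (k y) = ν * b x y) {x y : S} (hx : x ∈ X) (hy : y ∈ Y)
    (h5 : c x ≠ 0) (h6 : d y ≠ 0) (h7 : b x y = 0) : ∀ x ∈ X, ∀ y ∈ Y, b x y = 0 := by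
  obtain ⟨B, e1, e2, e3, e4⟩ := E.transport E' h H h1 h2 h3 h4
  exact fun u hu v hv => (e4 u hu v hv).trans (H.nonsing e1 e2 (E.ne_one h) (E'.ne_zero h)
    (E'.ne_one h) e3 h5 h6 (e4 x hx y hy ▸ h7) _ _)

omit [Fintype F] in
theorem Eig.z_inj (h : GH n k) (E : Eig k h.Z0 c μ) {x : S} (hx : x * x = 1) (h0 : c x = 0) :
    x = 1 := by
  by_contra e
  obtain ⟨y, h1, h2⟩ := E.ne
  exact h2 (h.mem_of_inv E.ker_inv (fun f => e (f.le (show x ∈ E.add.ker from ⟨hx, h0⟩))) h1).2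

theorem two_pow_mul_inj {a b c d : ℕ} (hb : 0 < b) (hd : 0 < d)
    (h : 2 ^ a * (2 ^ b - 1) = 2 ^ c * (2 ^ d - 1)) : b = d := by
  have h1 : ∀ {a b}, 0 < b → (2 ^ b - 1).Coprime (2 ^ a) := fun {a b} hb =>
    (Nat.coprime_two_right.mpr (Nat.Even.sub_odd (Nat.two_pow_pos b)
      ((Nat.even_pow' hb.ne').mpr even_two) odd_one)).pow_right _
  have h2 := Nat.dvd_antisymm ((h1 hb).dvd_of_dvd_mul_left (h ▸ dvd_mul_left _ _))
    ((h1 hd).dvd_of_dvd_mul_left (h ▸ dvd_mul_left _ (2 ^ c)))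
  have := Nat.two_pow_pos b
  have := Nat.two_pow_pos d
  exact Nat.pow_right_injective le_rfl (show 2 ^ b = 2 ^ d by omega)

omit [Fintype F] in
theorem GH.order (h : GH n k) (h4 : ∀ x : S, x * x * (x * x) = 1) :
    Nat.card S = 2 ^ n ∨ Nat.card S = 2 ^ (2 * n) ∨ Nat.card S = 2 ^ (3 * n) := by
  classical
  have := Fintype.ofFinite S
  obtain ⟨t, -, h1, h2⟩ := exists_inv h.pg h.Z0_ne
  let _ : CommGroup h.Z0 := ⟨fun a b => Subtype.ext (h.cen b.2 a)⟩
  obtain ⟨φ, hφ⟩ := CommGroup.exists_apply_ne_one_of_hasEnoughRootsOfUnity h.Z0 ℂ (a := ⟨t, h1⟩)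
    fun e => h2 (congrArg Subtype.val e)
  let l : h.Z0 →* ℂ := (Units.coeHom ℂ).comp φ
  let sq : S → h.Z0 := fun x => ⟨x * x, h4 x⟩
  have h3 : ∀ x y : S, ⁅x, y⁆ * ⁅x, y⁆ = 1 := fun x y => by
    have e : ⁅x, y⁆ = (x * y) * (x * y) * (y * (x * x) * y)⁻¹ := by group
    rw [h.cen (h4 x), mul_assoc (x * x)] at e
    exact e ▸ h.Z0.mul_mem (h4 _) (h.Z0.inv_mem (h.Z0.mul_mem (h4 x) (h4 y)))
  let cm : S → S →* ℂ := fun u => l.comp (MonoidHom.mk' (fun x => ⟨⁅x, u⁆, h3 x u⟩) fun x y =>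
    Subtype.ext (by
      change _ = ⁅x, u⁆ * ⁅y, u⁆
      rw [h.cen (h3 y u), ← h.conj (h3 y u) x]; group))
  have h5 : ∀ x u, l (sq (x * u)) = l (sq x) * (l (sq u) * cm u x) := fun x u => by
    rw [← mul_assoc, mul_comm]
    change _ = l _ * _
    rw [← map_mul, ← map_mul]
    exact congrArg l (Subtype.ext (h.sq_mul (h4 x) u))
  have h6 : ∀ z, l z * l z = 1 := fun z => by
    rw [← map_mul, show z * z = 1 from Subtype.ext z.2, map_one]
  let N : S → ℕ := fun z => (univ.filter fun x => x * x = z).card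
  have h7 : ∀ z : h.Z0, z ≠ 1 → N z = N t := fun z hz =>
    h.ind (P := fun z => N z = N t) (fun z e => e ▸ (card_bijective k ⟨h.inj, h.surj⟩ fun x => by
      simp [← map_mul, h.inj.eq_iff]).symm) h1 h2 rfl z.2 fun e => hz (Subtype.ext e)
  have h8 : ∀ f : h.Z0 →* ℂ, ∑ x, f (sq x) = 2 ^ n - N t + N t * ∑ z, f z := fun f => by
    have e : N 1 = 2 ^ n := by rw [← h.cI, Nat.card_eq_fintype_card, Fintype.card_subtype]
    rw [← sum_fiberwise_of_maps_to (g := sq) (t := univ) fun _ _ => mem_univ _, mul_sum,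
      ← add_sum_erase _ _ (mem_univ 1), ← add_sum_erase _ (fun z => N t * f z) (mem_univ 1),
      sum_congr rfl (g := fun z => N t * f z) fun z hz => by
        rw [sum_congr rfl fun x hx => by rw [(mem_filter.mp hx).2], sum_const, nsmul_eq_mul,
          ← h7 z (ne_of_mem_erase hz)]
        simp [N, sq, Subtype.ext_iff],
      sum_congr rfl fun x hx => by rw [(mem_filter.mp hx).2], sum_const, nsmul_eq_mul, map_one,
      show (univ.filter fun x => sq x = 1).card = N 1 by simp [N, sq, Subtype.ext_iff], e]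
    push_cast
    ring
  have h9 := h8 1
  have h10 := h8 l
  rw [sum_hom_units_eq_zero l fun e => hφ (Units.ext (DFunLike.congr_fun e _)), mul_zero,
    add_zero] at h10
  simp only [MonoidHom.one_apply, sum_const, card_univ, ← Nat.card_eq_fintype_card, h.card_Z0,
    nsmul_eq_mul, mul_one] at h9
  obtain ⟨s, hs⟩ := h.pg.exists_card_eq
  let R : Subgroup S := ⟨⟨⟨{u | cm u = 1}, fun {a b} ha hb => ?_⟩, ?_⟩, fun {a} ha => ?_⟩
  rotate_left
  · ext x
    have := h5 x (a * b)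
    rw [← mul_assoc x, h5, h5, h5 a b, ha, hb] at this
    have e := fun z => left_ne_zero_of_mul_eq_one (h6 z)
    simpa [e, mul_assoc] using this.symm
  · ext x
    simp [cm, show (⟨1, h.Z0.one_mem⟩ : h.Z0) = 1 from rfl]
  · ext x
    have := h5 (x * a⁻¹) a
    rw [inv_mul_cancel_right, h5, ha, show sq a⁻¹ = (sq a)⁻¹ from Subtype.ext (mul_inv_rev a a).symm,
      show (sq a)⁻¹ = sq a from inv_eq_of_mul_eq_one_right (Subtype.ext (sq a).2)] at this
    have e := left_ne_zero_of_mul_eq_one (h6 (sq x))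
    refine mul_left_cancel₀ e ?_
    simp only [MonoidHom.one_apply, mul_one] at this ⊢
    linear_combination -this - l (sq x) * cm a⁻¹ x * h6 (sq a)
  have h0 : 0 < n := by have := h.n3; omega
  have h11 : ((2 : ℤ) ^ n - N t) * (2 ^ n - 1) = 2 ^ (2 * n) - 2 ^ s := by
    have : ((2 ^ s : ℕ) : ℤ) = 2 ^ n - N t + N t * (2 ^ n : ℕ) := by rw [← hs]; exact_mod_cast h9
    push_cast at this
    rw [this]; ring
  by_cases e : ∀ u ∈ R, l (sq u) = 1
  swap
  · push Not at e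
    obtain ⟨u, e1, e2⟩ := e
    have e3 := Equiv.sum_comp (Equiv.mulRight u) fun x => l (sq x)
    simp only [Equiv.coe_mulRight, h5, show cm u = 1 from e1, MonoidHom.one_apply, mul_one,
      ← sum_mul, h10] at e3
    have e4 : (2 : ℤ) ^ n - N t = 0 := by
      by_contra f
      exact e2 ((mul_eq_left₀ (by exact_mod_cast f)).mp e3)
    rw [e4, zero_mul, eq_comm, sub_eq_zero] at h11
    exact .inr (.inl (hs.trans (by exact_mod_cast h11.symm)))
  have h12 : (∑ x, l (sq x)) * ∑ x, l (sq x) = Nat.card R * Nat.card S := by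
    rw [sum_mul_sum, sum_congr rfl fun x _ => (Equiv.sum_comp (Equiv.mulLeft x) _).symm, sum_comm]
    simp only [Equiv.coe_mulLeft, h5, ← mul_assoc, h6, one_mul, ← mul_sum, sum_hom_units]
    rw [sum_congr rfl (g := fun u => if u ∈ R then (Nat.card S : ℂ) else 0) fun u _ => by
      by_cases f : u ∈ R
      · rw [e u f, if_pos f, if_pos (show cm u = 1 from f), one_mul, Nat.card_eq_fintype_card]
      · rw [if_neg f, if_neg (show ¬ cm u = 1 from f), Nat.cast_zero, mul_zero],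
      ← sum_filter, sum_const, nsmul_eq_mul, Nat.card_eq_fintype_card (α := R), Fintype.card_subtype]
  obtain ⟨r, hr⟩ := (h.pg.to_subgroup R).exists_card_eq
  rw [h10, hr, hs] at h12
  have h13 : ((2 : ℤ) ^ n - N t).natAbs * ((2 : ℤ) ^ n - N t).natAbs = 2 ^ (r + s) := by
    rw [← Int.natAbs_mul, show ((2 : ℤ) ^ n - N t) * (2 ^ n - N t) = (2 ^ (r + s) : ℕ) by
      rw [pow_add]; exact_mod_cast h12, Int.natAbs_natCast]
  obtain ⟨m, -, hm⟩ := (Nat.dvd_prime_pow Nat.prime_two).mp (Dvd.intro _ h13)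
  have h14 := congrArg Int.natAbs h11
  have h15 : ∀ a b : ℕ, ((2 : ℤ) ^ (a + b) - 2 ^ a).natAbs = 2 ^ a * (2 ^ b - 1) := fun a b => by
    zify [Nat.one_le_two_pow]
    rw [pow_add, ← mul_sub_one, abs_of_nonneg (mul_nonneg (by positivity)
      (sub_nonneg.mpr (one_le_pow₀ one_le_two)))]
  have h16 := h15 0 n
  rw [zero_add, pow_zero, pow_zero, one_mul] at h16
  rw [Int.natAbs_mul, hm, h16] at h14
  rcases lt_trichotomy s (2 * n) with f | f | f
  · rw [← Nat.add_sub_cancel' f.le, h15] at h14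
    have := two_pow_mul_inj h0 (by omega) h14
    exact .inl (hs.trans (by congr 1; omega))
  · exact .inr (.inl (f ▸ hs))
  · rw [← Nat.add_sub_cancel' f.le, ← Int.natAbs_neg, neg_sub, h15] at h14
    have := two_pow_mul_inj h0 (by omega) h14
    exact .inr (.inr (hs.trans (by congr 1; omega)))

end Cfsg.Agent.EP.Hg
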