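import Cfsg.Agent.EP.HigB

/-! The exponent of a Suzuki `2`-group is `4`. -/

namespace Cfsg.Agent.EP.Hg

open Finset Subgroup Function
open scoped commutatorElement

variable {S : Type*} [Group S] [Finite S] {F : Type*} [Field F] [Fintype F] {n : ℕ} {k : S →* S}
  {c z : S → F} {μ ν : F}

omit [Finite S] [Fintype F] in
theorem Ad.top (A : Ad ⊤ c) (x y : S) : c (x * y) = c x + c y := A x trivial y trivial

omit [Finite S] [Fintype F] in
theorem Ad.cm (A : Ad ⊤ c) (x y : S) : c ⁅x, y⁆ = 0 := by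
  simp [commutatorElement_def, A.top, A.inv]

omit [Finite S] [Fintype F] in
theorem Ad.pow (A : Ad ⊤ c) {x : S} (h : c x = 0) (m : ℕ) : c (x ^ m) = 0 :=
  (A.ker.pow_mem (show x ∈ A.ker from ⟨trivial, h⟩) m).2

omit [Finite S] in
theorem cm_mul_left (x y a : S) : ⁅x * y, a⁆ = x * ⁅y, a⁆ * x⁻¹ * ⁅x, a⁆ := by group

section caseA
variable (h : GH n k) (H : FH n F) (Z : Eig k h.Z0 z ν) (E : Eig k ⊤ c μ)
  (hc : ∀ a b, c a = 0 → c b = 0 → Commute a b)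

omit [Finite S] [Fintype F] in
include E hc in
theorem cm_mul (u : S) {a b : S} (ha : c a = 0) : ⁅u, a * b⁆ = ⁅u, a⁆ * ⁅u, b⁆ := by
  rw [show ⁅u, a * b⁆ = ⁅u, a⁆ * (a * ⁅u, b⁆ * a⁻¹) by group, (hc _ _ ha (E.add.cm u b)).eq,
    mul_inv_cancel_right]

omit [Finite S] [Fintype F] in
include E hc in
theorem cm_pow (u : S) {a : S} (ha : c a = 0) (m : ℕ) : ⁅u, a ^ m⁆ = ⁅u, a⁆ ^ m := by
  induction m with
  | zero => simp
  | succ m ih => rw [pow_succ', cm_mul E hc u ha, ih, pow_succ']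

include H Z E hc in
theorem caseA : (∀ x y : S, Commute x y) ∨ ∀ x : S, x * x * (x * x) = 1 := by
  classical
  have c2 : ∀ x, c (x * x) = 0 := fun x => by rw [E.add.top, H.add_self]
  by_cases h0 : ∀ a, c a = 0 → a * a = 1
  · exact .inr fun x => h0 _ (c2 x)
  have c0 : ∀ t, t * t = 1 → c t = 0 := fun t ht => (h.mem_of_inv E.ker_inv (fun e => h0 fun a ha => by
    rw [mem_bot.mp (e.le (show a ∈ E.add.ker from ⟨trivial, ha⟩)), one_mul]) ht).2
  obtain ⟨s, hs⟩ := h.pg.exists_card_eq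
  have sq : ∀ (x : S) e, x ^ 2 ^ e * x ^ 2 ^ e = x ^ 2 ^ (e + 1) := fun x e => by
    rw [← pow_add, pow_succ, mul_two]
  have hex : ∀ g : S → S → S, (∀ u a, c a = 0 → g u a = 1) ∨ ∃ m, (∀ u a, c a = 0 →
      g u a ^ 2 ^ m * g u a ^ 2 ^ m = 1) ∧ ¬ ∀ u a, c a = 0 → g u a ^ 2 ^ m = 1 := fun g => by
    have e : ∃ e, ∀ u a, c a = 0 → g u a ^ 2 ^ e = 1 := ⟨s, fun u a _ => hs ▸ pow_card_eq_one'⟩
    have e1 := Nat.find_spec e
    have e2 := @Nat.find_min _ _ e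
    generalize Nat.find e = m at e1 e2
    obtain _ | m := m
    · exact .inl (by simpa using e1)
    · exact .inr ⟨m, by simpa only [sq] using e1, e2 m.lt_succ_self⟩
  obtain ⟨f, f1, f2⟩ := (hex fun _ a => a).resolve_left fun e => h0 fun a ha => by
    rw [e 1 a ha, one_mul]
  replace f1 := f1 1
  obtain _ | f := f
  · exact absurd (by simpa using f1) h0
  push Not at f2
  obtain ⟨-, a0, f2, f3⟩ := f2
  have D : Eig k E.add.ker (fun a => z (a ^ 2 ^ (f + 1))) ν := ⟨E.ker_inv, fun a ha b hb => by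
    rw [(hc a b ha.2 hb.2).mul_pow, Z.add _ (f1 a ha.2) _ (f1 b hb.2)],
    fun a ha => by rw [← map_pow, Z.eq _ (f1 a ha.2)], a0, ⟨trivial, f2⟩,
    fun e => f3 (Z.z_inj h (f1 a0 f2) e)⟩
  have hom : ∀ i j a, i + j = f + 2 → c a = 0 → a ^ 2 ^ i = 1 → ∃ r, c r = 0 ∧ a = r ^ 2 ^ j :=
    fun i => by
    induction i with
    | zero => exact fun j a _ _ e => ⟨1, E.add.one, by simpa using e⟩
    | succ i ih =>
      intro j a e ha e1
      obtain ⟨w, h1, h2⟩ := D.surj h H (z (a ^ 2 ^ i))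
      rw [← sq] at e1
      have h3 := Z.z_inj h (h.Z0.mul_mem e1 (f1 w h1.2)) (by
        rw [Z.add _ e1 _ (f1 w h1.2), h2, H.add_self])
      have h4 := E.add.pow h1.2 (2 ^ j)
      obtain ⟨r, h5, h6⟩ := ih (j + 1) (a * w ^ 2 ^ j) (by omega) (by rw [E.add.top, ha, h4, add_zero])
        (by rw [(hc _ _ ha h4).mul_pow, ← pow_mul, ← pow_add, show j + i = f + 1 by omega, h3])
      have h7 := E.add.pow h5 2
      refine ⟨r ^ 2 * w⁻¹, by rw [E.add.top, E.add.inv trivial, h7, h1.2, neg_zero, add_zero], ?_⟩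
      rw [(hc _ _ h7 h1.2).inv_right.mul_pow, ← pow_mul, ← pow_succ', ← h6, inv_pow,
        mul_inv_cancel_right]
  have desc : (∀ u a, c a = 0 → ⁅u, a⁆ ^ 2 ^ f = 1) → ∀ u, (u * u) ^ 2 ^ (f + 1) = 1 → c u = 0 :=
    fun e u e1 => by
    have key : ∀ j, ∃ v w, c v = c u ∧ c w = 0 ∧ v * v = w ^ 2 ^ (j + 1) := fun j => by
      induction j with
      | zero => exact ⟨u, (hom (f + 1) 1 _ rfl (c2 u) e1).imp fun _ e => ⟨rfl, e⟩⟩
      | succ j ih =>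
        obtain ⟨v, w, h1, h2, h3⟩ := ih
        have h4 : c w⁻¹ = 0 := by rw [E.add.inv trivial, h2, neg_zero]
        obtain ⟨r, h5, h6⟩ := hom f 2 _ rfl (E.add.cm v w⁻¹) (e v _ h4)
        refine ⟨v * w⁻¹ ^ 2 ^ j, r, by rw [E.add.top, E.add.pow h4, add_zero, h1], h5, ?_⟩
        rw [add_comm (j + 1), ← add_assoc, add_comm (1 + j), ← add_assoc, pow_add 2 (1 + 1), pow_mul,
          ← h6, ← cm_pow E hc v h4, show ∀ x, v * x * (v * x) = ⁅v, x⁆ * (x * (v * v) * x) from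
            fun x => by group, h3, ← sq, inv_pow, inv_mul_cancel_left, mul_inv_cancel, mul_one]
    obtain ⟨v, w, h1, h2, h3⟩ := key (f + 1)
    rw [← h1, c0 v (by rw [h3, ← sq, f1 w h2])]
  obtain m0 | ⟨m, m1, hm⟩ := hex fun u a => ⁅u, a⁆
  · have m1 : ∀ u a, c a = 0 → u * a * u⁻¹ = a := fun u a ha =>
      mul_inv_eq_one.mp (m0 u a ha)
    have m2 : ∀ u v : S, ⁅u, v⁆ * ⁅u, v⁆ = 1 := fun u v => by
      have := cm_mul_left v v u
      rw [m1 _ _ (E.add.cm v u), ← commutatorElement_inv, m0 u _ (c2 v), ← commutatorElement_inv u,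
        ← mul_inv_rev, inv_inj] at this
      exact this.symm
    have m3 := desc fun u a ha => by rw [m0 u a ha, one_pow]
    obtain ⟨u, -, hu⟩ := E.ne
    have m4 : z ((u * u) ^ 2 ^ (f + 1)) ≠ 0 := fun e => hu (m3 u (Z.z_inj h (f1 _ (c2 u)) e))
    have D' : Eig k ⊤ (fun u => z ((u * u) ^ 2 ^ (f + 1))) ν := ⟨E.inv, fun x _ y _ => by
      have e : x * y * (x * y) = ⁅x, y⁆ * (y * (x * x) * y⁻¹ * (y * y)) := by group
      have := D.add _ ⟨trivial, c2 x⟩ _ ⟨trivial, c2 y⟩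
      beta_reduce at this ⊢
      rw [e, m1 _ _ (c2 x), (show Commute ⁅x, y⁆ _ from (h.cen (m2 x y) _).symm).mul_pow, pow_succ',
        pow_mul, pow_two, m2, one_pow, one_mul, ← pow_succ', this],
      fun x _ => by rw [← map_mul]; exact D.eq _ ⟨trivial, c2 x⟩, u, trivial, m4⟩
    refine .inl fun x y => commutatorElement_eq_one_iff_commute.mp (Z.z_inj h (m2 x y)
      (D'.nonsing D' h H (b := fun x y => z ⁅x, y⁆) (fun y _ x _ x' _ => ?_) (fun x _ y _ y' _ => ?_)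
        (fun x _ y _ e => ?_) (fun x _ y _ => ?_) trivial trivial m4 m4 (by simp [Z.add.one])
        x trivial y trivial))
    · beta_reduce
      rw [cm_mul_left, h.conj (m2 _ _), Z.add _ (m2 _ _) _ (m2 _ _), add_comm]
    · beta_reduce
      rw [show ⁅x, y * y'⁆ = ⁅x, y⁆ * (y * ⁅x, y'⁆ * y⁻¹) by group, h.conj (m2 _ _),
        Z.add _ (m2 _ _) _ (m2 _ _)]
    · rcases e with e | e
      · rw [← commutatorElement_inv, m0 y x (m3 x (Z.z_inj h (f1 _ (c2 x)) e)), inv_one, Z.add.one]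
      · rw [m0 x y (m3 y (Z.z_inj h (f1 _ (c2 y)) e)), Z.add.one]
    · rw [← map_commutatorElement, Z.eq _ (m2 x y)]
  have m2 : ∀ u v a, c a = 0 → ⁅u * v, a⁆ ^ 2 ^ m = ⁅v, a⁆ ^ 2 ^ m * ⁅u, a⁆ ^ 2 ^ m :=
    fun u v a ha => by
      rw [cm_mul_left, (hc _ _ (by simp [E.add.top, E.add.inv, E.add.cm]) (E.add.cm u a)).mul_pow,
        conj_pow, h.conj (m1 v a ha)]
  have NS : ∀ u a, c u ≠ 0 → c a = 0 → ⁅u, a⁆ ^ 2 ^ m = 1 → a ^ 2 ^ (f + 1) = 1 :=
    fun u a h1 h2 h3 => by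
    by_contra h4
    refine hm fun v b hb =>
      Z.z_inj h (m1 v b hb) (E.nonsing D h H (b := fun x y => z (⁅x, y⁆ ^ 2 ^ m))
        (fun y hy x _ x' _ => ?_) (fun x _ y hy y' hy' => ?_) (fun x _ y hy e => ?_)
        (fun x _ y hy => ?_) trivial ⟨trivial, h2⟩ h1 (fun e => h4 (Z.z_inj h (f1 a h2) e))
        (by rw [h3, Z.add.one]) v trivial b ⟨trivial, hb⟩)
    · beta_reduce
      rw [m2 _ _ _ hy.2, Z.add _ (m1 _ _ hy.2) _ (m1 _ _ hy.2), add_comm]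
    · beta_reduce
      rw [cm_mul E hc x hy.2, (hc _ _ (E.add.cm _ _) (E.add.cm _ _)).mul_pow,
        Z.add _ (m1 _ _ hy.2) _ (m1 _ _ hy'.2)]
    · rcases e with e | e
      · rw [(hc _ _ e hy.2).commutator_eq, one_pow, Z.add.one]
      · obtain ⟨r, e1, rfl⟩ := hom (f + 1) 1 y rfl hy.2 (Z.z_inj h (f1 y hy.2) e)
        rw [cm_pow E hc x e1, ← pow_mul, mul_comm, pow_mul, pow_one, pow_two, m1 x r e1, Z.add.one]
    · rw [← map_commutatorElement, ← map_pow, Z.eq _ (m1 x y hy.2)]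
  have m3 : ∀ u, c u ≠ 0 → (u * u) ^ 2 ^ (f + 1) = 1 := fun u hu => NS u _ hu (c2 u) (by
    rw [((Commute.refl u).mul_right (Commute.refl u)).commutator_eq, one_pow])
  have m4 : ∀ u a, c a = 0 → ⁅u, ⁅u, a⁆ * (a * a)⁆ = 1 := fun u a ha => by
    rw [cm_mul E hc u (E.add.cm u a), cm_mul E hc u ha, ← (hc _ _ (c2 u) ha).commutator_eq,
      cm_mul_left, commutatorElement_def u ⁅u, a⁆, ← mul_assoc, inv_mul_cancel_right]
  obtain ⟨u, -, hu⟩ := E.surj h H 1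
  have hu' : c u ≠ 0 := hu ▸ one_ne_zero
  rcases lt_trichotomy m f with e | rfl | e
  · refine absurd (desc (fun v a ha => ?_) u (m3 u hu')) hu'
    rw [← Nat.add_sub_cancel' (Nat.succ_le_of_lt e), pow_add, pow_mul, ← sq, m1 v a ha, one_pow]
  · obtain rfl | hm0 := m.eq_zero_or_pos
    · refine .inr fun x => ?_
      by_cases e : c x = 0
      · simpa [pow_two] using f1 x e
      · simpa [pow_two] using m3 x e
    have m5 : ∀ u, c u ≠ 0 → ⁅u, a0⁆ ^ 2 ^ m * a0 ^ 2 ^ (m + 1) = 1 := fun u hu => by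
      obtain ⟨r, e1, e2⟩ := hom (m + 1) 1 _ rfl (E.add.cm u a0) (by rw [← sq, m1 u a0 f2])
      have e3 : c (r * a0) = 0 := by rw [E.add.top, e1, f2, add_zero]
      have e4 := m4 u a0 f2
      rw [e2, pow_one, ← pow_two, ← (hc _ _ e1 f2).mul_pow, cm_pow E hc u e3] at e4
      rw [e2, ← pow_mul, ← pow_add, add_comm, ← (hc _ _ e1 f2).mul_pow]
      refine NS u _ hu e3 ?_
      rw [← Nat.add_sub_cancel' hm0, pow_add, pow_mul, pow_one, e4, one_pow]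
    obtain ⟨x, hx⟩ := H.exists_notMem {0, 1} (card_le_two.trans_lt (by norm_num))
    obtain ⟨v, -, rfl⟩ := E.surj h H x
    simp only [mem_insert, mem_singleton, not_or] at hx
    have e1 := m5 (u * v) fun e => hx.2 (H.eq_of_add (by rwa [E.add.top, hu, add_comm] at e))
    rw [m2 u v a0 f2, mul_assoc, m5 u hu', mul_one] at e1
    exact absurd (NS v a0 hx.1 f2 e1) f3
  · have e2 := NS u (⁅u, a0⁆ * (a0 * a0)) hu' (by rw [E.add.top, E.add.cm, c2, add_zero])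
      (by rw [m4 u a0 f2, one_pow])
    rw [(hc _ _ (E.add.cm u a0) (c2 a0)).mul_pow, (Commute.refl a0).mul_pow, f1 a0 f2, mul_one] at e2
    refine absurd (NS u a0 hu' f2 ?_) f3
    rw [← Nat.add_sub_cancel' (Nat.succ_le_of_lt e), pow_add, pow_mul, e2, one_pow]

end caseA

theorem caseB (h : GH n k) (H : FH n F) (Z : Eig k h.Z0 z ν)
    (hB : ∀ (c : S → F) μ (E : Eig k ⊤ c μ), (¬ ∀ a b, c a = 0 → c b = 0 → Commute a b) ∧
      (∀ x, c x = 0 → x * x * (x * x) = 1) ∧ (Nat.card E.add.ker = 2 ^ n ∨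
        Nat.card E.add.ker = 2 ^ (2 * n) ∨ Nat.card E.add.ker = 2 ^ (3 * n))) (u0 : S) :
    u0 * u0 * (u0 * u0) = 1 := by
  by_contra h0
  let Φ : S → Prop := fun x => ∀ (c : S → F) μ, Eig k ⊤ c μ → c x = 0
  have p1 : ∀ {c : S → F}, Ad ⊤ c → ∀ x, Φ x → c x = 0 := fun A x hx => by_contra fun e => by
    obtain ⟨d, μ, E, e'⟩ := A.exists_eig h H (fun _ _ => trivial) trivial e
    exact e' (hx d μ E)
  have p2 : ∀ x, Φ (x * x) := fun x c μ E => by rw [E.add.top, H.add_self]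
  have := h.nontriv
  obtain ⟨c1, μ1, E1⟩ := h.exists_eig H (X := ⊤) (fun _ _ => trivial) top_ne_bot
  have p3 : ∀ t, t * t = 1 → Φ t := fun t ht c μ E => (h.mem_of_inv E.ker_inv (fun e =>
    (hB c μ E).1 fun a b ha _ => by
      rw [mem_bot.mp (e.le (show a ∈ E.add.ker from ⟨trivial, ha⟩))]; exact .one_left b) ht).2
  let C : Subgroup S := ⟨⟨⟨{a | Φ a ∧ ∀ s : S, ⁅s, a⁆ * ⁅s, a⁆ = 1}, fun {a b} ha hb => ⟨fun c μ E => by
      rw [E.add.top, ha.1 c μ E, hb.1 c μ E, add_zero], fun s => by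
      rw [show ⁅s, a * b⁆ = ⁅s, a⁆ * (a * ⁅s, b⁆ * a⁻¹) by group, h.conj (hb.2 s)]
      exact h.Z0.mul_mem (ha.2 s) (hb.2 s)⟩⟩, fun c μ E => E.add.one, by simp⟩,
    fun {a} ha => ⟨fun c μ E => by rw [E.add.inv trivial, ha.1 c μ E, neg_zero], fun s => by
      rw [show ⁅s, a⁻¹⁆ = a⁻¹ * ⁅s, a⁆⁻¹ * a⁻¹⁻¹ by group, h.conj (h.Z0.inv_mem (ha.2 s))]
      exact h.Z0.inv_mem (ha.2 s)⟩⟩
  have c0 : ∀ t, t * t = 1 → t ∈ C := fun t ht => ⟨p3 t ht, fun s => by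
    rw [(show Commute s t from h.cen ht s).commutator_eq, one_mul]⟩
  have c1' : ∀ a ∈ C, k a ∈ C := fun a ha => ⟨fun c μ E => by
    rw [E.eq a trivial, ha.1 c μ E, mul_zero], fun s => by
    obtain ⟨s, rfl⟩ := h.surj s
    rw [← map_commutatorElement, ← map_mul, ha.2, map_one]⟩
  have c2 : ∀ a ∈ C, Ad ⊤ fun s => z ⁅s, a⁆ := fun a ha x _ y _ => by
    beta_reduce
    rw [cm_mul_left, h.conj (ha.2 _), Z.add _ (ha.2 _) _ (ha.2 _), add_comm]
  have c3 : ∀ a ∈ C, ∀ x, Φ x → Commute x a := fun a ha x hx =>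
    commutatorElement_eq_one_iff_commute.mp (Z.z_inj h (ha.2 x) (p1 (c2 a ha) x hx))
  have c4 : ∀ a ∈ C, a * a * (a * a) = 1 := fun a ha => (hB c1 μ1 E1).2.1 a (ha.1 _ _ E1)
  obtain ⟨a0, c5, c6⟩ : ∃ a ∈ C, a * a ≠ 1 := by
    by_contra! e
    have key : ∀ i, ∃ a ∈ (⊤ : Subgroup S).lowerCentralSeries i, Φ a ∧ a * a ≠ 1 := fun i => by
      induction i with
      | zero => exact ⟨u0 * u0, trivial, p2 u0, h0⟩
      | succ i ih =>
        obtain ⟨a, e1, e2, e3⟩ := ih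
        obtain ⟨s, hs⟩ := not_forall.mp fun f => e3 (e a ⟨e2, f⟩)
        refine ⟨⁅a, s⁆, commutator_mem_commutator e1 trivial, fun c μ E => E.add.cm _ _, fun f => hs ?_⟩
        rw [← commutatorElement_inv, ← mul_inv_rev, f, inv_one]
    obtain ⟨i, hi⟩ := Subgroup.nilpotent_iff_lowerCentralSeries.mp h.pg.isNilpotent
    obtain ⟨a, e1, -, e2⟩ := key i
    exact e2 (by rw [mem_bot.mp (hi.le e1), one_mul])
  have D : Eig k C (fun a => z (a * a)) ν := ⟨c1', fun a ha b hb => by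
    rw [(c3 b hb a ha.1).symm.mul_mul_mul_comm, Z.add _ (c4 a ha) _ (c4 b hb)],
    fun a ha => by rw [← map_mul, Z.eq _ (c4 a ha)], a0, c5, fun e => c6 (Z.z_inj h (c4 a0 c5) e)⟩
  have c7 : ∀ x, x * x * (x * x) = 1 → (∀ a ∈ C, Commute x a) → x ∈ C := fun x e1 e2 => by
    obtain ⟨a, ha, e3⟩ := D.surj h H (z (x * x))
    have := C.mul_mem (c0 (x * a) (by
      rw [(e2 a ha).symm.mul_mul_mul_comm]
      exact Z.z_inj h (h.Z0.mul_mem e1 (c4 a ha)) (by rw [Z.add _ e1 _ (c4 a ha), e3, H.add_self])))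
      (C.inv_mem ha)
    rwa [mul_inv_cancel_right] at this
  have c8 : ∀ x, Φ x → x ∈ C := fun x hx =>
    c7 x ((hB c1 μ1 E1).2.1 x (hx _ _ E1)) fun a ha => c3 a ha x hx
  have c9 : Nat.card C = 2 ^ (2 * n) := by
    rw [D.card h H, two_mul, pow_add, show D.add.ker = h.Z0 from le_antisymm
      (fun x hx => Z.z_inj h (c4 x hx.1) hx.2) fun x (hx : _ = 1) => ⟨c0 x hx, by
        simp only [hx, Z.add.one]⟩, h.card_Z0]
  have d1 : ∀ (c : S → F) μ (E : Eig k ⊤ c μ), (∃ x, c x = 0 ∧ x ∉ C) ∧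
      Nat.card E.add.ker = 2 ^ (3 * n) := fun c μ E => by
    have e1 : ∃ x, c x = 0 ∧ x ∉ C := by
      by_contra! e
      exact (hB c μ E).1 fun a b ha hb => c3 b (e b hb) a (e a ha).1
    have e2 : C ≤ E.add.ker := fun a ha => ⟨trivial, ha.1 c μ E⟩
    have e3 := (card_le_of_le e2).lt_of_ne fun f => e1.choose_spec.2
      ((eq_of_le_of_card_ge e2 f.ge).ge ⟨trivial, e1.choose_spec.1⟩)
    rw [c9] at e3
    refine ⟨e1, ((hB c μ E).2.2.resolve_left fun f => ?_).resolve_left e3.ne'⟩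
    exact (f ▸ e3).not_ge (Nat.pow_le_pow_right two_pos (by omega))
  have d2 : ∀ {c d : S → F} {μ μ'} (E : Eig k ⊤ c μ), Eig k E.add.ker d μ' → (∀ a ∈ C, d a = 0) →
      (∀ x, c x = 0 → d x = 0 → x ∈ C) ∧
      ∀ x a, c x = 0 → a ∈ C → z (a * a) ≠ 0 → z ⁅x, a⁆ = 0 → d x = 0 := fun {c d μ μ'} E E' e => by
    have e1 : C = E'.add.ker := eq_of_le_of_card_ge (fun a ha => ⟨⟨trivial, ha.1 c μ E⟩, e a ha⟩) (by
      have := E'.card h H
      rw [(d1 c μ E).2, show 3 * n = n + 2 * n by ring, pow_add] at this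
      rw [c9, Nat.eq_of_mul_eq_mul_left (Nat.two_pow_pos n) this])
    have e2 : ∀ x, c x = 0 → d x = 0 → x ∈ C := fun x f g => e1.ge ⟨⟨trivial, f⟩, g⟩
    refine ⟨e2, fun x a f1 f2 f3 f4 => by_contra fun f5 => ?_⟩
    obtain ⟨y, f6, f7⟩ := (d1 c μ E).1
    refine f7 (c7 y ((hB c μ E).2.1 y f6) fun b hb => commutatorElement_eq_one_iff_commute.mp
      (Z.z_inj h (hb.2 y) (E'.nonsing D h H (b := fun x y => z ⁅x, y⁆)
        (fun y hy x _ x' _ => c2 y hy x trivial x' trivial) (fun x _ y hy y' hy' => ?_)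
        (fun x hx y hy g => ?_) (fun x _ y hy => ?_) ⟨trivial, f1⟩ f2 f5 f3 f4 y ⟨trivial, f6⟩ b hb)))
    · beta_reduce
      rw [show ⁅x, y * y'⁆ = ⁅x, y⁆ * (y * ⁅x, y'⁆ * y⁻¹) by group, h.conj (hy'.2 _),
        Z.add _ (hy.2 _) _ (hy'.2 _)]
    · rcases g with g | g
      · rw [(c3 y hy x (e2 x hx.2 g).1).commutator_eq, Z.add.one]
      · rw [(show Commute x y from h.cen (Z.z_inj h (c4 y hy) g) x).commutator_eq, Z.add.one]
    · rw [← map_commutatorElement, Z.eq _ (hy.2 x)]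
  obtain ⟨x1, d3, d4⟩ := (d1 c1 μ1 E1).1
  obtain ⟨c2', μ2, E2, d5⟩ : ∃ (c : S → F) (μ : F), Eig k ⊤ c μ ∧ c x1 ≠ 0 := by
    by_contra! e
    exact d4 (c8 x1 e)
  have F1 := E2.res le_top E1.ker_inv ⟨x1, ⟨trivial, d3⟩, d5⟩
  have F2 := E1.res le_top E2.ker_inv (by
    by_contra! e
    exact d5 ((eq_of_le_of_card_ge (fun x hx => (⟨trivial, e x hx⟩ : x ∈ E1.add.ker))
      ((d1 _ _ E1).2.trans (d1 _ _ E2).2.symm).le).ge ⟨trivial, d3⟩).2)
  obtain ⟨d6, d7⟩ := d2 E1 F1 fun a ha => ha.1 _ _ E2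
  obtain ⟨d8, d9⟩ := d2 E2 F2 fun a ha => ha.1 _ _ E1
  have cm : ∀ x y : S, ⁅x, y⁆ ∈ C := fun x y => c8 _ fun c μ E => E.add.cm x y
  have cj : ∀ x, ∀ a ∈ C, x * a * x⁻¹ ∈ C ∧ z (x * a * x⁻¹ * (x * a * x⁻¹)) = z (a * a) :=
    fun x a ha => ⟨by
      rw [show x * a * x⁻¹ = ⁅x, a⁆ * a by group]; exact C.mul_mem (cm x a) ha, by
      rw [conj_mul, h.conj (c4 a ha)]⟩
  obtain ⟨β, b1, b2, b3, b4⟩ := F1.transport F2 h H (ρ := ν) (b := fun x y => z (⁅x, y⁆ * ⁅x, y⁆))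
    (fun y _ x _ x' _ => by
      have := D.add _ (cj x _ (cm x' y)).1 _ (cm x y)
      beta_reduce at this ⊢
      rw [cm_mul_left, this, (cj x _ (cm x' y)).2, add_comm])
    (fun x _ y _ y' _ => by
      have := D.add _ (cm x y) _ (cj y _ (cm x y')).1
      beta_reduce at this ⊢
      rw [show ⁅x, y * y'⁆ = ⁅x, y⁆ * (y * ⁅x, y'⁆ * y⁻¹) by group, this, (cj y _ (cm x y')).2])
    (fun x hx y hy e => by
      rcases e with e | e
      · rw [← commutatorElement_inv, ← mul_inv_rev, (d6 x hx.2 e).2, inv_one, Z.add.one]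
      · rw [(d8 y hy.2 e).2, Z.add.one])
    fun x _ y _ => by rw [← map_commutatorElement]; exact D.eq _ (cm x y)
  have tr : ∀ {X : Subgroup S} {d : S → F} {μ}, Eig k X d μ → (∀ x ∈ X, d x = 0 → x ∈ C) →
      ∃ B : F → F → F, (∀ x y t, B (x + y) t = B x t + B y t) ∧
        ∀ x ∈ X, ∀ y ∈ C, z ⁅x, y⁆ = B (d x) (z (y * y)) := fun E e => by
    obtain ⟨B, e1, -, -, e2⟩ := E.transport D h H (ρ := ν) (b := fun x y => z ⁅x, y⁆)
      (fun y hy x _ x' _ => c2 y hy x trivial x' trivial) (fun x _ y hy y' hy' => by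
        beta_reduce
        rw [show ⁅x, y * y'⁆ = ⁅x, y⁆ * (y * ⁅x, y'⁆ * y⁻¹) by group, h.conj (hy'.2 _),
          Z.add _ (hy.2 _) _ (hy'.2 _)]) (fun x hx y hy g => by
        rcases g with g | g
        · rw [(c3 y hy x (e x hx g).1).commutator_eq, Z.add.one]
        · rw [(show Commute x y from h.cen (Z.z_inj h (c4 y hy) g) x).commutator_eq, Z.add.one])
      fun x _ y hy => by rw [← map_commutatorElement, Z.eq _ (hy.2 x)]
    exact ⟨B, e1, e2⟩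
  obtain ⟨B1, g1, g2⟩ := tr F1 fun x hx => d6 x hx.2
  obtain ⟨B2, g3, g4⟩ := tr F2 fun x hx => d8 x hx.2
  have sq : ∀ x y, c1 x = 0 → c2' y = 0 → x * x * (y * y) * (x * x * (y * y)) = 1 ∧
      x * y * (x * y) = ⁅x, y⁆ * (x * x * (y * y)) := fun x y hx hy =>
    ⟨h.Z0.mul_mem ((hB _ _ E1).2.1 x hx) ((hB _ _ E2).2.1 y hy), h.sq_mul ((hB _ _ E1).2.1 x hx) y⟩
  have b5 := H.cubic b1 b2 g1 g3 (fun x t ht e => by
    obtain ⟨y, hy, rfl⟩ := F2.surj h H x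
    obtain ⟨a, ha, rfl⟩ := D.surj h H t
    exact d9 y a hy.2 ha ht ((g4 y hy a ha).trans e)) (fun x y => by
    obtain ⟨x, hx, rfl⟩ := F1.surj h H x
    obtain ⟨y, hy, rfl⟩ := F2.surj h H y
    rw [← b4 x hx y hy, ← g2 x hx _ (cm x y), ← g4 y hy _ (cm x y)]
    obtain ⟨e1, e2⟩ := sq x y hx.2 hy.2
    have e3 : Commute (x * y) ⁅x, y⁆ := by
      rw [eq_mul_inv_of_mul_eq e2.symm]
      exact ((Commute.refl _).mul_right (Commute.refl _)).mul_right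
        (show Commute _ _ from h.cen e1 _).inv_right
    refine H.eq_of_add ((c2 _ (cm x y) x trivial y trivial).symm.trans ?_)
    beta_reduce
    rw [e3.commutator_eq, Z.add.one]) (F1.ne_zero h) (F1.ne_one h) (D.ne_zero h) b3
  obtain ⟨v, e1, e2⟩ := F2.surj h H (c1 u0)
  have e3 : c1 (u0 * v⁻¹) = 0 := by rw [E1.add.top, E1.add.inv trivial, e2, add_neg_cancel]
  obtain ⟨e4, e5⟩ := sq _ v e3 e1.2
  rw [inv_mul_cancel_right] at e5
  exact h0 (e5 ▸ h.Z0.mul_mem (Z.z_inj h (c4 _ (cm _ v)) ((b4 _ ⟨trivial, e3⟩ v e1).trans (b5 _ _))) e4)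

universe u

theorem expo (H : FH n F) (m : ℕ) : ∀ (S : Type u) [Group S] [Finite S] (k : S →* S), Nat.card S = m →
    GH n k → (∀ x y : S, Commute x y) ∨ ∀ x : S, x * x * (x * x) = 1 := by
  induction m using Nat.strong_induction_on with
  | _ m ih =>
  rintro S _ _ k rfl h
  obtain ⟨z, ν, Z⟩ := h.exists_eig H h.Z0_inv h.Z0_ne
  by_cases e : ∃ (c : S → F) (μ : F), Eig k ⊤ c μ ∧ ∀ a b, c a = 0 → c b = 0 → Commute a b
  · obtain ⟨c, μ, E, hc⟩ := e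
    exact caseA h H Z E hc
  refine .inr (caseB h H Z fun c μ E => ?_)
  have e1 : ¬ ∀ a b, c a = 0 → c b = 0 → Commute a b := fun f => e ⟨c, μ, E, f⟩
  have h' := h.sub E.ker_inv fun f => e1 fun a b ha _ => by
    rw [mem_bot.mp (f.le (show a ∈ E.add.ker from ⟨trivial, ha⟩))]; exact .one_left b
  have e2 := (ih _ ((card_le_card_group _).lt_of_ne fun f => E.ne.choose_spec.2
    ((eq_top_of_card_eq E.add.ker f).ge (mem_top _)).2) _ _ rfl h').resolve_left fun f => e1 fun a b ha hb =>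
      congrArg Subtype.val (f ⟨a, trivial, ha⟩ ⟨b, trivial, hb⟩)
  exact ⟨e1, fun x hx => congrArg Subtype.val (e2 ⟨x, trivial, hx⟩), h'.order e2⟩

end Cfsg.Agent.EP.Hg
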