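import Mathlib

/-! Additive and biadditive maps on a field with `2 ^ n` elements, `2 ^ n - 1` prime. -/

namespace Cfsg.Agent.EP.Hg

open Finset

/-- standing hypotheses on the field -/
structure FH (n : ℕ) (F : Type*) [Field F] [Fintype F] : Prop where
  n3 : 3 ≤ n
  pr : (2 ^ n - 1).Prime
  card : Fintype.card F = 2 ^ n
  ch : CharP F 2

theorem two_pow_add {a b c d : ℕ} (h : 2 ^ a + 2 ^ b = 2 ^ c + 2 ^ d) :
    (a = c ∧ b = d) ∨ (a = d ∧ b = c) := by
  have key : ∀ {a b c d : ℕ}, 2 ^ a + 2 ^ b = 2 ^ c + 2 ^ d → a ≤ b → c ≤ d → ¬ b < d :=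
    fun {a b c d} h h1 _ h3 => by
      have := Nat.pow_le_pow_right two_pos h1
      have := Nat.pow_le_pow_right two_pos (Nat.succ_le_of_lt h3)
      have := Nat.two_pow_pos c
      rw [pow_succ] at *
      omega
  have key2 : ∀ {a b c d : ℕ}, 2 ^ a + 2 ^ b = 2 ^ c + 2 ^ d → a ≤ b → c ≤ d → a = c ∧ b = d :=
    fun {a b c d} h h1 h2 => by
      obtain rfl : b = d := by have := key h h1 h2; have := key h.symm h2 h1; omega
      exact ⟨Nat.pow_right_injective le_rfl (add_right_cancel h), rfl⟩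
  rcases le_total a b with h1 | h1 <;> rcases le_total c d with h2 | h2
  · exact .inl (key2 h h1 h2)
  · exact .inr (key2 (h.trans (add_comm _ _)) h1 h2)
  · exact .inr (key2 ((add_comm _ _).trans h) h1 h2).symm
  · exact .inl (key2 ((add_comm _ _).trans (h.trans (add_comm _ _))) h1 h2).symm

namespace FH

variable {n : ℕ} {F : Type*} [Field F] [Fintype F] (H : FH n F)
include H

theorem pow_q (x : F) : x ^ 2 ^ n = x := H.card ▸ FiniteField.pow_card x

theorem pow_p {x : F} (h : x ≠ 0) : x ^ (2 ^ n - 1) = 1 :=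
  H.card ▸ FiniteField.pow_card_sub_one_eq_one x h

theorem ord {x : F} (h : x ≠ 0) (h1 : x ≠ 1) : orderOf x = 2 ^ n - 1 :=
  have := Fact.mk H.pr
  orderOf_eq_prime (H.pow_p h) h1

theorem pow_mod (x : F) (a : ℕ) : x ^ 2 ^ (a % n) = x ^ 2 ^ a := by
  conv_rhs => rw [← Nat.div_add_mod a n, pow_add, pow_mul 2, pow_mul, ← H.card,
    FiniteField.pow_card_pow]

theorem add_pow (x y : F) (a : ℕ) : (x + y) ^ 2 ^ a = x ^ 2 ^ a + y ^ 2 ^ a :=
  have := H.ch
  add_pow_char_pow x y 2 a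

theorem add_self (x : F) : x + x = 0 :=
  have := H.ch
  CharTwo.add_self_eq_zero x

theorem gen {x : F} (h : x ≠ 0) (h1 : x ≠ 1) {y : F} (hy : y ≠ 0) : ∃ m : ℕ, y = x ^ m := by
  classical
  have h2 : Subgroup.zpowers (Units.mk0 x h) = ⊤ := Subgroup.eq_top_of_card_eq _ (by
    rw [Nat.card_zpowers, ← orderOf_units, Units.val_mk0, H.ord h h1, Nat.card_eq_fintype_card,
      Fintype.card_units, H.card])
  obtain ⟨m, hm⟩ := mem_powers_iff_mem_zpowers.mpr (h2.ge (Subgroup.mem_top (Units.mk0 y hy)))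
  exact ⟨m, (congrArg Units.val hm).symm⟩

theorem bin {x : F} (h : x ≠ 0) (h1 : x ≠ 1) {a b c d : ℕ}
    (e : x ^ 2 ^ a * x ^ 2 ^ b = x ^ 2 ^ c * x ^ 2 ^ d) :
    (a % n = c % n ∧ b % n = d % n) ∨ (a % n = d % n ∧ b % n = c % n) := by
  have h0 : 0 < n := by have := H.n3; omega
  have h2 : ∀ a, 2 * 2 ^ (a % n) ≤ 2 ^ n ∧ 0 < 2 ^ (a % n) := fun a =>
    ⟨by rw [← pow_succ']; exact Nat.pow_le_pow_right two_pos (Nat.mod_lt a h0), Nat.two_pow_pos _⟩
  rw [← H.pow_mod x a, ← H.pow_mod x b, ← H.pow_mod x c, ← H.pow_mod x d, ← pow_add, ← pow_add,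
    (isOfFinOrder_iff_pow_eq_one.mpr ⟨_, H.pr.pos, H.pow_p h⟩).pow_eq_pow_iff_modEq, H.ord h h1] at e
  have := h2 a
  have := h2 b
  have := h2 c
  have := h2 d
  exact two_pow_add (e.eq_of_abs_lt (by rw [abs_lt]; push_cast [H.pr.one_le.trans (Nat.sub_le _ _)] ; zify at *; omega))

theorem uniq {d : Fin n → F} (h : ∀ x, ∑ a, d a * x ^ 2 ^ (a : ℕ) = 0) (a : Fin n) : d a = 0 := by
  have h1 := Polynomial.eq_zero_of_natDegree_lt_card_of_eval_eq_zero
    (∑ a : Fin n, Polynomial.monomial (2 ^ (a : ℕ)) (d a)) Function.injective_id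
    (fun x => by simpa [Polynomial.eval_finsetSum] using h x)
    (lt_of_le_of_lt (Polynomial.natDegree_sum_le_of_forall_le _ _ fun b _ =>
      (Polynomial.natDegree_monomial_le _).trans (Nat.pow_le_pow_right two_pos
        (Nat.le_sub_one_of_lt b.2))) (H.card ▸ Nat.pow_lt_pow_right one_lt_two (by
          have := H.n3; omega)))
  have h2 := congrArg (Polynomial.coeff · (2 ^ (a : ℕ))) h1
  simpa [Polynomial.coeff_monomial, Fin.val_inj] using h2

theorem exp1 {f : F → F} (hf : ∀ x y, f (x + y) = f x + f y) :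
    ∃ d : Fin n → F, ∀ x, f x = ∑ a, d a * x ^ 2 ^ (a : ℕ) := by
  have := H.ch
  let _ := ZMod.algebra F 2
  let v : Fin n → F →ₗ[ZMod 2] F := fun a =>
    (AddMonoidHom.mk' (fun x => x ^ 2 ^ (a : ℕ)) fun x y => H.add_pow x y a).toZModLinearMap 2
  have h1 : LinearIndependent F v := Fintype.linearIndependent_iff.mpr fun d hd =>
    H.uniq fun x => by simpa [v] using DFunLike.congr_fun hd x
  have h2 : Module.finrank (ZMod 2) F = n := Nat.pow_right_injective le_rfl (by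
    have := Module.card_eq_pow_finrank (K := ZMod 2) (V := F)
    rw [ZMod.card, H.card] at this
    exact this.symm)
  have h3 := h1.span_eq_top_of_card_eq_finrank' (by rw [Module.finrank_linearMap_self, h2]; simp)
  obtain ⟨d, hd⟩ := (Submodule.mem_span_range_iff_exists_fun F).mp
    (h3.ge (Submodule.mem_top (x := (AddMonoidHom.mk' f hf).toZModLinearMap 2)))
  exact ⟨d, fun x => by simpa [v] using (DFunLike.congr_fun hd x).symm⟩

theorem exp2 {B : F → F → F} (h1 : ∀ x y t, B (x + y) t = B x t + B y t)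
    (h2 : ∀ x s t, B x (s + t) = B x s + B x t) {μ l ν : F}
    (h : ∀ x t, B (μ * x) (l * t) = ν * B x t) :
    ∃ d : Fin n → Fin n → F, (∀ x t, B x t = ∑ b, (∑ a, d b a * x ^ 2 ^ (a : ℕ)) * t ^ 2 ^ (b : ℕ)) ∧
      ∀ b a, d b a ≠ 0 → μ ^ 2 ^ (a : ℕ) * l ^ 2 ^ (b : ℕ) = ν := by
  choose c hc using fun x => H.exp1 (h2 x)
  choose d hd using fun b => H.exp1 (f := fun x => c x b) fun x y => sub_eq_zero.mp
    (H.uniq (d := fun b => c (x + y) b - (c x b + c y b)) (fun t => by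
      simp only [sub_mul, add_mul, sum_sub_distrib, sum_add_distrib, ← hc, h1, sub_self]) b)
  refine ⟨d, fun x t => by simp only [hc, hd], fun b a e => ?_⟩
  have h3 := fun x => H.uniq (d := fun b => c (μ * x) b * l ^ 2 ^ (b : ℕ) - ν * c x b) (fun t => by
    simp only [sub_mul, sum_sub_distrib, mul_assoc, ← mul_pow, ← mul_sum, ← hc, h, sub_self]) b
  have h4 := H.uniq (d := fun a => d b a * (μ ^ 2 ^ (a : ℕ) * l ^ 2 ^ (b : ℕ) - ν)) (fun x => by
    rw [← h3 x, hd, hd, sum_mul, mul_sum, ← sum_sub_distrib]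
    exact sum_congr rfl fun a _ => by ring) a
  exact sub_eq_zero.mp ((mul_eq_zero.mp h4).resolve_left e)

/-- an equivariant biadditive map `W × V → V` is zero or nonsingular -/
theorem nonsing {B : F → F → F} (h1 : ∀ x y t, B (x + y) t = B x t + B y t)
    (h2 : ∀ x s t, B x (s + t) = B x s + B x t) {μ ν : F} (hμ : μ ≠ 1) (h0 : ν ≠ 0) (hν : ν ≠ 1)
    (h : ∀ x t, B (μ * x) (ν * t) = ν * B x t) {x t : F} (hx : x ≠ 0) (ht : t ≠ 0) (e : B x t = 0)
    (y s : F) : B y s = 0 := by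
  obtain ⟨d, hd, h3⟩ := H.exp2 h1 h2 h
  have h4 : ∀ b a b' a', d b a ≠ 0 → d b' a' ≠ 0 → a' = a ∧ b' = b := fun b a b' a' f f' => by
    have e1 := congrArg (· ^ 2 ^ (a' : ℕ)) (h3 b a f)
    have e2 := congrArg (· ^ 2 ^ (a : ℕ)) (h3 b' a' f')
    simp only [mul_pow, ← pow_mul, ← pow_add] at e1 e2
    rcases H.bin h0 hν (a := a') (b := b' + a) (c := a) (d := b + a') (by
      rw [← e1, ← e2, add_comm (a' : ℕ) a]; ring) with ⟨g1, g2⟩ | ⟨g1, -⟩
    · rw [Nat.mod_eq_of_lt a.2, Nat.mod_eq_of_lt a'.2] at g1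
      rw [g1] at g2
      have := Nat.ModEq.add_right_cancel' _ g2
      rw [Nat.ModEq, Nat.mod_eq_of_lt b.2, Nat.mod_eq_of_lt b'.2] at this
      exact ⟨Fin.ext g1, Fin.ext this⟩
    · have : 0 ≡ b [MOD n] := Nat.ModEq.add_right_cancel' a' (by rwa [zero_add])
      rw [Nat.ModEq, Nat.mod_eq_of_lt b.2, Nat.zero_mod] at this
      have g := h3 b a f
      rw [← this, pow_zero, pow_one, mul_eq_right₀ h0] at g
      have g' := congrArg (· ^ 2 ^ (n - a)) g
      simp only [← pow_mul, ← pow_add, one_pow, Nat.add_sub_cancel' a.2.le, H.pow_q] at g'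
      exact absurd g' hμ
  by_cases f : ∀ b a, d b a = 0
  · simp [hd, f]
  push Not at f
  obtain ⟨b, a, f⟩ := f
  rw [hd, sum_eq_single b (fun b' _ g => by
      rw [sum_eq_zero fun a' _ => by
        rw [by_contra fun g' => g (h4 b a b' a' f g').2, zero_mul], zero_mul]) (by simp),
    sum_eq_single a (fun a' _ g => by
      rw [by_contra fun g' => g (h4 b a b a' f g').1, zero_mul]) (by simp)] at e
  simp [f, hx, ht] at e

theorem eq_of_add {x y : F} (h : x + y = 0) : x = y := by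
  linear_combination h - H.add_self y

theorem exists_notMem (s : Finset F) (h : s.card < 8) : ∃ x, x ∉ s :=
  exists_mem_notMem_of_card_lt_card (t := univ) (h.trans_le (by
    rw [card_univ, H.card]; exact Nat.pow_le_pow_right two_pos H.n3)) |>.imp fun _ => And.right

theorem cubic {β B C : F → F → F} (h1 : ∀ x y t, β (x + y) t = β x t + β y t)
    (h2 : ∀ x s t, β x (s + t) = β x s + β x t) (h3 : ∀ x y t, B (x + y) t = B x t + B y t)
    (h4 : ∀ x y t, C (x + y) t = C x t + C y t) (h5 : ∀ x t, t ≠ 0 → C x t = 0 → x = 0)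
    (h6 : ∀ x y, B x (β x y) = C y (β x y)) {μ l ν : F} (h0 : μ ≠ 0) (hμ : μ ≠ 1) (hν : ν ≠ 0)
    (h : ∀ x t, β (μ * x) (l * t) = ν * β x t) (x y : F) : β x y = 0 := by
  classical
  by_contra hc
  have e1 : ∀ x y y', β x y ≠ 0 → β x y = β x y' → y = y' := fun x y y' f g =>
    H.eq_of_add (h5 _ _ f (by rw [h4, ← h6, g, ← h6, H.add_self]))
  have e2 : ∀ m : ℕ, ∃ y, β (μ ^ m * x) y ≠ 0 := fun m => by
    induction m with
    | zero => exact ⟨y, by simpa using hc⟩
    | succ m ih => exact ⟨l * ih.choose, by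
        rw [pow_succ', mul_assoc, h]; exact mul_ne_zero hν ih.choose_spec⟩
  have e3 : x ≠ 0 := fun e => hc (by simpa [e] using h1 0 0 y)
  have e4 : ∀ u, u ≠ 0 → ∃ v, β u v = 1 := fun u hu => by
    obtain ⟨m, hm⟩ := H.gen h0 hμ (div_ne_zero hu e3)
    obtain ⟨w, hw⟩ := e2 m
    rw [← hm, div_mul_cancel₀ _ e3] at hw
    refine Finite.injective_iff_surjective.mp (fun y y' f => ?_) 1
    by_cases g : β u y = 0
    · exact add_left_cancel (e1 u (w + y) (w + y') (by rwa [h2, g, add_zero]) (by rw [h2, h2, f]))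
    · exact e1 u y y' g f
  choose! v hv using e4
  have e5 : ∀ a, a ≠ 0 → C (v a) 1 = B a 1 := fun a ha => by rw [← hv a ha, h6]
  have e6 : ∀ a b, a ≠ 0 → b ≠ 0 → a + b ≠ 0 → v (a + b) = v a + v b := fun a b ha hb hab =>
    H.eq_of_add (h5 _ 1 one_ne_zero (by rw [h4, h4, e5 _ ha, e5 _ hb, e5 _ hab, h3, H.add_self]))
  have e7 : ∀ a b, a ≠ 0 → b ≠ 0 → a + b ≠ 0 → β a (v b) + β b (v a) = 1 := fun a b ha hb hab => by
    have := hv _ hab
    rw [e6 a b ha hb hab, h1, h2, h2, hv a ha, hv b hb] at this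
    linear_combination this - H.add_self 1
  obtain ⟨a, ha⟩ := H.exists_notMem {0, 1} (card_le_two.trans_lt (by norm_num))
  obtain ⟨b, hb⟩ := H.exists_notMem {0, 1, a, 1 + a} (card_le_four.trans_lt (by norm_num))
  simp only [mem_insert, mem_singleton, not_or] at ha hb
  have f1 : 1 + a ≠ 0 := fun e => ha.2 (H.eq_of_add e).symm
  have f2 := e7 _ b f1 hb.1 fun e => hb.2.2.2 (H.eq_of_add e).symm
  have f3 := e7 1 b one_ne_zero hb.1 fun e => hb.2.1 (H.eq_of_add e).symm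
  have f4 := e7 a b ha.1 hb.1 fun e => hb.2.2.1 (H.eq_of_add e).symm
  rw [e6 1 a one_ne_zero ha.1 f1, h1, h2] at f2
  exact one_ne_zero (α := F) (by linear_combination f2 - f3 - f4)

end FH

end Cfsg.Agent.EP.Hg
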