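import Cfsg.Agent.EP.IdentC
import Cfsg.Agent.Sz.Struct
import Cfsg.Agent.Sz.Inst

/-! Identification of Sz(8) and Sz(32). -/

set_option autoImplicit false

open Cfsg.Agent.EP.Id

namespace Cfsg.Agent.EP

/-- coordinates for a Zassenhaus group of Suzuki type -/
structure ZS (G : Type*) [Group G] (F : Type) [Field F] (θ : F →+* F) (α : F) where
  /-- unipotent elements -/
  u : F → F → G
  /-- the torus -/
  h : Fˣ →* G
  /-- the involution -/
  t : G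
  u_mul : ∀ a b c d, u a b * u c d = u (a + c) (b + d + (α * a * θ c + (1 + α) * θ a * c))
  h_u : ∀ k a b, h k * u a b * (h k)⁻¹ = u (k * a) (k * θ k * b)
  tt : t * t = 1
  th : ∀ k, t * h k * t = h k⁻¹
  rel : t * u 0 1 * t = u 1 0 * t * (u 1 0)⁻¹
  bruhat : ∀ g, (∃ a b k, g = u a b * h k) ∨ ∃ a b c d k, g = u a b * t * u c d * h k

namespace ZS

variable {G : Type*} [Group G] {F : Type} [Field F] {θ : F →+* F} {α : F} (Z : ZS G F θ α)

theorem u_zero : Z.u 0 0 = 1 := by simpa using Z.u_mul 0 0 0 0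

theorem h_u' (k : Fˣ) (a b : F) : Z.h k * Z.u a b = Z.u (k * a) (k * θ k * b) * Z.h k := by
  rw [← Z.h_u, inv_mul_cancel_right]

/-- the Borel subgroup -/
def B : Subgroup G where
  carrier := {g | ∃ a b k, g = Z.u a b * Z.h k}
  one_mem' := ⟨0, 0, 1, by simp [u_zero]⟩
  mul_mem' := by
    rintro _ _ ⟨a, b, k, rfl⟩ ⟨c, d, l, rfl⟩
    exact ⟨_, _, k * l, by rw [mul_assoc, ← mul_assoc (Z.h k), h_u', ← mul_assoc, ← mul_assoc, Z.u_mul, mul_assoc, ← map_mul]⟩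
  inv_mem' := by
    rintro _ ⟨a, b, k, rfl⟩
    have : (Z.u a b)⁻¹ = Z.u (-a) (-b - (α * a * θ (-a) + (1 + α) * θ a * (-a))) :=
      inv_eq_of_mul_eq_one_right (by rw [Z.u_mul, ← Z.u_zero]; congr 1 <;> ring)
    exact ⟨_, _, k⁻¹, by rw [mul_inv_rev, ← map_inv, this, h_u']⟩

theorem u_mem (a b : F) : Z.u a b ∈ Z.B := ⟨a, b, 1, by simp⟩

theorem h_mem (k : Fˣ) : Z.h k ∈ Z.B := ⟨0, 0, k, by simp [u_zero]⟩

theorem exists_act [Finite G] [Fintype F] [CharP F 2]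
    (hc : Nat.card G = (Fintype.card F ^ 2 + 1) * Fintype.card F ^ 2 * (Fintype.card F - 1)) :
    ∃ ρ : G →* Equiv.Perm (Option (F × F)), (∀ a b, ⇑(ρ (Z.u a b)) = aU θ α a b) ∧ (∀ k : Fˣ, ⇑(ρ (Z.h k)) = aH θ k) ∧
      Rules θ α (ρ Z.t) := by
  let e0 : Option (F × F) → G ⧸ Z.B := fun x => x.elim (1 : G) fun p => (Z.u p.1 p.2 * Z.t : G)
  have hs : Function.Surjective e0 := fun x => by
    obtain ⟨g, rfl⟩ := QuotientGroup.mk_surjective x
    rcases Z.bruhat g with h | ⟨a, b, c, d, k, rfl⟩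
    · exact ⟨none, QuotientGroup.eq.2 (by rwa [inv_one, one_mul])⟩
    · exact ⟨some (a, b), QuotientGroup.eq.2 ⟨c, d, k, by group⟩⟩
  have h1 : Nat.card Z.B ≤ Fintype.card F ^ 2 * (Fintype.card F - 1) := by
    have := Nat.card_le_card_of_surjective (fun p : (F × F) × Fˣ => (⟨_, p.1.1, p.1.2, p.2, rfl⟩ : Z.B))
      (by rintro ⟨_, a, b, k, rfl⟩; exact ⟨((a, b), k), rfl⟩)
    rwa [Nat.card_prod, Nat.card_prod, Nat.card_units, Nat.card_eq_fintype_card (α := F), ← pow_two] at this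
  have h2 : Nat.card (Option (F × F)) ≤ Nat.card (G ⧸ Z.B) := by
    rw [Finite.card_option, Nat.card_prod, Nat.card_eq_fintype_card (α := F), ← pow_two]
    refine Nat.le_of_mul_le_mul_right ?_ (Nat.card_pos.trans_le h1)
    rw [← mul_assoc, ← hc, Subgroup.card_eq_card_quotient_mul_card_subgroup Z.B]
    exact Nat.mul_le_mul_left _ h1
  let e := Equiv.ofBijective e0 (hs.bijective_of_nat_card_le h2)
  let ρ : G →* Equiv.Perm (Option (F × F)) :=
    e.symm.permCongrHom.toMonoidHom.comp (MulAction.toPermHom G (G ⧸ Z.B))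
  have hρ : ∀ g x y, g • e0 x = e0 y → ρ g x = y := fun g x y h => by
    change e.symm (g • e.symm.symm x) = y
    rw [Equiv.symm_apply_eq]; exact h
  have a1 : ∀ a b, ⇑(ρ (Z.u a b)) = aU θ α a b := fun a b => funext fun x => hρ _ _ _ (by
    rcases x with _ | ⟨c, d⟩
    · exact QuotientGroup.eq.2 (by simpa using Z.u_mem a b)
    · exact congrArg QuotientGroup.mk (show Z.u a b * (Z.u c d * Z.t) = Z.u _ _ * Z.t by rw [← mul_assoc, Z.u_mul]))
  have a2 : ∀ k : Fˣ, ⇑(ρ (Z.h k)) = aH θ k := fun k => funext fun x => hρ _ _ _ (by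
    rcases x with _ | ⟨c, d⟩
    · exact QuotientGroup.eq.2 (by simpa using Z.h_mem k)
    · refine QuotientGroup.eq.2 (show (Z.h k * (Z.u c d * Z.t))⁻¹ * (Z.u (k * c) (k * θ k * d) * Z.t) ∈ Z.B from ?_)
      convert Z.h_mem k⁻¹⁻¹ using 1
      rw [← Z.h_u, ← Z.th, map_inv]
      nth_rw 3 [← inv_eq_of_mul_eq_one_right Z.tt]
      group)
  have m : ∀ g g' x, ρ (g * g') x = ρ g (ρ g' x) := fun g g' x => by rw [map_mul]; rfl
  have i1 : (Z.u 1 0)⁻¹ = Z.u 1 1 := inv_eq_of_mul_eq_one_right (by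
    rw [Z.u_mul, ← Z.u_zero]; congr 1 <;> simp [CharTwo.add_self_eq_zero, ← add_assoc, add_comm α])
  refine ⟨ρ, a1, a2, hρ _ _ _ (congrArg QuotientGroup.mk (by simp [u_zero])), fun x => by rw [← m, Z.tt, map_one]; rfl,
    fun k hk x => ?_, fun y => ?_, fun x => ?_⟩
  · obtain ⟨k, rfl⟩ : ∃ l : Fˣ, k = l := ⟨Units.mk0 k hk, rfl⟩
    rw [← Units.val_inv_eq_inv_val, ← a2, ← a2, ← m, ← m, ← Z.th, mul_assoc, Z.tt, mul_one]
  · rw [← a1, ← a1, ← m, ← m, ← m, ← m, Z.rel, inv_mul_cancel_right]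
  · rw [← a1, ← a1, ← m, ← m, ← m, ← m, ← i1, mul_assoc, mul_assoc, ← mul_assoc Z.t, Z.rel]
    simp [mul_assoc]

end ZS

/-- the Suzuki group has such coordinates -/
noncomputable def zsModel {G : Type*} [Group G] {F : Type} [Field F] {m : ℕ} (M : Sz.Model G F m) : ZS G F M.σ 0 where
  u := M.u
  h := M.h
  t := M.w
  u_mul a b c d := by rw [M.u_mul]; simp
  h_u := M.h_conj_u
  tt := M.w_mul_w
  th k := by rw [M.w_mul_h, mul_assoc, M.w_mul_w, mul_one]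
  rel := by
    have := M.char2
    refine eq_mul_inv_of_mul_eq (M.inj ?_)
    simp only [map_mul, M.ρ_u, M.ρ_w]
    ext i j
    fin_cases i <;> fin_cases j <;>
      simp [Sz.uM, Sz.wM, Sz.nrm, Matrix.mul_apply, Fin.sum_univ_four, CharTwo.add_self_eq_zero]
  bruhat g := by
    by_cases hg : g ∈ M.B
    · exact Or.inl (M.mem_B'.1 hg)
    · obtain ⟨x, y, b, hb, rfl⟩ := M.bruhat hg
      obtain ⟨c, d, k, rfl⟩ := M.mem_B'.1 hb
      exact Or.inr ⟨x, y, c, d, k, (mul_assoc _ _ _).symm⟩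

theorem ident_aux {G : Type*} [Group G] [Finite G] [IsSimpleGroup G] {F : Type} [Field F] [Fintype F] {θ : F →+* F}
    {α : F} (Z : ZS G F θ α) (hc : Nat.card G = (Fintype.card F ^ 2 + 1) * Fintype.card F ^ 2 * (Fintype.card F - 1))
    {G' : Type*} [Group G'] {m : ℕ} (M : Sz.Model G' F m) (hθ : θ = M.σ)
    (h : ∀ T, Rules θ α T → α = 0 ∧ ∀ T', Rules θ 0 T' → T = T') : Nonempty (G ≃* G') := by
  subst hθ
  have := M.char2
  have := M.finG
  have hc' : Nat.card G' = Nat.card G := by rw [M.card_G, hc, Nat.card_eq_fintype_card]; ring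
  obtain ⟨ρ, a1, a2, a3⟩ := Z.exists_act hc
  obtain ⟨ρ', b1, b2, b3⟩ := (zsModel M).exists_act (hc'.trans hc)
  obtain ⟨rfl, h1⟩ := h _ a3
  have e1 : ∀ a b, ρ (Z.u a b) ∈ ρ'.range := fun a b => ⟨_, Equiv.coe_inj.1 ((b1 a b).trans (a1 a b).symm)⟩
  have e2 : ∀ k, ρ (Z.h k) ∈ ρ'.range := fun k => ⟨_, Equiv.coe_inj.1 ((b2 k).trans (a2 k).symm)⟩
  have e3 : ρ Z.t ∈ ρ'.range := ⟨_, Equiv.coe_inj.1 (h1 _ b3).symm⟩
  have e4 : ρ.range ≤ ρ'.range := by
    rintro _ ⟨g, rfl⟩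
    rcases Z.bruhat g with ⟨a, b, k, rfl⟩ | ⟨a, b, c, d, k, rfl⟩ <;> simp only [map_mul]
    · exact mul_mem (e1 _ _) (e2 _)
    · exact mul_mem (mul_mem (mul_mem (e1 _ _) e3) (e1 _ _)) (e2 _)
  have i1 : Function.Injective ρ := by
    rw [← MonoidHom.ker_eq_bot_iff]
    refine (IsSimpleGroup.eq_bot_or_eq_top_of_normal _ inferInstance).resolve_right fun h => ?_
    have h2 := a3.inf
    rw [MonoidHom.mem_ker.1 (h ▸ Subgroup.mem_top Z.t)] at h2
    cases h2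
  have c1 := Nat.card_congr (MonoidHom.ofInjective i1).toEquiv
  have i2 := ρ'.rangeRestrict_surjective.bijective_of_nat_card_le
    (by rw [hc', c1]; exact Subgroup.card_le_of_le e4)
  have e5 : ρ.range = ρ'.range := Subgroup.eq_of_le_of_card_ge e4
    (by rw [← c1, ← hc']; exact Nat.card_le_card_of_surjective _ i2.2)
  exact ⟨(MonoidHom.ofInjective i1).trans ((MulEquiv.subgroupCongr e5).trans (MulEquiv.ofBijective _ i2).symm)⟩

theorem ident_lie {G : Type*} [Group G] [Finite G] [IsSimpleGroup G] {F : Type} [Field F] [Fintype F] {θ : F →+* F}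
    {α : F} (Z : ZS G F θ α) (hc : Nat.card G = (Fintype.card F ^ 2 + 1) * Fintype.card F ^ 2 * (Fintype.card F - 1))
    {m e : ℕ} (hm : 1 ≤ m) (h1 : Fintype.card F = 2 ^ (2 * m + 1)) (he : e = 2 ^ (m + 1)) (hθ : ∀ x, θ x = x ^ e)
    (h : ∀ T, Rules θ α T → α = 0 ∧ ∀ T', Rules θ 0 T' → T = T') : Nonempty (G ≃* ↥(Cfsg.Lie.Sz F e)) := by
  subst he
  have h3 := Nat.card_eq_fintype_card.trans h1
  exact ident_aux Z hc (Sz.lieModel hm h3) (RingHom.ext fun x => (hθ x).trans ((Sz.lieModel hm h3).σ_eq x).symm) h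

theorem ident {G : Type*} [Group G] [Finite G] [IsSimpleGroup G] {F : Type} [Field F] [Fintype F] {θ : F →+* F}
    {α : F} (Z : ZS G F θ α) (hc : Nat.card G = (Fintype.card F ^ 2 + 1) * Fintype.card F ^ 2 * (Fintype.card F - 1))
    (hθ : (Fintype.card F = 8 ∧ ∀ x, θ x = x ^ 4) ∨
      (Fintype.card F = 32 ∧ ((∀ x, θ x = x ^ 8) ∨ ∀ x, θ x = x ^ 16))) :
    (Fintype.card F = 8 ∧ Nonempty (G ≃* ↥(Cfsg.Lie.Sz F 4))) ∨
      (Fintype.card F = 32 ∧ Nonempty (G ≃* ↥(Cfsg.Lie.Sz F 8))) := by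
  rcases hθ with ⟨h1, h2⟩ | ⟨h1, h2 | h2⟩
  · exact Or.inl ⟨h1, ident_lie Z hc (m := 1) le_rfl h1 rfl h2 fun _ => uniq8 h1 h2⟩
  · exact Or.inr ⟨h1, ident_lie Z hc (m := 2) one_le_two h1 rfl h2 fun _ => uniq32 h1 h2⟩
  · have := Sz.charP_of_card (n := 4) (Nat.card_eq_fintype_card.trans h1)
    obtain ⟨ρ, -, -, a3⟩ := Z.exists_act hc
    exact (not16 h1 h2 a3).elim

end Cfsg.Agent.EP
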