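import Mathlib.FieldTheory.Finite.GaloisField
import Mathlib.Algebra.Field.MinimalAxioms

/-! The action of the Weyl involution of a Suzuki-like Zassenhaus group is determined by propagation. -/

set_option autoImplicit false

namespace Cfsg.Agent.EP.Id

section Gen

variable {F : Type} [Field F]

/-- translations -/
def aU (θ : F → F) (α a b : F) : Option (F × F) → Option (F × F) :=
  Option.map fun p => (a + p.1, b + p.2 + (α * a * θ p.1 + (1 + α) * θ a * p.1))

/-- the torus -/
def aH (θ : F → F) (k : F) : Option (F × F) → Option (F × F) := Option.map fun p => (k * p.1, k * θ k * p.2)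

/-- the rules for the involution -/
structure Rules (θ : F → F) (α : F) (T : Option (F × F) → Option (F × F)) : Prop where
  inf : T none = some (0, 0)
  inv : ∀ x, T (T x) = x
  tor : ∀ k, k ≠ 0 → ∀ x, T (aH θ k x) = aH θ k⁻¹ (T x)
  r1 : ∀ y, T (aU θ α 0 1 (T (aU θ α 1 0 y))) = aU θ α 1 0 (T y)
  r2 : ∀ x, T (aU θ α 1 1 x) = aU θ α 1 1 (T (aU θ α 0 1 (T x)))

theorem map_surj {A B : Type} {f : A → B} (h : Function.Surjective f) : Function.Surjective (Option.map f)
  | none => ⟨none, rfl⟩
  | some b => (h b).elim fun a e => ⟨some a, congrArg some e⟩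

theorem Rules.map {K : Type} [Field K] (e : F ≃+* K) {θ : F → F} {θ' : K → K} (h : ∀ x, θ' (e x) = e (θ x)) {α : F}
    {T : Option (F × F) → Option (F × F)} (R : Rules θ α T) :
    Rules θ' (e α) (Option.map (Prod.map e e) ∘ T ∘ Option.map (Prod.map e.symm e.symm)) := by
  have i1 : ∀ x, Option.map (Prod.map e.symm e.symm) (Option.map (Prod.map e e) x) = x := by
    rintro (_ | ⟨a, b⟩) <;> simp
  have i2 : Function.Surjective (Option.map (Prod.map e e)) :=
    map_surj (e.surjective.prodMap e.surjective)
  have u : ∀ a b x, aU θ' (e α) (e a) (e b) (Option.map (Prod.map e e) x) = Option.map (Prod.map e e) (aU θ α a b x) := by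
    rintro a b (_ | ⟨c, d⟩) <;> simp [aU, h]
  have v : ∀ k x, aH θ' (e k) (Option.map (Prod.map e e) x) = Option.map (Prod.map e e) (aH θ k x) := by
    rintro k (_ | ⟨c, d⟩) <;> simp [aH, h]
  have u1 := u 0 1
  have u2 := u 1 0
  have u3 := u 1 1
  simp only [map_zero, map_one] at u1 u2 u3
  refine ⟨by simp [R.inf], i2.forall.2 fun x => by simp only [Function.comp_apply, i1, R.inv],
    e.surjective.forall.2 fun k hk => i2.forall.2 fun x => ?_,
    i2.forall.2 fun x => by simp only [Function.comp_apply, i1, u1, u2, R.r1],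
    i2.forall.2 fun x => by simp only [Function.comp_apply, i1, u1, u3, R.r2]⟩
  simp only [Function.comp_apply, i1, v, ← map_inv₀, R.tor k (by simpa using hk)]

variable [DecidableEq F] (θ : F → F) (α : F) (el : ℕ → F) (q : ℕ)

/-- points from numbers -/
def pt (c : ℕ) : Option (F × F) := if c = q * q then none else some (el (c / q), el (c % q))

/-- a pair obtained from a known pair -/
def rf (L : List (Option (F × F) × Option (F × F))) (r : ℕ × Bool × ℕ) : Option (F × F) × Option (F × F) :=
  if el r.2.2 = 0 then (none, some (0, 0)) else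
  if r.2.1 then (aH θ (el r.2.2) (L.getD r.1 (none, some (0, 0))).2, aH θ (el r.2.2)⁻¹ (L.getD r.1 (none, some (0, 0))).1)
  else (aH θ (el r.2.2) (L.getD r.1 (none, some (0, 0))).1, aH θ (el r.2.2)⁻¹ (L.getD r.1 (none, some (0, 0))).2)

/-- steps -/
abbrev Stp : Type := Bool × (ℕ × Bool × ℕ) × (ℕ × Bool × ℕ) × ℕ × ℕ

/-- check of one step -/
def ok1 (L : List (Option (F × F) × Option (F × F))) (s : Stp) : Bool :=
  if s.1 then (rf θ el L s.2.2.1).1 = aU θ α 0 1 (rf θ el L s.2.1).2 ∧
    pt el q s.2.2.2.1 = aU θ α 1 1 (rf θ el L s.2.1).1 ∧ pt el q s.2.2.2.2 = aU θ α 1 1 (rf θ el L s.2.2.1).2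
  else (rf θ el L s.2.2.1).1 = aU θ α 1 0 (rf θ el L s.2.1).1 ∧
    pt el q s.2.2.2.1 = aU θ α 0 1 (rf θ el L s.2.2.1).2 ∧ pt el q s.2.2.2.2 = aU θ α 1 0 (rf θ el L s.2.1).2

/-- check of all steps -/
def ok : List Stp → List (Option (F × F) × Option (F × F)) → Bool
  | [], _ => true
  | s :: S, L => ok1 θ α el q L s && ok S ((pt el q s.2.2.2.1, pt el q s.2.2.2.2) :: L)

/-- the final list -/
def fl : List Stp → List (Option (F × F) × Option (F × F)) → List (Option (F × F) × Option (F × F))
  | [], L => L
  | s :: S, L => fl S ((pt el q s.2.2.2.1, pt el q s.2.2.2.2) :: L)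

variable {θ α el q} {T : Option (F × F) → Option (F × F)}

theorem rf_sound (R : Rules θ α T) {L : List (Option (F × F) × Option (F × F))} (h : ∀ p ∈ L, T p.1 = p.2)
    (r : ℕ × Bool × ℕ) : T (rf θ el L r).1 = (rf θ el L r).2 := by
  have h1 : T (L.getD r.1 (none, some (0, 0))).1 = (L.getD r.1 (none, some (0, 0))).2 := by
    rw [List.getD_eq_getElem?_getD]
    cases e : L[r.1]? with
    | none => exact R.inf
    | some p => exact h p (List.mem_of_getElem? e)
  unfold rf
  split_ifs with h0
  · exact R.inf
  · rw [R.tor _ h0, ← h1, R.inv]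
  · rw [R.tor _ h0, h1]

theorem ok_sound (R : Rules θ α T) : ∀ (S : List Stp) (L : List (Option (F × F) × Option (F × F))),
    (∀ p ∈ L, T p.1 = p.2) → ok θ α el q S L = true → ∀ p ∈ fl el q S L, T p.1 = p.2
  | [], _, h, _ => h
  | s :: S, L, h, h1 => by
    rw [ok, Bool.and_eq_true] at h1
    refine ok_sound R S _ (List.forall_mem_cons.2 ⟨?_, h⟩) h1.2
    have h2 := h1.1
    have a1 := rf_sound (el := el) R h s.2.1
    have a2 := rf_sound (el := el) R h s.2.2.1
    unfold ok1 at h2
    split_ifs at h2 <;> obtain ⟨b1, b2, b3⟩ := of_decide_eq_true h2 <;> simp only [b2, b3]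
    · rw [R.r2, a1, ← b1, a2]
    · rw [← a2, b1, R.r1, a1]

variable (θ α el q) in
/-- a refutation -/
def bad (c : List Stp × (ℕ × Bool × ℕ) × ℕ × Bool × ℕ) : Bool := ok θ α el q c.1 [(none, some (0, 0))] &&
  decide ((rf θ el (fl el q c.1 [(none, some (0, 0))]) c.2.1).1 = (rf θ el (fl el q c.1 [(none, some (0, 0))]) c.2.2).1 ∧
  (rf θ el (fl el q c.1 [(none, some (0, 0))]) c.2.1).2 ≠ (rf θ el (fl el q c.1 [(none, some (0, 0))]) c.2.2).2)

theorem bad_sound {c : List Stp × (ℕ × Bool × ℕ) × ℕ × Bool × ℕ} (h : bad θ α el q c = true) (R : Rules θ α T) :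
    False := by
  rw [bad, Bool.and_eq_true, decide_eq_true_eq] at h
  have h1 := rf_sound (el := el) R (ok_sound R _ _ (by simpa using R.inf) h.1)
  exact h.2.2 (by rw [← h1, ← h1, h.2.1])

theorem good_sound {S : List Stp} (h : ok θ α el q S [(none, some (0, 0))] = true)
    (h1 : ∀ a b, ∃ r, (rf θ el (fl el q S [(none, some (0, 0))]) r).1 = some (a, b)) (R : Rules θ α T)
    {T' : Option (F × F) → Option (F × F)} (R' : Rules θ α T') : T = T' := by
  funext x
  rcases x with _ | ⟨a, b⟩
  · rw [R.inf, R'.inf]
  · obtain ⟨r, e⟩ := h1 a b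
    rw [← e, rf_sound R (ok_sound R _ _ (by simpa using R.inf) h), rf_sound R' (ok_sound R' _ _ (by simpa using R'.inf) h)]

end Gen

/-- fields given by tables -/
def GT (n _tm _ti : ℕ) : Type := Fin (n + 1)

section Tab

variable {n tm ti : ℕ}

/-- elements from numbers -/
def GT.el (a : ℕ) : GT n tm ti := Fin.ofNat (n + 1) a

instance GT.instDec : DecidableEq (GT n tm ti) := inferInstanceAs (DecidableEq (Fin _))
instance GT.instFin : Fintype (GT n tm ti) := inferInstanceAs (Fintype (Fin _))
instance GT.instAdd : Add (GT n tm ti) := ⟨fun a b => GT.el (Nat.xor a.val b.val)⟩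
instance GT.instMul : Mul (GT n tm ti) :=
  ⟨fun a b => GT.el (Nat.land (Nat.shiftRight tm (5 * (a.val * (n + 1) + b.val))) 31)⟩
instance GT.instNeg : Neg (GT n tm ti) := ⟨fun a => a⟩
instance GT.instInv : Inv (GT n tm ti) := ⟨fun a => GT.el (Nat.land (Nat.shiftRight ti (5 * a.val)) 31)⟩
instance GT.instZero : Zero (GT n tm ti) := ⟨GT.el 0⟩
instance GT.instOne : One (GT n tm ti) := ⟨GT.el 1⟩

/-- iterated squaring -/
def fr {K : Type} [Mul K] : ℕ → K → K
  | 0, x => x
  | i + 1, x => fr i (x * x)

theorem fr_eq {K : Type} [Monoid K] : ∀ (i : ℕ) (x : K), fr i x = x ^ 2 ^ i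
  | 0, x => by simp [fr]
  | i + 1, x => by rw [fr, fr_eq i, ← pow_two, ← pow_mul, pow_succ']

/-- decoding -/
def dec (tab c : ℕ) : ℕ × Bool × ℕ :=
  (Nat.shiftRight tab (12 * c) % 4096 / 64, Nat.shiftRight tab (12 * c) % 64 / 32 == 1, Nat.shiftRight tab (12 * c) % 32)

end Tab

/-- the field with 8 elements -/
abbrev K8 : Type := GT 7 0x190c1114e02086509cc030ce2204a00944638c80104872986029c2331040398a4188200000000000 0x20c4731420

/-- the field with 32 elements -/
abbrev K32 : Type := GT 31 0x935360fb458b95517726a2df03e383ba19326fe06ce8ad107d363e18bd16d945c64aab839373e7c04d2cb93db0d1cb80f3c355ea88b1d3c90db17fa0b29774d6886c60c939f32e704d18fbf087f0f7800ea491662a3f28f27eec6dbc5757a65c30344f60f11f5c8d128283bbb4dc162692fe8e65ba75c740d0db48a0df657623fa099a89dc05f62f24b75f202f60854be7d8dd6a3039e11319acde16aef6d70089b4d3c19bc3e64764b21d11fa8bc957436e2ee0760f1e2aa37e4d0eae82668b3f22e16ec92fa6c057cb0a076e99b896e057ea2471d9992457ed3ea0a870c7ec562413df2a6791beb470b11dddacb6801443225cf4775be46d78d272ae3fecb16a680e60ebf8efb7cccaf0ada748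a9e86b96c488e0298640ca3cfb9a012d0535e99d2547256dbcc27eeb1e20358736713990ae7c23ad5edde0c494fbf4aa9600a6d4568a7c1b3b2d548bfc02e3271741ed98f9e0596f9b6144a690649ebb8798268e3f7867d971c078ab8f4c894165fcd06e0b3768754732f91be9a0871042a7b1fcceb51a5e70adaddc6f0b735a61803b23a71713af868e5d413361b79332a7c49ed960c4986afc2b122dc7977148fb723a1a9e4edf5140e55c7ed1e6f5d85fd9a4c4543cc162d4d01dc9201ae7b33ade4873161394bfcef9684aed5a5c4100bc33e5b0a253483b471f43cc1a4f5dacb7c4b8e04388285b9aeee3728d2f3856dfe675953d8530c0624c3c76570916eac3fab4f9911d0ddfa347a8a09df7f19d6fb4bda309cacf6354b425e62906208021c4142dcde7f5984ed58caf4efb784a9ec29860de7fd9c6f55a5ed184e5f7358b52507314831040ffbbcdeb38bdab49ca307b9ac5a928398a4188200000000000000000000000000000000000000000 0xdd263fd5512a35ee8b0b699e78649663ae9e4820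

instance field8 : Field K8 := Field.ofMinimalAxioms K8 (by decide +kernel) (by decide +kernel) (by decide +kernel)
  (by decide +kernel) (by decide +kernel) (by decide +kernel) (by decide +kernel) (by decide +kernel)
  (by decide +kernel) (by decide +kernel)

theorem add32 : ∀ a b c : K32, a + b + c = a + (b + c) := by decide +kernel
theorem mul32 : ∀ a b c : K32, a * b * c = a * (b * c) := by decide +kernel
theorem dis32 : ∀ a b c : K32, a * (b + c) = a * b + a * c := by decide +kernel

instance field32 : Field K32 := Field.ofMinimalAxioms K32 add32 (by decide +kernel) (by decide +kernel)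
  mul32 (by decide +kernel) (by decide +kernel) (by decide +kernel) (by decide +kernel) dis32 (by decide +kernel)

/-- certificates -/
def s8 : List Stp := [(false, (0, false, 1), (0, false, 1), 1, 8), (true, (1, true, 1), (1, false, 1), 9, 9), (false, (1, true, 2), (0, false, 3), 52, 12), (false, (2, false, 4), (0, false, 3), 51, 55), (true, (3, false, 4), (1, false, 2), 10, 34)]

/-- certificates -/
def s32 : List Stp := [(false, (0, false, 1), (0, false, 1), 1, 32), (true, (1, true, 1), (1, false, 1), 33, 33), (true, (1, true, 2), (1, false, 3), 99, 957), (false, (2, false, 21), (0, true, 19), 77, 890), (true, (3, false, 21), (1, true, 23), 47, 460), (false, (4, false, 10), (0, false, 1), 461, 793), (false, (5, false, 16), (1, true, 6), 469, 331), (true, (6, false, 16), (2, true, 31), 36, 852), (false, (7, false, 18), (2, true, 17), 134, 98), (false, (8, false, 12), (0, true, 28), 406, 199), (true, (9, false, 11), (0, true, 27), 54, 572), (true, (10, false, 6), (0, true, 4), 58, 281), (true, (11, false, 12), (3, true, 30),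 56, 887), (false, (12, false, 7), (0, true, 31), 880, 428), (true, (13, false, 7), (1, true, 16), 43, 337), (false, (14, false, 13), (1, true, 15), 988, 463), (true, (15, false, 5), (0, false, 4), 60, 533)]

/-- certificates -/
def n8 : List (List Stp × (ℕ × Bool × ℕ) × ℕ × Bool × ℕ) := [([], (0, false, 0), (0, false, 0)),
  ([(false, (0, false, 1), (0, false, 1), 1, 8), (true, (1, true, 1), (1, false, 1), 9, 9), (true, (1, true, 2), (1, false, 6), 31, 22), (false, (2, false, 6), (0, true, 5), 50, 23)], (2, false, 2), (0, true, 1)),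
  ([(false, (0, false, 1), (0, false, 1), 1, 8), (true, (0, true, 2), (0, false, 6), 24, 17)], (1, true, 3), (0, false, 1)),
  ([(false, (0, false, 1), (0, false, 1), 1, 8), (false, (0, true, 6), (0, true, 7), 2, 10)], (1, false, 3), (0, false, 1)),
  ([(false, (0, false, 1), (0, false, 1), 1, 8), (true, (0, true, 4), (0, false, 2), 40, 33)], (1, true, 5), (0, false, 1)),
  ([(false, (0, false, 1), (0, false, 1), 1, 8), (false, (0, true, 2), (0, true, 3), 4, 12)], (1, false, 5), (0, false, 1)),
  ([(false, (0, false, 1), (0, false, 1), 1, 8), (true, (0, true, 6), (0, false, 4), 56, 49)], (1, true, 7), (0, false, 1)),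
  ([(false, (0, false, 1), (0, false, 1), 1, 8), (false, (0, true, 4), (0, true, 5), 6, 14)], (1, false, 7), (0, false, 1))]

/-- certificates -/
def n32a : List (List Stp × (ℕ × Bool × ℕ) × ℕ × Bool × ℕ) := [([], (0, false, 0), (0, false, 0)),
  ([(false, (0, false, 1), (0, false, 1), 1, 32), (true, (1, true, 1), (1, false, 1), 33, 33), (true, (1, true, 2), (1, false, 3), 108, 934), (false, (0, false, 14), (0, true, 8), 1023, 171)], (1, false, 3), (0, true, 1)),
  ([(false, (0, false, 1), (0, false, 1), 1, 32), (true, (0, true, 8), (0, false, 13), 288, 450)], (1, true, 9), (0, false, 1)),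
  ([(false, (0, false, 1), (0, false, 1), 1, 32), (false, (0, true, 4), (0, true, 5), 18, 60)], (1, false, 30), (0, false, 1)),
  ([(false, (0, false, 1), (0, false, 1), 1, 32), (true, (0, true, 10), (0, false, 27), 352, 964)], (1, true, 11), (0, false, 1)),
  ([(false, (0, false, 1), (0, false, 1), 1, 32), (false, (0, true, 16), (0, true, 17), 9, 55)], (1, false, 19), (0, false, 1)),
  ([(false, (0, false, 1), (0, false, 1), 1, 32), (false, (0, true, 24), (0, true, 25), 14, 54)], (1, false, 21), (0, false, 1)),
  ([(false, (0, false, 1), (0, false, 1), 1, 32), (true, (0, true, 16), (0, false, 17), 544, 805)], (1, true, 17), (0, false, 1)),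
  ([(false, (0, false, 1), (0, false, 1), 1, 32), (true, (0, true, 14), (0, false, 2), 506, 608)], (1, true, 19), (0, true, 1)),
  ([(false, (0, false, 1), (0, false, 1), 1, 32), (true, (0, true, 2), (0, false, 3), 123, 928)], (1, true, 29), (0, true, 1)),
  ([(false, (0, false, 1), (0, false, 1), 1, 32), (false, (0, true, 8), (0, true, 9), 2, 48)], (1, false, 20), (0, false, 1)),
  ([(false, (0, false, 1), (0, false, 1), 1, 32), (true, (0, true, 4), (0, false, 5), 162, 704)], (1, true, 22), (0, true, 1)),
  ([(false, (0, false, 1), (0, false, 1), 1, 32), (true, (0, true, 25), (0, false, 21), 781, 864)], (1, true, 27), (0, true, 1)),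
  ([(false, (0, false, 1), (0, false, 1), 1, 32), (true, (0, true, 9), (0, false, 20), 269, 992)], (1, true, 31), (0, true, 1)),
  ([(false, (0, false, 1), (0, false, 1), 1, 32), (false, (0, true, 10), (0, true, 11), 4, 45)], (1, false, 29), (0, false, 1)),
  ([(false, (0, false, 1), (0, false, 1), 1, 32), (true, (0, true, 16), (0, false, 17), 548, 800)], (1, true, 25), (0, true, 1)),
  ([(false, (0, false, 1), (0, false, 1), 1, 32), (true, (0, true, 14), (0, false, 2), 480, 624)], (1, true, 15), (0, false, 1)),
  ([(false, (0, false, 1), (0, false, 1), 1, 32), (true, (0, true, 12), (0, false, 8), 416, 752)], (1, true, 13), (0, false, 1)),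
  ([(false, (0, false, 1), (0, false, 1), 1, 32), (false, (0, true, 20), (0, true, 21), 7, 50)], (1, false, 31), (0, false, 1)),
  ([(false, (0, false, 1), (0, false, 1), 1, 32), (true, (0, true, 10), (0, false, 27), 364, 960)], (1, true, 30), (0, true, 1)),
  ([(false, (0, false, 1), (0, false, 1), 1, 32), (true, (0, true, 3), (0, false, 14), 80, 224)], (1, true, 7), (0, true, 1)),
  ([(false, (0, false, 1), (0, false, 1), 1, 32), (true, (0, true, 7), (0, false, 15), 209, 384)], (1, true, 12), (0, true, 1)),
  ([(false, (0, false, 1), (0, false, 1), 1, 32), (true, (0, true, 17), (0, false, 19), 539, 896)], (1, true, 28), (0, true, 1)),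
  ([(false, (0, false, 1), (0, false, 1), 1, 32), (true, (0, true, 2), (0, false, 3), 96, 954)], (1, true, 3), (0, false, 1)),
  ([(false, (0, false, 1), (0, false, 1), 1, 32), (true, (0, true, 4), (0, false, 5), 160, 707)], (1, true, 5), (0, false, 1)),
  ([(false, (0, false, 1), (0, false, 1), 1, 32), (true, (0, true, 12), (0, false, 8), 418, 736)], (1, true, 23), (0, true, 1)),
  ([(false, (0, false, 1), (0, false, 1), 1, 32), (false, (0, true, 2), (0, true, 3), 31, 53)], (1, false, 14), (0, false, 1)),
  ([(false, (0, false, 1), (0, false, 1), 1, 32), (true, (0, true, 11), (0, false, 29), 347, 576)], (1, true, 18), (0, true, 1)),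
  ([(false, (0, false, 1), (0, false, 1), 1, 32), (true, (0, true, 21), (0, false, 31), 652, 832)], (1, true, 26), (0, true, 1)),
  ([(false, (0, false, 1), (0, false, 1), 1, 32), (true, (0, true, 5), (0, false, 30), 141, 672)], (1, true, 21), (0, true, 1)),
  ([(false, (0, false, 1), (0, false, 1), 1, 32), (true, (0, true, 8), (0, false, 13), 305, 448)], (1, true, 14), (0, true, 1)),
  ([(false, (0, false, 1), (0, false, 1), 1, 32), (false, (0, true, 6), (0, true, 7), 24, 63)], (1, false, 15), (0, false, 1))]

/-- certificates -/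
def n32b : List (List Stp × (ℕ × Bool × ℕ) × ℕ × Bool × ℕ) := [([(false, (0, false, 1), (0, false, 1), 1, 32), (true, (1, true, 1), (1, false, 1), 33, 33), (true, (1, true, 2), (1, false, 6), 99, 495), (true, (2, false, 25), (0, false, 6), 52, 544)], (3, true, 17), (0, true, 1)),
  ([(false, (0, false, 1), (0, false, 1), 1, 32), (true, (1, true, 1), (1, false, 1), 33, 33), (true, (1, true, 2), (1, false, 6), 122, 491), (true, (2, false, 6), (0, false, 25), 61, 278)], (1, true, 7), (0, true, 1)),
  ([(false, (0, false, 1), (0, false, 1), 1, 32), (true, (0, true, 15), (0, false, 5), 454, 704)], (1, true, 22), (0, true, 1)),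
  ([(false, (0, false, 1), (0, false, 1), 1, 32), (false, (0, true, 8), (0, true, 9), 9, 39)], (1, false, 26), (0, false, 1)),
  ([(false, (0, false, 1), (0, false, 1), 1, 32), (true, (0, true, 24), (0, false, 27), 800, 980)], (1, true, 25), (0, false, 1)),
  ([(false, (0, false, 1), (0, false, 1), 1, 32), (false, (0, true, 10), (0, true, 11), 11, 53)], (1, false, 3), (0, false, 1)),
  ([(false, (0, false, 1), (0, false, 1), 1, 32), (true, (0, true, 20), (0, false, 21), 694, 864)], (1, true, 27), (0, true, 1)),
  ([(false, (0, false, 1), (0, false, 1), 1, 32), (true, (0, true, 4), (0, false, 20), 183, 992)], (1, true, 31), (0, true, 1)),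
  ([(false, (0, false, 1), (0, false, 1), 1, 32), (true, (0, true, 16), (0, false, 29), 544, 597)], (1, true, 17), (0, false, 1)),
  ([(false, (0, false, 1), (0, false, 1), 1, 32), (true, (0, true, 17), (0, false, 10), 533, 768)], (1, true, 24), (0, true, 1)),
  ([(false, (0, false, 1), (0, false, 1), 1, 32), (true, (0, true, 8), (0, false, 15), 316, 384)], (1, true, 12), (0, true, 1)),
  ([(false, (0, false, 1), (0, false, 1), 1, 32), (true, (0, true, 6), (0, false, 7), 224, 444)], (1, true, 7), (0, false, 1)),
  ([(false, (0, false, 1), (0, false, 1), 1, 32), (true, (0, true, 24), (0, false, 27), 823, 960)], (1, true, 30), (0, true, 1)),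
  ([(false, (0, false, 1), (0, false, 1), 1, 32), (true, (0, true, 9), (0, false, 26), 278, 640)], (1, true, 20), (0, true, 1)),
  ([(false, (0, false, 1), (0, false, 1), 1, 32), (true, (0, true, 10), (0, false, 31), 375, 832)], (1, true, 26), (0, true, 1)),
  ([(false, (0, false, 1), (0, false, 1), 1, 32), (true, (0, true, 20), (0, false, 21), 672, 887)], (1, true, 21), (0, false, 1)),
  ([(false, (0, false, 1), (0, false, 1), 1, 32), (false, (0, true, 6), (0, true, 7), 19, 35)], (1, false, 2), (0, false, 1)),
  ([(false, (0, false, 1), (0, false, 1), 1, 32), (false, (0, true, 14), (0, true, 15), 15, 60)], (1, false, 5), (0, false, 1)),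
  ([(false, (0, false, 1), (0, false, 1), 1, 32), (true, (0, true, 5), (0, false, 8), 135, 736)], (1, true, 23), (0, true, 1)),
  ([(false, (0, false, 1), (0, false, 1), 1, 32), (true, (0, true, 4), (0, false, 20), 160, 999)], (1, true, 5), (0, false, 1)),
  ([(false, (0, false, 1), (0, false, 1), 1, 32), (false, (0, true, 2), (0, true, 3), 17, 61)], (1, false, 19), (0, false, 1)),
  ([(false, (0, false, 1), (0, false, 1), 1, 32), (true, (0, true, 16), (0, false, 29), 568, 576)], (1, true, 18), (0, true, 1)),
  ([(false, (0, false, 1), (0, false, 1), 1, 32), (false, (0, true, 16), (0, true, 17), 26, 57)], (1, false, 10), (0, false, 1)),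
  ([(false, (0, false, 1), (0, false, 1), 1, 32), (true, (0, true, 10), (0, false, 31), 352, 853)], (1, true, 11), (0, false, 1)),
  ([(false, (0, false, 1), (0, false, 1), 1, 32), (true, (0, true, 2), (0, false, 6), 124, 480)], (1, true, 15), (0, true, 1)),
  ([(false, (0, false, 1), (0, false, 1), 1, 32), (true, (0, true, 6), (0, false, 7), 253, 416)], (1, true, 13), (0, true, 1)),
  ([(false, (0, false, 1), (0, false, 1), 1, 32), (true, (0, true, 7), (0, false, 2), 216, 608)], (1, true, 19), (0, true, 1)),
  ([(false, (0, false, 1), (0, false, 1), 1, 32), (true, (0, true, 11), (0, false, 3), 345, 928)], (1, true, 29), (0, true, 1)),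
  ([(false, (0, false, 1), (0, false, 1), 1, 32), (true, (0, true, 8), (0, false, 15), 288, 391)], (1, true, 9), (0, false, 1)),
  ([(false, (0, false, 1), (0, false, 1), 1, 32), (false, (0, true, 4), (0, true, 5), 12, 54)], (1, false, 8), (0, false, 1)),
  ([(false, (0, false, 1), (0, false, 1), 1, 32), (true, (0, true, 2), (0, false, 6), 96, 504)], (1, true, 3), (0, false, 1)),
  ([(false, (0, false, 1), (0, false, 1), 1, 32), (true, (0, true, 3), (0, false, 19), 88, 896)], (1, true, 28), (0, true, 1))]

theorem bad8 : ∀ α : K8, α ≠ 0 → bad (fr 2) α GT.el 8 (n8.getD α.val default) = true := by decide +kernel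
theorem bad32a : ∀ α : K32, α ≠ 0 → bad (fr 3) α GT.el 32 (n32a.getD α.val default) = true := by decide +kernel
theorem bad32b : ∀ α : K32, bad (fr 4) α GT.el 32 (n32b.getD α.val default) = true := by decide +kernel
theorem ok8 : ok (fr 2) (0 : K8) GT.el 8 s8 [(none, some (0, 0))] = true := by decide +kernel
theorem ok32 : ok (fr 3) (0 : K32) GT.el 32 s32 [(none, some (0, 0))] = true := by decide +kernel
theorem cov8 : ∀ a b : K8, (rf (fr 2) GT.el (fl GT.el 8 s8 [(none, some (0, 0))])
    (dec 0x70c70a70230620420821270610240c60810410a60061260840a50440c50050640261250a40040870670c40210471240450850220030a30c30651230c20660020460250860a21220270430630a10830010c1121102107106105104103101161 (a.val * 8 + b.val))).1 = some (a, b) := by decide +kernel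
theorem cov32 : ∀ a b : K32, (rf (fr 3) GT.el (fl GT.el 32 s32 [(none, some (0, 0))])
    (dec 0x2ba01f1d725f32816e0550f40d202739609f13226a35d2c83a221c19f15f1a51eb0ba31f3df0682362f928811f37243f1bd22a0cd04102c0fb1e52e809e17831e06e0a33de38a32e2ce01e15e11e19e28e34f2a33b136d12d1d027f25e21543e01d2fe3a138b05828431d2652c41f73693240c919d06425d11d0ea1290ad22b2ad09d20e15d0311d93dd1b035c16743d2ef3dc11c37631c1a820719c25c2b417104c2c213603a39734e2700d609c1de01c3220e50b41f93b215c23706228243c1f62b12292d009b36133021d12107025b0b119b0ed11b0c11cb31b2743db29002e15b04f2f735f1aa01b17c3a438943b09a3361f823519a11a13e25a29615a1cc26116a3952e61b22a82d637e2140760a80e20de31a3da02505b34d01a3b743a29c1bf13a33c07c20f0380190a637a04235e1592f02590990da2a63d93a727b1751191ea1c53941992340f32dc3194393b41183880fc0181252e10bf31822826e2bf05609829a20636515833a0332da1c21e43d807a1a725834c0c516319843816f29d19709735931707d2ac15738d33d1173d70172dd0ac1311f42e51ca0e33713ae03522d2572731bb21e0d104443739136e0ec1563bd33b11603e2f42db0b51cd0161fa12e3d626607b2b51a331625623134b29b0ce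2171790501960964361c43ad25520c2bb1950151550491ae0fd1e83310bb1663153903d50950710ca2300232e23582912d111512a36a27c43505d3140143be0d50772d737522c0941141351b61701541c32f338c2972691e63371942540f20a22a22050283d434a43403c1e91b40c20a739209331319335b2c515326d21f3a812223205e0fa2eb17d0653d33250131132852a73621d62534332c32523122fa22e0be1d13492be13d3d21ac1e706327801221611203716b3230dd2833bb37d19204a38e0920f51524320b009102a1a12623ab1912c91743d122f0e43792510112891f50d938f31135a15120d1390532ec0693291112b01d84310eb27715006f3932a93661b91103100212503b823332f3480a928f1df0c62fd2042cf1621260473d01900100901fb4302251c82c730f1f027d2b33cf32728721802608f14f37405224f2e40b33551341bc06700f10f16c0d43ba18f3850ff42f3ce14e34717a2112390f012b39900e28130e24e0cb1fe36b06118e2c13213a92f504626808e2aa10e0aa1cf02d1a442e32b05f2a41c612f3540cf3981a90a43b918d28b36f3cd23800d24d1650e103008d2722cb20a14d1ec30d06b2e310d42d10c3463702672f20d03cc08c2031c118c00c30c32d1b10ee1730bd04b1e224c3aa2bd14c03b22438406d2cd28d13042c36717e2630b810b0483571ed3cb24b08b3bc2ea2b80c714b18b02f00b23a21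939a1d407f1b32df0e629f30b12733f42b30a2102fb10a2d902424a1681d33393450d82262990a13af3ca3781ab18a2a105c13838627608a00a0e91e314a07942a24938720b3c91da0893bf0730090dc1492272af0391892ed0f83561f12930452d31a610917713c30937c33326c0af4292791880b603236300816123b3442021ff39b1081dd0510750881be3ac2d53c80f72482950c33081481232fc3352b64281470a50722920e81d52640d73772f81a221a39e2d22a516d0341372470431073c73071873320073510873b61ef23e42734307417b1863c62d41463340e73a51282e92130572222712940863062bc3821060060bc1e11d236803f2461ba0c84262080f63c53502451f338329e3b504e07e2de1db1b708510514516422312c0053050cc36c18533e2ff26b2b20b20224251841330841fd1722ee2981dc0780f92ab3733423a630402933823f10424414427e39f1af2d82010ab0d33c405a00442406a03d28a1241432430ae05927a1030c43c30f13031c91831ad32a21b0033643532f60832ae3b017f1f23812212ca42313b0db32c2b728c3c21b53a303626f00216906c1022121fc04d1ce34139d0b718237b23d2420fe0822cc1423022e74220df2c60540011b814123c1011ee1812f128602b3520ef2b93013b306637f08113f1761c739c2753262410b92093c142140e41c40540940640240c40f40b41141240341741e40d41640a41541941b40840741341841f41a41041d404414401461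 (a.val * 32 + b.val))).1 = some (a, b) := by decide +kernel

variable {F : Type} [Field F] {θ : F → F} {α : F} {T T' : Option (F × F) → Option (F × F)}

theorem eq_of_map {K : Type} [Field K] (e : F ≃+* K)
    (h : Option.map (Prod.map e e) ∘ T ∘ Option.map (Prod.map e.symm e.symm) =
      Option.map (Prod.map e e) ∘ T' ∘ Option.map (Prod.map e.symm e.symm)) : T = T' :=
  (map_surj (e.symm.surjective.prodMap e.symm.surjective)).right_cancellable.1
    ((Option.map_injective (e.injective.prodMap e.injective)).comp_left h)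

variable [Fintype F]

theorem uniq8 (hF : Fintype.card F = 8) (h : ∀ x, θ x = x ^ 4) (R : Rules θ α T) :
    α = 0 ∧ ∀ T', Rules θ 0 T' → T = T' := by
  have e : F ≃+* K8 := FiniteField.ringEquivOfCardEq (hF.trans (Fintype.card_fin 8).symm)
  have he : ∀ x, fr 2 (e x) = e (θ x) := fun x => by simp [fr_eq, h]
  obtain rfl : α = 0 := by_contra fun h0 => bad_sound (bad8 (e α) (by simpa using h0)) (R.map e he)
  exact ⟨rfl, fun T' R' => eq_of_map e (good_sound ok8 (fun a b => ⟨_, cov8 a b⟩) (map_zero e ▸ R.map e he)
    (map_zero e ▸ R'.map e he))⟩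

theorem uniq32 (hF : Fintype.card F = 32) (h : ∀ x, θ x = x ^ 8) (R : Rules θ α T) :
    α = 0 ∧ ∀ T', Rules θ 0 T' → T = T' := by
  have e : F ≃+* K32 := FiniteField.ringEquivOfCardEq (hF.trans (Fintype.card_fin 32).symm)
  have he : ∀ x, fr 3 (e x) = e (θ x) := fun x => by simp [fr_eq, h]
  obtain rfl : α = 0 := by_contra fun h0 => bad_sound (bad32a (e α) (by simpa using h0)) (R.map e he)
  exact ⟨rfl, fun T' R' => eq_of_map e (good_sound ok32 (fun a b => ⟨_, cov32 a b⟩) (map_zero e ▸ R.map e he)
    (map_zero e ▸ R'.map e he))⟩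

theorem not16 (hF : Fintype.card F = 32) (h : ∀ x, θ x = x ^ 16) (R : Rules θ α T) : False := by
  have e : F ≃+* K32 := FiniteField.ringEquivOfCardEq (hF.trans (Fintype.card_fin 32).symm)
  exact bad_sound (bad32b (e α)) (R.map e fun x => by simp [fr_eq, h])

end Cfsg.Agent.EP.Id
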