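import Cfsg.Agent.EP.L34b
import Cfsg.Agent.Tw.A8

/-! The amalgam of `L₃(4)`: identification. -/

set_option autoImplicit false

namespace Cfsg.Agent.EP

open Subgroup Finset Cfsg.Agent.SC3
open scoped commutatorElement

namespace L34

theorem exists_om {F : Type*} [Field F] [Fintype F] (h : Fintype.card F = 4) (h2 : (2 : F) = 0) :
    ∃ ω : F, ω * ω = ω + 1 ∧ ∀ t : F, t = 0 ∨ t = 1 ∨ t = ω ∨ t = ω + 1 := by
  classical
  obtain ⟨ω, hω⟩ : ∃ ω : F, ω ∉ ({0, 1} : Finset F) := by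
    by_contra! e
    have := (card_le_card fun x _ => e x : (univ : Finset F).card ≤ _).trans card_le_two
    rw [card_univ] at this
    omega
  simp only [mem_insert, mem_singleton, not_or] at hω
  have h1 : ∀ t : F, t ^ 4 = t := fun t => h ▸ FiniteField.pow_card t
  have h3 : ω * ω = ω + 1 := by have := h1 ω; grind
  exact ⟨ω, h3, fun t => by have := h1 t; grind⟩

theorem bil {F : Type*} [Field F] (h2 : (2 : F) = 0) {ω : F} (h : ω * ω = ω + 1)
    (all : ∀ t : F, t = 0 ∨ t = 1 ∨ t = ω ∨ t = ω + 1) {β : F → F → F} (h1 : ∀ t t' u, β (t + t') u = β t u + β t' u)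
    (h3 : ∀ t u u', β t (u + u') = β t u + β t u') (h4 : ∀ t u, β (ω * t) (ω * u) = ω * ω * β t u) (t u : F) :
    β t u = β 1 1 * t * u := by
  have a0 : ∀ u, β 0 u = 0 := fun u => by simpa using h1 0 0 u
  have b0 : ∀ u, β u 0 = 0 := fun u => by simpa using h3 u 0 0
  have e1 := h4 1 1
  have e2 := h4 1 ω
  have e3 := h4 ω 1
  simp only [mul_one, h, h1, h3] at e1 e2 e3
  have e4 : β 1 ω = ω * β 1 1 := by grind
  have e5 : β ω 1 = ω * β 1 1 := by grind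
  rcases all t with h5 | h5 | h5 | h5 <;> rcases all u with h6 | h6 | h6 | h6 <;>
    simp only [h5, h6, a0, b0, h1, h3, e1, e4, e5] <;> grind

variable {G : Type*} [Group G]

/-- the Weyl group -/
def ww (a b : G) (i j : Fin 3) : G := ![![1, b, 1], ![a * b, 1, a], ![a * (b * a), b * a, 1]] i j

theorem ww_rel {a b : G} (ha : a * a = 1) (hb : b * b = 1) (h : (a * b) ^ 3 = 1) :
    (∀ i j l, i ≠ j → j ≠ l → i ≠ l → ww a b i j = ww a b i l * b ∧ ww a b j l = ww a b i l * a) ∧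
    ∀ i j, i ≠ j → a * ww a b i j = ww a b (Equiv.swap 0 1 i) (Equiv.swap 0 1 j) ∧
      b * ww a b i j = ww a b (Equiv.swap 1 2 i) (Equiv.swap 1 2 j) := by
  have h1 : ∀ x, a * (a * x) = x := fun x => by rw [← mul_assoc, ha, one_mul]
  have h2 : ∀ x, b * (b * x) = x := fun x => by rw [← mul_assoc, hb, one_mul]
  have h3 : b * (a * b) = a * (b * a) := by
    rw [pow_three, show a * b * (a * b * (a * b)) = a * (b * a) * (b * (a * b)) by simp only [mul_assoc]] at h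
    rw [← inv_eq_of_mul_eq_one_right h, mul_inv_rev, mul_inv_rev, inv_eq_of_mul_eq_one_right ha,
      inv_eq_of_mul_eq_one_right hb, mul_assoc]
  have h4 : ∀ x, b * (a * (b * x)) = a * (b * (a * x)) := fun x => by simpa only [mul_assoc] using congrArg (· * x) h3
  refine ⟨fun i j l => ?_, fun i j => ?_⟩
  · fin_cases i <;> fin_cases j <;> fin_cases l <;> simp [ww, mul_assoc, ha, hb, h1, h2, h3, h4]
  · fin_cases i <;> fin_cases j <;> simp [ww, mul_assoc, ha, hb, h1, h2, h3, h4, Equiv.swap_apply_def]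

namespace Am

variable [Finite G] {S V A : Subgroup G} {F : Type} [Field F] [Fintype F] (M : Am S V A F)
  {k n₁ n₂ : G} (D : Dat S V A k n₁ n₂)
include M D

theorem exists_x0 {ω : F} (h : ω * ω = ω + 1) (all : ∀ t : F, t = 0 ∨ t = 1 ∨ t = ω ∨ t = ω + 1) : ∃ x : F → G,
    (∀ t u, x (t + u) = x t * x u) ∧ (∀ t, x t ∈ V ⊓ A) ∧ Function.Injective x ∧ (∀ g ∈ V ⊓ A, ∃ t, x t = g) ∧
      ∀ t, k * x t * k⁻¹ = x (ω * t) := by
  classical
  obtain ⟨z, h1, h2, h3⟩ := M.exists_z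
  have h2' := M.two
  have kW : k ∈ Nm (V ⊓ A) := Nm_inf (M.nm_V D.kS) (M.symm.nm_V D.kS)
  have zW : z ∈ V ⊓ A := ⟨h1, h2⟩
  have fix : ∀ w ∈ V ⊓ A, k * w * k⁻¹ = w → w = 1 := fun w hw e =>
    (M.h.odd_comm (pe_of_mem M.pS (M.P1.VS hw.1)) (rl_k D).1 (mul_inv_eq_iff_eq_mul.1 e).symm).resolve_right
      (rl_k D).2.1
  obtain ⟨y, hy⟩ : ∃ y, y = k * z * k⁻¹ := ⟨_, rfl⟩
  have yW : y ∈ V ⊓ A := hy ▸ Nm_conj kW zW
  obtain ⟨w, hw⟩ : ∃ w, w = k * y * k⁻¹ := ⟨_, rfl⟩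
  have wW : w ∈ V ⊓ A := hw ▸ Nm_conj kW yW
  have zz := M.P1.V2 z h1
  have yy := M.P1.V2 y yW.1
  have yz := (M.cV' yW.1 h1).eq
  have h4 : k * w * k⁻¹ = z := by
    rw [hw, hy, show k * (k * (k * z * k⁻¹) * k⁻¹) * k⁻¹ = k ^ 3 * z * (k ^ 3)⁻¹ by rw [pow_three]; group,
      cube3 D.ok]; simp
  have h5 : w = z * y := by
    have := fix (z * y * w) (mul_mem (mul_mem zW yW) wW) (by
      rw [← conj_mul, ← conj_mul, ← hy, ← hw, h4, (M.cV' (mul_mem yW wW).1 h1).eq, mul_assoc])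
    rw [← inv_eq_of_mul_eq_one_right this, inv_eq_of_mul_eq_one_right (M.P1.V2 _ (mul_mem zW yW).1)]
  have zz' : ∀ x, z * (z * x) = x := fun x => by rw [← mul_assoc, zz, one_mul]
  have yz' : ∀ x, y * (z * x) = z * (y * x) := fun x => by rw [← mul_assoc, yz, mul_assoc]
  obtain ⟨x, x0, x1, x2, x3⟩ : ∃ x : F → G, x 0 = 1 ∧ x 1 = z ∧ x ω = y ∧ x (ω + 1) = z * y :=
    ⟨fun t => if t = 0 then 1 else if t = 1 then z else if t = ω then y else z * y, by simp, by simp,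
      by simp [show ω ≠ 0 by grind, show ω ≠ 1 by grind], by simp [show ω + 1 ≠ 0 by grind, show ω ≠ 0 by grind]⟩
  have add : ∀ t u, x (t + u) = x t * x u := fun t u => by
    have a1 : (1 : F) + 1 = 0 := by grind
    have a2 : ω + ω = 0 := by grind
    have a3 : 1 + ω = ω + 1 := add_comm _ _
    have a4 : 1 + (ω + 1) = ω := by grind
    have a5 : ω + (ω + 1) = 1 := by grind
    have a6 : ω + 1 + 1 = ω := by grind
    have a7 : ω + 1 + ω = 1 := by grind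
    have a8 : ω + 1 + (ω + 1) = 0 := by grind
    rcases all t with rfl | rfl | rfl | rfl <;> rcases all u with rfl | rfl | rfl | rfl <;>
      simp only [a1, a2, a3, a4, a5, a6, a7, a8, add_zero, zero_add, x0, x1, x2, x3, mul_one, one_mul, mul_assoc, zz, yy,
        zz', yz', yz]
  have mem : ∀ t, x t ∈ V ⊓ A := fun t => by
    rcases all t with rfl | rfl | rfl | rfl
    exacts [x0 ▸ one_mem _, x1 ▸ zW, x2 ▸ yW, x3 ▸ mul_mem zW yW]
  have inj : Function.Injective x := fun t u e => by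
    have h6 : x (t + u) = 1 := by rw [add, e, M.P1.V2 _ (mem u).1]
    rcases all (t + u) with h7 | h7 | h7 | h7 <;> rw [h7] at h6
    · grind
    · exact absurd (x1 ▸ h6) h3
    · exact absurd (by simpa [x2, hy] using h6) h3
    · rw [x3, ← h5, hw, hy] at h6
      exact absurd (by simpa using h6) h3
  refine ⟨x, add, mem, inj, fun g hg => ?_, fun t => ?_⟩
  · obtain ⟨t, ht⟩ := ((Nat.bijective_iff_injective_and_card (fun t => (⟨x t, mem t⟩ : (V ⊓ A : Subgroup G)))).2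
      ⟨fun t u e => inj (congrArg Subtype.val e), by rw [M.cW, Nat.card_eq_fintype_card, M.hF]⟩).2 ⟨g, hg⟩
    exact ⟨t, congrArg Subtype.val ht⟩
  · rcases all t with rfl | rfl | rfl | rfl
    · simp [x0]
    · rw [mul_one, x1, x2, hy]
    · rw [h, x2, x3, ← hw, h5]
    · rw [show ω * (ω + 1) = 1 by grind, x3, x1, ← h5, h4]

theorem exists_x : ∃ x : F → G, (∀ t u, x (t + u) = x t * x u) ∧ (∀ t, x t ∈ V ⊓ A) ∧ x 1 ≠ 1 ∧
    (∀ g ∈ V ⊓ A, ∃ t, x t = g) ∧ ∀ t u, ⁅n₂ * x t * n₂⁻¹, n₁ * x u * n₁⁻¹⁆ = x (t * u) := by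
  obtain ⟨ω, h, all⟩ := exists_om M.hF M.two
  obtain ⟨x, add, mem, inj, sur, hk⟩ := M.exists_x0 D h all
  have x0 : x 0 = 1 := by simpa using add 0 0
  have m1 : ∀ t, n₁ * x t * n₁⁻¹ ∈ V := fun t => Nm_conj D.V1 (mem t).1
  have m2 : ∀ t, n₂ * x t * n₂⁻¹ ∈ A := fun t => Nm_conj D.A2 (mem t).2
  have : ∀ t u, ∃ s, x s = ⁅n₂ * x t * n₂⁻¹, n₁ * x u * n₁⁻¹⁆ := fun t u => sur _ (mem_inf.2 ⟨mul_mem
    (Nm_conj (M.S_le (M.P1.AS (m2 t))) (m1 u)) (inv_mem (m1 u)), by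
      rw [commutatorElement_def, mul_assoc, mul_assoc, ← mul_assoc (n₁ * x u * n₁⁻¹)]
      exact mul_mem (m2 t) (Nm_conj (M.symm.S_le (M.P1.VS (m1 u))) (inv_mem (m2 t)))⟩)
  choose β hβ using this
  have k1 : ∀ {n : G}, n * k * n⁻¹ = k⁻¹ → ∀ t, n * x (ω * t) * n⁻¹ = k⁻¹ * (n * x t * n⁻¹) * k⁻¹⁻¹ := fun {n} h t =>
    Eq.trans (by rw [← hk]; group) (congrArg (fun y => y * (n * x t * n⁻¹) * y⁻¹) h)
  have hb := bil M.two h all (β := β) (fun t t' u => inj (by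
      rw [add (β _ _), hβ, add, ← conj_mul, commutatorElement_mul_left_eq_conj_mul, ← hβ, ← hβ,
        (M.symm.cV' (m2 t) (mem _).2).eq, mul_inv_cancel_right, (M.cV' (mem _).1 (mem _).1).eq]))
    (fun t u u' => inj (by
      rw [add (β _ _), hβ, add, ← conj_mul, commutatorElement_mul_right_eq_mul_conj, ← hβ, ← hβ,
        mul_assoc (x _), (M.cV' (m1 u) (mem _).1).eq, ← mul_assoc, mul_inv_cancel_right]))
    fun t u => inj (by
      rw [hβ, k1 D.k1, k1 D.k2, ← conjugate_commutatorElement, ← hβ, mul_assoc ω, ← hk, ← hk]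
      exact Eq.trans (congrArg (fun y => y * x (β t u) * y⁻¹) (sq3 D.ok).symm) (by group))
  have hc : β 1 1 ≠ 0 := fun e => by
    have h1 : x 1 ≠ 1 := fun e => one_ne_zero (inj (e.trans x0.symm))
    have h2 := hβ 1 1
    rw [e, x0, eq_comm, commutatorElement_eq_one_iff_commute] at h2
    exact M.n1_S D (M.nm_S (mem 1).1 (mem 1).2 h1 (m1 1) (M.P1.fix _ (m2 1)
      (fun e => M.symm.n1_S D.symm (M.nm_S (mem 1).1 (mem 1).2 h1 e (m2 1))) _ (m1 1) h2))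
  refine ⟨fun t => x ((β 1 1)⁻¹ * t), fun t u => by simp only [mul_add, add], fun t => mem _,
    fun e => hc (by simpa using inj (e.trans x0.symm)), fun g hg => ?_, fun t u => ?_⟩
  · obtain ⟨t, rfl⟩ := sur g hg
    exact ⟨β 1 1 * t, by simp [hc]⟩
  · rw [← hβ, hb]
    congr 1
    field_simp

theorem le_H {H : Subgroup G} (h1 : V ⊓ A ≤ H) (h2 : cj n₁ (V ⊓ A) ≤ H) : V ≤ H := by
  have h3 := card_mul_le (U := V ⊓ H) (le_inf inf_le_left h1)
    (le_inf ((cj_mono inf_le_left).trans (cj_eq_iff.2 D.V1).le) h2) (eq_bot_iff.2 fun z hz => by_contra fun e =>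
      M.n1_S D (inv_mem_iff.1 (M.nm_S hz.1.1 hz.1.2 e (by simpa using (mem_cj.1 hz.2).1)
        (by simpa using (mem_cj.1 hz.2).2))))
  rw [card_cj, M.cW, show 4 * 4 = 16 from rfl, ← M.cV] at h3
  exact (eq_of_le_of_card_ge inf_le_left h3).ge.trans inf_le_right

theorem eq_top [IsSimpleGroup G] {H : Subgroup G} (h1 : S ≤ H) (h2 : k ∈ H) (h3 : n₁ ∈ H) (h4 : n₂ ∈ H) : H = ⊤ := by
  by_contra h
  have c1 := no_small_index h
  have c2 := H.card_mul_index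
  have c3 := card_mul_relIndex (A := H ⊓ Nm V) inf_le_left
  have c4 := card_mul_relIndex (A := H ⊓ Nm V ⊓ Nm S) inf_le_left
  have c5 : Nat.card (H ⊓ Nm V : Subgroup G) ∣ 960 := M.cN ▸ card_dvd_of_le inf_le_right
  have c6 : 2 ^ 6 ∣ Nat.card (H ⊓ Nm V ⊓ Nm S : Subgroup G) :=
    M.cS ▸ card_dvd_of_le (le_inf (le_inf h1 M.S_le) (le_Nm S))
  have c7 : 3 ∣ Nat.card (H ⊓ Nm V ⊓ Nm S : Subgroup G) :=
    D.ok ▸ orderOf_dvd_natCard _ ⟨⟨h2, M.nm_V D.kS⟩, D.kS⟩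
  have c8 : (H ⊓ Nm V).relIndex H ≠ 1 := fun e =>
    M.symm.n1_S D.symm (M.nm_inf (relIndex_eq_one.1 e h4).2 D.A2)
  have c9 : (H ⊓ Nm V ⊓ Nm S).relIndex (H ⊓ Nm V) ≠ 1 := fun e => M.n1_S D (relIndex_eq_one.1 e ⟨h3, D.V1⟩).2
  rw [(M.order D).1] at c1 c2
  obtain ⟨a, ha⟩ := Nat.Coprime.mul_dvd_of_dvd_of_dvd (by decide) c6 c7
  rw [← c4, ha, mul_assoc] at c5 c3
  have d1 : (H ⊓ Nm V ⊓ Nm S).relIndex (H ⊓ Nm V) = 5 :=
    ((Nat.dvd_prime Nat.prime_five).1 ((dvd_mul_left _ a).trans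
      (Nat.dvd_of_mul_dvd_mul_left (by decide) c5))).resolve_left c9
  rw [d1] at c5 c3
  obtain rfl : a = 1 := by have := Nat.le_of_dvd (by decide) c5; have := Nat.pos_of_dvd_of_pos c5 (by decide); omega
  rw [← c3, mul_assoc, mul_assoc 5] at c2
  have d2 : (H ⊓ Nm V).relIndex H * H.index = 21 := by omega
  have d3 := Nat.le_of_dvd (by decide) (Dvd.intro_left _ d2)
  generalize H.index = i at *
  interval_cases i <;> first | omega | exact absurd c1 (by decide)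

theorem main [IsSimpleGroup G] : Nonempty (G ≃* Matrix.ProjectiveSpecialLinearGroup (Fin 3) F) := by
  obtain ⟨x, add, mem, h1, sur, hc⟩ := M.exists_x D
  obtain ⟨w1, w2⟩ := ww_rel D.s1 D.s2 (M.order D).2
  obtain ⟨φ, hφ⟩ := Tw.exists_fromSL (m := 2) le_rfl
    ⟨fun r t => ww n₁ n₂ r.1.1 r.1.2 * x t * (ww n₁ n₂ r.1.1 r.1.2)⁻¹, fun r t u => by rw [add, conj_mul]⟩
    (fun a b c h h' h'' t u => by
      simp only [(w1 a b c h h' h'').1, (w1 a b c h h' h'').2, ← hc, conjugate_commutatorElement]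
      congr 1 <;> group)
    fun ⟨⟨a, b⟩, h⟩ ⟨⟨c, d⟩, h'⟩ h2 h3 t u => by
      have : ∃ m, ww n₁ n₂ c d = ww n₁ n₂ a b * m ∧ Commute (x t) (m * x u * m⁻¹) := by
        by_cases e : c = a
        · by_cases e' : d = b
          · exact ⟨1, by simp [e, e'], by simpa using M.cV' (mem t).1 (mem u).1⟩
          · exact ⟨n₂, e ▸ (w1 c d b h' e' (e ▸ h)).1, M.symm.cV' (mem t).2 (Nm_conj D.A2 (mem u).2)⟩
        · obtain rfl : d = b := by simp only at h h' h2 h3; omega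
          exact ⟨n₁, (w1 a c d (Ne.symm e) h' h).2, M.cV' (mem t).1 (Nm_conj D.V1 (mem u).1)⟩
      obtain ⟨m, e, h4⟩ := this
      simp only [commutatorElement_eq_one_iff_commute, e]
      simpa [mul_assoc] using commute_conj.2 h4
  have hH : ∀ a b, a ≠ b → ∀ g ∈ V ⊓ A, ww n₁ n₂ a b * g * (ww n₁ n₂ a b)⁻¹ ∈ φ.range := fun a b h g hg => by
    obtain ⟨t, rfl⟩ := sur g hg
    exact ⟨_, hφ ⟨(a, b), h⟩ t⟩
  have nm : ∀ g, (∀ a b, a ≠ b → ∀ y ∈ V ⊓ A, g * (ww n₁ n₂ a b * y * (ww n₁ n₂ a b)⁻¹) * g⁻¹ ∈ φ.range) →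
      g ∈ Nm φ.range := fun g h => mem_Nm (by
    rintro _ ⟨s, rfl⟩
    exact ((RGD.slFam_top _).ge.trans (RGD.US_le (B := (φ.range.comap (MulAut.conj g).toMonoidHom).comap φ)
      fun r _ => RGD.Fam.X_le _ fun t => by simpa [hφ] using h _ _ r.2 _ (mem t))) (mem_top s))
  have hW : V ⊓ A ≤ φ.range := fun g hg => by simpa [ww] using hH 0 2 (by decide) g hg
  have hS : S ≤ φ.range := fun s hs => by
    obtain ⟨a, ha, v, hv, rfl⟩ := M.dec hs
    refine mul_mem (M.symm.le_H D.symm (inf_comm V A ▸ hW) ?_ ha) (M.le_H D hW ?_ hv)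
    · rintro _ ⟨g, hg, rfl⟩
      exact hH 0 1 (by decide) g (inf_comm V A ▸ hg)
    · rintro _ ⟨g, hg, rfl⟩
      exact hH 1 2 (by decide) g hg
  have hN := M.eq_top D (hS.trans (le_Nm _)) (nm k fun a b h y hy => by
      have h2 : ww n₁ n₂ a b ∈ Ak k := by
        have a1 := (mem_Ak D.ok).2 (Or.inr D.k1)
        have a2 := (mem_Ak D.ok).2 (Or.inr D.k2)
        fin_cases a <;> fin_cases b <;> simp [ww, mul_mem, a1, a2]
      simpa [mul_assoc] using hH a b h _ (Nm_conj (zpowers_le_of_mem (Nm_inf (M.nm_V D.kS) (M.symm.nm_V D.kS))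
        (Nm_conj' h2 (mem_zpowers k))) hy))
    (nm n₁ fun a b h y hy => by
      simpa [← (w2 a b h).1, mul_assoc] using hH _ _ ((Equiv.swap 0 1).injective.ne h) y hy)
    (nm n₂ fun a b h y hy => by
      simpa [← (w2 a b h).2, mul_assoc] using hH _ _ ((Equiv.swap 1 2).injective.ne h) y hy)
  have hT := (normalizer_eq_top_iff.1 hN).eq_bot_or_eq_top.resolve_left fun e => h1 (e.le (hW (mem 1)))
  have hZ := GLn.card_center_SL (F := F) (ι := Fin 3)
  have hP := GLn.card_PSL_mul (F := F) (ι := Fin 3)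
  rw [GLn.card_SL_eq] at hP
  rw [M.hF] at hZ hP
  refine ⟨(MulEquiv.ofBijective (QuotientGroup.lift (center _) φ fun z hz => ?_)
    ((Nat.bijective_iff_surjective_and_card _).2 ⟨fun g => ?_, ?_⟩)).symm⟩
  · obtain ⟨s, hs⟩ := hW (mem 1)
    refine (M.h.odd_comm (pe_of_mem M.pS (M.P1.VS (mem 1).1)) (Odd.of_dvd_nat (by decide) ((orderOf_map_dvd φ z).trans
      (hZ ▸ orderOf_dvd_natCard _ hz))) ?_).resolve_left h1
    exact hs ▸ (show Commute s z from mem_center_iff.1 hz s).map φ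
  · obtain ⟨s, rfl⟩ := hT.ge (mem_top g)
    exact ⟨s, rfl⟩
  · rw [(M.order D).1]
    rw [show ∏ i ∈ Icc 2 3, (4 ^ i - 1) = 945 by decide] at hP
    rw [show (Fintype.card (Fin 3)).gcd (4 - 1) = 3 by decide] at hP
    exact Nat.eq_of_mul_eq_mul_right (by decide) (hP.trans (by decide))

end Am

end L34

/-- the amalgam of `L₃(4)` -/
theorem l34 {G : Type*} [Group G] [Finite G] [IsSimpleGroup G] {S V A : Subgroup G} {F : Type} [Field F] [Fintype F]
    (h : EPPO G) (hF : Fintype.card F = 4) (P1 : Pb S V A F) (P2 : Pb S A V F) (hne : V ≠ A) :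
    Nonempty (G ≃* Matrix.ProjectiveSpecialLinearGroup (Fin 3) F) :=
  let M : L34.Am S V A F := ⟨h, hF, P1, P2, hne⟩
  let ⟨_, _, _, D⟩ := M.exists_dat
  M.main D

end Cfsg.Agent.EP
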