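import Cfsg.Agent.EP.Loc

/-! The amalgam of `L₃(4)`: local structure. -/

set_option autoImplicit false

namespace Cfsg.Agent.EP

open Subgroup Finset Cfsg.Agent.SC3

namespace L34

section Mat

variable {F : Type*} [Field F] [Fintype F] (h2 : (2 : F) = 0)
include h2

omit [Fintype F] in
theorem sq_iff {x : SL2.SLT F} : x * x = 1 ↔ x.1.trace = 0 := by
  by_cases h : SL2.IsScal x.1
  · exact iff_of_true (by simpa [sq] using SL2.sq_eq_one_of_isScal h)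
      (by rw [Matrix.trace_fin_two, h.2.2, ← two_mul, h2, zero_mul])
  · rw [SL2.trace_zero_iff_sq h, SL2.sl_neg_eq_self h2]

omit [Fintype F] in
theorem not_scal {x : SL2.SLT F} (h : x ≠ 1) : ¬ SL2.IsScal x.1 := fun e =>
  h (SL2.pr_injective h2 ((SL2.pr_eq_one_iff.2 e).trans (map_one _).symm))

theorem real_sl (x : SL2.SLT F) : IsConj x x⁻¹ := by
  by_cases h : x = 1
  · simp [h]
  · exact SL2.sl_isConj_of_trace_two h2 (not_scal h2 h) (not_scal h2 (inv_ne_one.2 h)) (SL2.sl_trace_inv x).symm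

theorem conj_sl {x y : SL2.SLT F} (hx : I2 x) (hy : I2 y) : IsConj x y :=
  SL2.sl_isConj_of_trace_two h2 (not_scal h2 hx.2) (not_scal h2 hy.2)
    (((sq_iff h2).1 hx.1).trans ((sq_iff h2).1 hy.1).symm)

theorem card_inv : Nat.card {x : SL2.SLT F // x * x = 1} = Fintype.card F ^ 2 := by
  rw [sq, ← Fintype.card_prod, ← Nat.card_eq_fintype_card]
  have key : ∀ x : {x : SL2.SLT F // x * x = 1}, x.1.1 1 1 = x.1.1 0 0 ∧
      x.1.1 0 0 ^ 2 = 1 + x.1.1 0 1 * x.1.1 1 0 := fun x => by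
    have h1 := (sq_iff h2).1 x.2
    have h3 := x.1.2
    rw [Matrix.trace_fin_two] at h1
    rw [Matrix.det_fin_two] at h3
    constructor <;> grind
  refine Nat.card_congr (Equiv.ofBijective (fun x => (x.1.1 0 1, x.1.1 1 0)) ⟨fun x y e => ?_, fun p => ?_⟩)
  · obtain ⟨e1, e2⟩ := Prod.mk.inj e
    have h1 : x.1.1 0 0 = y.1.1 0 0 := by
      have := (key x).2.trans (e1 ▸ e2 ▸ (key y).2.symm)
      rcases sq_eq_sq_iff_eq_or_eq_neg.1 this with h | h <;> grind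
    refine Subtype.ext (Subtype.ext (Matrix.ext fun i j => ?_))
    fin_cases i <;> fin_cases j
    exacts [h1, e1, e2, (key x).1.trans (h1.trans (key y).1.symm)]
  · obtain ⟨a, ha⟩ := SL2.isSquare_of_two_eq_zero h2 (1 + p.1 * p.2)
    exact ⟨⟨⟨!![a, p.1; p.2, a], by rw [Matrix.det_fin_two_of]; grind⟩, (sq_iff h2).2 (by
      simp [Matrix.trace_fin_two]; grind)⟩, rfl⟩

end Mat

variable {G : Type*} [Group G]

theorem sq_conj {x g : G} : g * x * g⁻¹ * (g * x * g⁻¹) = 1 ↔ x * x = 1 := by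
  rw [conj_mul, mul_inv_eq_one, mul_eq_left]

theorem sq_conj' {x g : G} : g⁻¹ * x * g * (g⁻¹ * x * g) = 1 ↔ x * x = 1 := by
  simpa using sq_conj (x := x) (g := g⁻¹)

/-- the hypotheses -/
structure Am (S V A : Subgroup G) (F : Type) [Field F] [Fintype F] : Prop where
  h : EPPO G
  hF : Fintype.card F = 4
  P1 : Pb S V A F
  P2 : Pb S A V F
  ne : V ≠ A

namespace Am

variable {S V A : Subgroup G} {F : Type} [Field F] [Fintype F] (M : Am S V A F)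
include M

theorem symm : Am S A V F := ⟨M.h, M.hF, M.P2, M.P1, M.ne.symm⟩

theorem two : (2 : F) = 0 := SL2.two_eq_zero_of_even (by rw [M.hF]; decide)

theorem cV : Nat.card V = 16 := by rw [M.P1.cV, M.hF]; rfl

theorem cW : Nat.card (V ⊓ A : Subgroup G) = 4 := M.P1.cW.trans M.hF

theorem cS : Nat.card S = 2 ^ 6 := by rw [M.P1.cS, M.hF]; rfl

theorem pS : IsPGroup 2 S := IsPGroup.of_card M.cS

theorem nd : ¬ 2 ^ (6 + 1) ∣ Nat.card G := by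
  have := M.P1.syl
  rw [← S.card_mul_index, M.cS]
  omega

theorem cV' {x y : G} (hx : x ∈ V) (hy : y ∈ V) : Commute x y := comm_of_sq M.P1.V2 hx hy

variable [Finite G]

theorem le_S {T : Subgroup G} (hT : IsPGroup 2 T) (h : S ≤ T) : T = S := by
  obtain ⟨P, rfl⟩ := exists_sylow_eq M.cS M.nd
  exact P.3 hT h

theorem mem_S {g : G} (h : PE 2 g) (hg : g ∈ Nm S) : g ∈ S := by
  obtain ⟨P, rfl⟩ := exists_sylow_eq M.cS M.nd
  obtain ⟨n, hn⟩ := h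
  exact mem_sylow_of_Nm hn hg

theorem dec {s : G} (hs : s ∈ S) : ∃ a ∈ A, ∃ v ∈ V, s = a * v := by
  classical
  have := Fintype.ofFinite (G ⧸ V)
  have h1 := Frob.card_orbit A ((1 : G) : G ⧸ V) (univ.filter fun c => ∃ g ∈ A, g • ((1 : G) : G ⧸ V) = c) (by simp)
  have h2 := Frob.card_orbit S ((1 : G) : G ⧸ V) (univ.filter fun c => ∃ g ∈ S, g • ((1 : G) : G ⧸ V) = c) (by simp)
  rw [MulAction.stabilizer_quotient] at h1 h2
  rw [M.symm.cV, M.symm.cW] at h1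
  rw [inf_eq_right.2 M.P1.VS, M.cV, M.cS] at h2
  have h3 := eq_of_subset_of_card_le (s := univ.filter fun c => ∃ g ∈ A, g • ((1 : G) : G ⧸ V) = c)
    (t := univ.filter fun c => ∃ g ∈ S, g • ((1 : G) : G ⧸ V) = c) (fun c hc => by
      obtain ⟨g, hg, e⟩ := (mem_filter.1 hc).2
      exact mem_filter.2 ⟨mem_univ _, g, M.P1.AS hg, e⟩) (by omega)
  obtain ⟨a, ha, e⟩ := (mem_filter.1 (h3.ge (mem_filter.2 ⟨mem_univ _, s, hs, rfl⟩))).2
  exact ⟨a, ha, a⁻¹ * s, by simpa using QuotientGroup.eq.1 e, by simp⟩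

theorem inv_S {s : G} (hs : s ∈ S) (h : s * s = 1) : s ∈ V ∨ s ∈ A := by
  obtain ⟨a, ha, v, hv, rfl⟩ := M.dec hs
  by_cases h1 : a ∈ V
  · exact Or.inl (mul_mem h1 hv)
  refine Or.inr (mul_mem ha (M.P1.fix a ha h1 v hv ?_))
  rw [Commute, SemiconjBy, ← inv_eq_of_mul_eq_one_right h, mul_inv_rev, inv_eq_of_mul_eq_one_right (M.P1.V2 v hv),
    inv_eq_of_mul_eq_one_right (M.P1.A2 a ha)]

theorem elem {E : Subgroup G} (hE : E ≤ S) (h : ∀ e ∈ E, e * e = 1) : E ≤ V ∨ E ≤ A := by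
  by_contra! hn
  obtain ⟨x, hx, h1⟩ := SetLike.not_le_iff_exists.1 hn.1
  obtain ⟨y, hy, h2⟩ := SetLike.not_le_iff_exists.1 hn.2
  have h3 := (M.inv_S (hE hx) (h x hx)).resolve_left h1
  have h4 := (M.inv_S (hE hy) (h y hy)).resolve_right h2
  rcases M.inv_S (hE (mul_mem hx hy)) (h _ (mul_mem hx hy)) with e | e
  exacts [h1 ((mul_mem_cancel_right h4).1 e), h2 ((mul_mem_cancel_left h3).1 e)]

theorem cj_V {g : G} (h : cj g V ≤ S) : cj g V = V ∨ cj g V = A :=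
  (M.elem h fun e he => sq_conj'.1 (M.P1.V2 _ (mem_cj.1 he))).imp
    (fun e => eq_of_le_of_card_ge e (by rw [card_cj])) fun e =>
      eq_of_le_of_card_ge e (by rw [card_cj, M.cV, M.symm.cV])

theorem S_le : S ≤ Nm V := fun s hs => by
  obtain ⟨a, ha, v, hv, rfl⟩ := M.dec hs
  refine mul_mem (cj_eq_iff.1 ((M.cj_V fun x hx => ?_).resolve_right fun e => M.ne ?_)) (le_Nm V hv)
  · simpa [mul_assoc] using Nm_conj (le_Nm S (M.P1.AS ha)) (M.P1.VS (mem_cj.1 hx))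
  · rw [← cj_one V, ← inv_mul_cancel a, ← cj_cj, e, cj_eq_iff.2 (le_Nm A (inv_mem ha))]

theorem C1_eq {z : G} (h1 : z ∈ V) (h2 : z ∈ A) (h3 : z ≠ 1) : C1 z = S :=
  M.le_S (M.h.isP_C1 Nat.prime_two (pe_of_mem M.pS (M.P1.VS h1)) h3) fun s hs => by
    obtain ⟨a, ha, v, hv, rfl⟩ := M.dec hs
    exact mem_C1.2 ((M.symm.cV' h2 ha).mul_right (M.cV' h1 hv))

theorem exists_z : ∃ z ∈ V, z ∈ A ∧ z ≠ 1 := by
  obtain ⟨z, hz⟩ : (nt (V ⊓ A)).Nonempty := card_pos.1 (by rw [card_nt, M.cW]; omega)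
  exact ⟨z, (mem_nt.1 hz).1.1, (mem_nt.1 hz).1.2, (mem_nt.1 hz).2⟩

theorem nm_S {z g : G} (h1 : z ∈ V) (h2 : z ∈ A) (h3 : z ≠ 1) (h4 : g * z * g⁻¹ ∈ V) (h5 : g * z * g⁻¹ ∈ A) :
    g ∈ Nm S := by
  have := M.C1_eq h4 h5 (by simpa using h3)
  rwa [C1_cj, M.C1_eq h1 h2 h3, cj_eq_iff] at this

theorem not_cj (g : G) : cj g V ≠ A := fun e => by
  obtain ⟨z, h1, h2, h3⟩ := M.exists_z
  obtain ⟨x, hx, h4⟩ := M.P2.tr _ (e.le (conj_mem_cj.2 h1)) z h2 (by simpa using h3) h3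
  have h5 : x * g ∈ S := (M.C1_eq h1 h2 h3).le (mem_C1.2 (mul_inv_eq_iff_eq_mul.1
    (show x * g * z * (x * g)⁻¹ = z from Eq.trans (by group) h4)).symm)
  exact M.ne (by rw [← cj_eq_iff.2 (M.S_le h5), ← cj_cj, e, cj_eq_iff.2 hx])

theorem nm_V : Nm S ≤ Nm V := fun g hg =>
  cj_eq_iff.1 ((M.cj_V ((cj_mono M.P1.VS).trans (cj_eq_iff.2 hg).le)).resolve_right (M.not_cj g))

theorem uniq {z g : G} (h1 : z ∈ V) (h3 : z ≠ 1) (h : g * z * g⁻¹ ∈ V) : g ∈ Nm V := by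
  obtain ⟨w, h4, h5, h6⟩ := M.exists_z
  obtain ⟨x, hx, e⟩ := M.P1.tr _ h w h4 (by simpa using h3) h6
  refine (mul_mem_cancel_left hx).1 (cj_eq_iff.1 ((M.cj_V fun y hy => ?_).resolve_right (M.not_cj _)))
  rw [← M.C1_eq h4 h5 h6, ← e, show x * (g * z * g⁻¹) * x⁻¹ = x * g * z * (x * g)⁻¹ by group, C1_cj, mem_cj]
  exact mem_C1.2 (M.cV' h1 (mem_cj.1 hy))

theorem conj_all {z t : G} (h1 : z ∈ V) (h2 : z ∈ A) (h3 : z ≠ 1) (ht : I2 t) : ∃ g, g * z * g⁻¹ = t := by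
  obtain ⟨g, hg⟩ := exists_cj_le M.cS (isP_zpowers (n := 1) Nat.prime_two (by simpa [sq] using ht.1)) M.nd
  have h4 := ht.conj g
  rcases M.inv_S (hg (conj_mem_cj.2 (mem_zpowers t))) h4.1 with h | h
  · obtain ⟨x, -, e⟩ := M.P1.tr z h1 _ h h3 h4.2
    exact ⟨g⁻¹ * x, by rw [show g⁻¹ * x * z * (g⁻¹ * x)⁻¹ = g⁻¹ * (x * z * x⁻¹) * g by group, e]; group⟩
  · obtain ⟨x, -, e⟩ := M.P2.tr z h2 _ h h3 h4.2
    exact ⟨g⁻¹ * x, by rw [show g⁻¹ * x * z * (g⁻¹ * x)⁻¹ = g⁻¹ * (x * z * x⁻¹) * g by group, e]; group⟩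

theorem cN : Nat.card (Nm V) = 960 := by
  obtain ⟨φ, h1, h2⟩ := M.P1.hom
  have h3 := φ.ker.card_mul_index
  rw [index_ker, MonoidHom.range_eq_top.2 h1, card_top, SL2.card_sl, show φ.ker = V.subgroupOf (Nm V) from
    Subgroup.ext h2, card_subgroupOf (le_Nm V), M.cV, M.hF] at h3
  exact h3.symm

theorem real {k : G} (hk : k ∈ Nm V) (ho : ¬ PE 2 k) : ∃ n ∈ Nm V, n * k * n⁻¹ = k⁻¹ ∧ n * n = 1 := by
  obtain ⟨φ, h1, h2⟩ := M.P1.hom
  obtain ⟨y, hy⟩ := isConj_iff.1 (real_sl M.two (φ ⟨k, hk⟩))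
  obtain ⟨s, rfl⟩ := h1 y
  obtain ⟨d, hd, h3⟩ := M.h.lift (M.pS.to_le M.P1.VS) (s := s) hk ho ((h2 (s * ⟨k, hk⟩ * s⁻¹ * ⟨k, hk⟩)).1 (by
    simp [hy]))
  exact ⟨_, mul_mem (le_Nm V hd) s.2, h3⟩

theorem card_X : Nat.card {g : G // g ∈ Nm V ∧ g * g = 1} = 76 := by
  classical
  have := Fintype.ofFinite G
  obtain ⟨φ, h1, h2⟩ := M.P1.hom
  obtain ⟨a, ha, h3⟩ : ∃ a ∈ A, a ∉ V := SetLike.not_le_iff_exists.1 fun e =>
    M.ne (eq_of_le_of_card_ge e (by rw [M.cV, M.symm.cV])).symm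
  have haN := M.S_le (M.P1.AS ha)
  have h4 := card_inv M.two
  rw [Nat.card_eq_fintype_card, Fintype.card_subtype, M.hF] at h4
  rw [show Nat.card {g : G // g ∈ Nm V ∧ g * g = 1} = (univ.filter fun g : Nm V => g * g = 1).card by
      rw [← Fintype.card_subtype, ← Nat.card_eq_fintype_card]
      exact (Nat.card_congr (Equiv.subtypeSubtypeEquivSubtypeInter _ (fun g => g * g = 1))).symm.trans
        (Nat.card_congr (Equiv.subtypeEquivRight fun g => by simp [Subtype.ext_iff])),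
    card_eq_sum_card_fiberwise (f := φ) (t := univ.filter fun x => x * x = 1)
      (fun g hg => by simpa [← map_mul] using congrArg φ (mem_filter.1 hg).2),
    ← add_sum_erase _ _ (a := 1) (by simp), sum_congr rfl (g := fun _ => 4) fun x hx => ?_]
  · rw [sum_const, card_erase_of_mem (by simp), h4, Frob.card_sub' (V.subgroupOf (Nm V)) _ fun g => ?_,
      card_subgroupOf (le_Nm V), M.cV]
    · rfl
    · simp only [mem_filter, mem_univ, true_and, h2, mem_subgroupOf]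
      exact and_iff_right_of_imp fun h => Subtype.ext (M.P1.V2 _ h)
  have haa : φ ⟨a, haN⟩ * φ ⟨a, haN⟩ = 1 := by
    rw [← map_mul, show (⟨a, haN⟩ * ⟨a, haN⟩ : Nm V) = 1 from Subtype.ext (M.P1.A2 a ha), map_one]
  obtain ⟨y, hy⟩ := isConj_iff.1 (conj_sl M.two (x := φ ⟨a, haN⟩) ⟨haa,
    fun e => h3 ((h2 _).1 e)⟩ ⟨(mem_filter.1 (mem_erase.1 hx).2).2, (mem_erase.1 hx).1⟩)
  obtain ⟨s, rfl⟩ := h1 y
  rw [← M.cW, ← Frob.card_sub]
  refine card_bij (fun g _ => a * ((s : G)⁻¹ * g * s)) (fun g hg => ?_) (fun g _ g' _ e => by simpa using e)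
    fun w hw => ?_
  · obtain ⟨h5, h6⟩ := mem_filter.1 hg
    have h7 : a * ((s : G)⁻¹ * g * s) ∈ V := (h2 (⟨a, haN⟩ * (s⁻¹ * g * s))).1 (by
      simp only [map_mul, map_inv, h6, ← hy, mul_assoc, inv_mul_cancel_left, inv_mul_cancel, mul_one]
      exact haa)
    refine mem_filter.2 ⟨mem_univ _, h7, M.P1.fix a ha h3 _ h7 ((Commute.refl a).mul_right ?_)⟩
    have h8 : (s : G)⁻¹ * g * s * ((s : G)⁻¹ * g * s) = 1 := sq_conj'.2 (congrArg Subtype.val (mem_filter.1 h5).2)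
    rw [Commute, SemiconjBy, ← inv_eq_of_mul_eq_one_right (M.P1.V2 _ h7), mul_inv_rev,
      inv_eq_of_mul_eq_one_right h8, inv_eq_of_mul_eq_one_right (M.P1.A2 a ha)]
  · obtain ⟨h5, h6⟩ := (mem_filter.1 hw).2
    refine ⟨s * (⟨a, haN⟩ * ⟨w, le_Nm V h5⟩) * s⁻¹, mem_filter.2 ⟨mem_filter.2 ⟨mem_univ _, Subtype.ext ?_⟩, ?_⟩, ?_⟩
    · exact sq_conj.2 (M.P1.A2 _ (mul_mem ha h6))
    · simp only [← hy, map_mul, map_inv, (h2 ⟨w, le_Nm V h5⟩).2 h5, mul_one]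
    · simp [← mul_assoc, M.P1.A2 a ha]

end Am

end L34

end Cfsg.Agent.EP
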