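import Cfsg.Agent.EP.L34a

/-! The amalgam of `L₃(4)`: the order of the group. -/

set_option autoImplicit false

namespace Cfsg.Agent.EP

open Subgroup Finset Cfsg.Agent.SC3

namespace L34

theorem ar1 {i j e3 e5 n3 n5 : ℕ} (hi : 2 ≤ i) (hj : 1 ≤ j) (h1 : 3 ^ i = e3 * n3 + 1) (h2 : 5 ^ j = e5 * n5 + 1)
    (h3 : 2 ∣ e3) (h4 : e3 ∣ 2 ^ 6) (h5 : 2 ∣ e5) (h6 : e5 ∣ 2 ^ 6) : 3 ^ i * 5 ^ j ≠ 123 + 64 * (n3 + n5) := fun h => by
  obtain ⟨a, ha, rfl⟩ := (Nat.dvd_prime_pow Nat.prime_two).1 h4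
  obtain ⟨b, hb, rfl⟩ := (Nat.dvd_prime_pow Nat.prime_two).1 h6
  by_cases h7 : i ≤ 3
  · generalize 5 ^ j = y at *
    interval_cases i <;> interval_cases a <;> interval_cases b <;> omega
  by_cases h8 : j ≤ 2
  · generalize 3 ^ i = y at *
    interval_cases j <;> interval_cases a <;> interval_cases b <;> omega
  obtain ⟨x, hx⟩ := Nat.exists_eq_add_of_le (Nat.pow_le_pow_right (n := 3) (by omega) (show 4 ≤ i by omega))
  obtain ⟨y, hy⟩ := Nat.exists_eq_add_of_le (Nat.pow_le_pow_right (n := 5) (by omega) (show 3 ≤ j by omega))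
  have := Nat.mul_le_mul_right n3 (Nat.le_of_dvd (by positivity) h3)
  have := Nat.mul_le_mul_right n5 (Nat.le_of_dvd (by positivity) h5)
  rw [hx, hy] at h
  ring_nf at h
  omega

theorem ar2 {i j R s : ℕ} (hi : 2 ≤ i) (hj : 1 ≤ j) (hR : 7 ≤ R) (h1 : 3 ^ i * 5 ^ j * R = 123 + 64 * s)
    (h2 : 2 * s + 3 ≤ 3 ^ i + 5 ^ j + R) : 3 ^ i = 9 ∧ s = 3 := by
  obtain ⟨r, rfl⟩ := Nat.exists_eq_add_of_le hR
  by_cases h3 : j = 1
  · subst h3
    by_cases h4 : i ≤ 4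
    · interval_cases i <;> omega
    obtain ⟨x, hx⟩ := Nat.exists_eq_add_of_le (Nat.pow_le_pow_right (n := 3) (by omega) (show 5 ≤ i by omega))
    rw [hx] at h1 h2
    ring_nf at h1 h2
    omega
  obtain ⟨x, hx⟩ := Nat.exists_eq_add_of_le (Nat.pow_le_pow_right (n := 3) (by omega) hi)
  obtain ⟨y, hy⟩ := Nat.exists_eq_add_of_le (Nat.pow_le_pow_right (n := 5) (by omega) (show 2 ≤ j by omega))
  rw [hx, hy] at h1 h2
  ring_nf at h1 h2
  omega

theorem ar3 {s : Finset ℕ} {m n : ℕ → ℕ} (h : ∀ p ∈ s, 2 * n p + 1 ≤ m p) : 2 * ∑ p ∈ s, n p + 1 ≤ ∏ p ∈ s, m p := by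
  induction s using Finset.induction_on with
  | empty => simp
  | insert a s ha ih =>
    rw [sum_insert ha, prod_insert ha]
    have := Nat.mul_le_mul (h a (mem_insert_self _ _)) (ih fun p hp => h p (mem_insert_of_mem hp))
    ring_nf at this ⊢
    omega

variable {G : Type*} [Group G]

/-- a torus and its two reflections -/
structure Dat (S V A : Subgroup G) (k n₁ n₂ : G) : Prop where
  ok : orderOf k = 3
  kS : k ∈ Nm S
  V1 : n₁ ∈ Nm V
  k1 : n₁ * k * n₁⁻¹ = k⁻¹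
  s1 : n₁ * n₁ = 1
  A2 : n₂ ∈ Nm A
  k2 : n₂ * k * n₂⁻¹ = k⁻¹
  s2 : n₂ * n₂ = 1

theorem Dat.symm {S V A : Subgroup G} {k n₁ n₂ : G} (D : Dat S V A k n₁ n₂) : Dat S A V k n₂ n₁ :=
  ⟨D.ok, D.kS, D.A2, D.k2, D.s2, D.V1, D.k1, D.s1⟩

theorem not_pe {k : G} {p : ℕ} (hp : ¬ 2 ∣ p) (h1 : p ≠ 1) (hk : orderOf k = p) : ¬ PE 2 k := fun h =>
  hp (hk ▸ h.dvd Nat.prime_two fun e => h1 (by simpa [e] using hk.symm))

namespace Am

variable [Finite G] {S V A : Subgroup G} {F : Type} [Field F] [Fintype F] (M : Am S V A F)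
include M

theorem nm_inf {g : G} (h1 : g ∈ Nm V) (h2 : g ∈ Nm A) : g ∈ Nm S :=
  let ⟨_, h3, h4, h5⟩ := M.exists_z
  M.nm_S h3 h4 h5 (Nm_conj h1 h3) (Nm_conj h2 h4)

theorem exists_dat : ∃ k n₁ n₂, Dat S V A k n₁ n₂ := by
  obtain ⟨z, hz, w, hw, e⟩ := one_lt_card.1 (show 1 < (nt (V ⊓ A)).card by rw [card_nt, M.cW]; omega)
  rw [mem_nt] at hz hw
  obtain ⟨k, hk, h1⟩ := M.P1.tr z hz.1.1 w hw.1.1 hz.2 hw.2
  have h2 := M.nm_S hz.1.1 hz.1.2 hz.2 (h1 ▸ hw.1.1) (h1 ▸ hw.1.2)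
  have h3 : ¬ Commute z k := fun h => e (by rw [← h1, ← h.eq, mul_inv_cancel_right])
  have h4 : ¬ PE 2 k := fun h => h3 (mem_C1.1 ((M.C1_eq hz.1.1 hz.1.2 hz.2).ge (M.mem_S h h2)))
  have h5 : Odd (orderOf k) := by_contra fun h => h4 (M.h.pe_two h)
  have h6 := Frob.dvd_card_of_free_conj (zpowers k) (nt (V ⊓ A)) (fun g hg s hs => mem_nt.2
    ⟨Nm_conj (zpowers_le_of_mem (Nm_inf hk (M.symm.nm_V h2)) hg) (mem_nt.1 hs).1, by simpa using (mem_nt.1 hs).2⟩)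
    fun g hg s hs e => (M.h.odd_comm (pe_of_mem M.pS (M.P1.VS (mem_nt.1 hs).1.1))
      (h5.of_dvd_nat (orderOf_dvd_of_mem_zpowers hg)) (mul_inv_eq_iff_eq_mul.1 e).symm).resolve_left (mem_nt.1 hs).2
  rw [card_nt, M.cW, Nat.card_zpowers] at h6
  obtain ⟨n₁, a1, a2, a3⟩ := M.real hk h4
  obtain ⟨n₂, b1, b2, b3⟩ := M.symm.real (M.symm.nm_V h2) h4
  exact ⟨k, n₁, n₂, ((Nat.dvd_prime Nat.prime_three).1 h6).resolve_left fun e => h3 (by simp [orderOf_eq_one_iff.1 e]),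
    h2, a1, a2, a3, b1, b2, b3⟩

theorem two_iff {z v : G} (h1 : z ∈ V) (h2 : z ∈ A) (h3 : z ≠ 1) (hv : v * v = 1) :
    PE 2 (z * v) ↔ v ∈ Nm V ∨ v ∈ Nm A := by
  have key : ∀ {V A : Subgroup G}, Am S V A F → z ∈ V → v ∈ Nm V → PE 2 (z * v) := fun M h1 h => ⟨2, by
    have := M.P1.V2 _ (mul_mem h1 (Nm_conj h h1))
    rw [inv_eq_of_mul_eq_one_right hv] at this
    rw [← this, show 2 ^ 2 = 0 + 1 + 1 + 1 + 1 from rfl]
    simp only [pow_succ, pow_zero, one_mul, mul_assoc]⟩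
  refine ⟨fun h => ?_, fun h => h.elim (key M h1) (key M.symm h2)⟩
  obtain ⟨g, hg⟩ := exists_cj_le M.cS (dihedral_pe (M.P1.V2 z h1) hv h) M.nd
  have h4 := hg (conj_mem_cj.2 (subset_closure (show v ∈ ({z, v} : Set G) by simp)))
  refine (M.inv_S (hg (conj_mem_cj.2 (subset_closure (show z ∈ ({z, v} : Set G) by simp))))
    (sq_conj.2 (M.P1.V2 z h1))).imp (fun h5 => ?_) fun h5 => ?_
  · have := M.uniq h1 h3 h5
    exact (mul_mem_cancel_left this).1 ((mul_mem_cancel_right (inv_mem this)).1 (M.S_le h4))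
  · have := M.symm.uniq h2 h3 h5
    exact (mul_mem_cancel_left this).1 ((mul_mem_cancel_right (inv_mem this)).1 (M.symm.S_le h4))

/-- the number of involutions -/
theorem card_G : Nat.card G = 2 ^ 6 * (123 + 64 * ∑ p ∈ RP G, nn G p) := by
  classical
  have := Fintype.ofFinite G
  obtain ⟨z, h1, h2, h3⟩ := M.exists_z
  have hz : I2 z := ⟨M.P1.V2 z h1, h3⟩
  have c1 := Frob.card_orbit_conj ⊤ z (univ.filter I2) fun s => by
    simp only [mem_filter, mem_univ, true_and, mem_top]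
    exact ⟨M.conj_all h1 h2 h3, fun ⟨g, e⟩ => e ▸ hz.conj g⟩
  rw [card_top, top_inf_eq, show centralizer {z} = S from M.C1_eq h1 h2 h3, M.cS] at c1
  have c2 := M.h.pairs
  rw [Nat.card_eq_fintype_card, Fintype.card_subtype, Frob.card_fiber_mul _ (univ.filter I2) Prod.fst
    (univ.filter fun v => I2 v ∧ ¬ PE 2 (z * v)).card (fun x hx => by simpa using (mem_filter.1 hx).2.1)
    fun u hu => ?_] at c2
  · have c3 := card_union_add_card_inter (univ.filter fun g : G => g ∈ Nm V ∧ g * g = 1)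
      (univ.filter fun g : G => g ∈ Nm A ∧ g * g = 1)
    have c4 := card_union_add_card_inter (univ.filter fun g : G => g ∈ V) (univ.filter fun g : G => g ∈ A)
    have c5 := M.card_X
    have c6 := M.symm.card_X
    rw [Nat.card_eq_fintype_card, Fintype.card_subtype] at c5 c6
    rw [Frob.card_sub, Frob.card_sub, Frob.card_sub' (V ⊓ A) (_ ∩ _) (by simp), M.cV, M.symm.cV, M.cW] at c4
    rw [c5, c6, show (univ.filter fun g : G => g ∈ Nm V ∧ g * g = 1) ∩ (univ.filter fun g : G => g ∈ Nm A ∧ g * g = 1) =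
      (univ.filter fun g : G => g ∈ V) ∪ (univ.filter fun g : G => g ∈ A) by
        ext g
        simp only [mem_inter, mem_union, mem_filter, mem_univ, true_and]
        exact ⟨fun h => M.inv_S (M.mem_S ⟨1, by simpa [sq] using h.1.2⟩ (M.nm_inf h.1.1 h.2.1)) h.1.2, fun h => h.elim
          (fun h => ⟨⟨le_Nm V h, M.P1.V2 g h⟩, M.symm.S_le (M.P1.VS h), M.P1.V2 g h⟩)
          fun h => ⟨⟨M.S_le (M.P1.AS h), M.P1.A2 g h⟩, le_Nm A h, M.P1.A2 g h⟩⟩,
      show (univ.filter fun g : G => g ∈ Nm V ∧ g * g = 1) ∪ (univ.filter fun g : G => g ∈ Nm A ∧ g * g = 1) =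
        insert 1 ((univ.filter I2).filter fun v => PE 2 (z * v)) by
        ext g
        simp only [mem_insert, mem_union, mem_filter, mem_univ, true_and, ← or_and_right, I2]
        refine ⟨fun h => or_iff_not_imp_left.2 fun e => ⟨⟨h.2, e⟩, (M.two_iff h1 h2 h3 h.2).2 h.1⟩, ?_⟩
        rintro (rfl | h)
        exacts [⟨Or.inl (one_mem _), mul_one 1⟩, ⟨(M.two_iff h1 h2 h3 h.1.1).1 h.2, h.1.1⟩],
      card_insert_of_notMem (by simp [I2])] at c3
    have c7 := card_filter_add_card_filter_not (s := univ.filter I2) (fun v => PE 2 (z * v))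
    rw [filter_filter _ (fun v => ¬ PE 2 (z * v))] at c7
    rw [c1, mul_assoc] at c2
    have := Nat.eq_of_mul_eq_mul_left (card_pos.2 ⟨z, by simpa using hz⟩) c2
    omega
  · obtain ⟨g, rfl⟩ := M.conj_all h1 h2 h3 (mem_filter.1 hu).2
    refine (card_bij (fun v _ => (g * z * g⁻¹, g * v * g⁻¹)) (fun v hv => ?_) (fun v _ w _ e => by simpa using e)
      fun x hx => ?_).symm
    · obtain ⟨h4, h5⟩ := (mem_filter.1 hv).2
      simp only [mem_filter, mem_univ, true_and, and_true, conj_mul, orderOf_conj]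
      exact ⟨hz.conj g, h4.conj g, by_contra fun e => h5 (M.h.pe_two e), fun e => h5 ⟨0, by simpa using e⟩⟩
    · simp only [mem_filter, mem_univ, true_and] at hx
      obtain ⟨⟨-, h4, h5, h6⟩, h7⟩ := hx
      refine ⟨g⁻¹ * x.2 * g, mem_filter.2 ⟨mem_univ _, by simpa using h4.conj g⁻¹, fun e => h6 (PE.eq_one ?_ h5)⟩,
        Prod.ext h7.symm (by simp [mul_assoc])⟩
      simpa [h7, mul_assoc] using e.conj g

variable {k n₁ n₂ : G} (D : Dat S V A k n₁ n₂)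
include D

theorem n1_S : n₁ ∉ Nm S := fun h => by
  have h1 := M.mem_S ⟨1, by simpa [sq] using D.s1⟩ h
  have h2 := mul_mem h1 (Nm_conj D.kS (inv_mem h1))
  rw [← mul_assoc, ← mul_assoc, D.k1, ← mul_inv_rev, sq3 D.ok, inv_inv] at h2
  exact not_pe (by decide) (by decide) D.ok (pe_of_mem M.pS h2)

omit M in
theorem rl_k : Rl k := ⟨by rw [D.ok]; decide, ne_one_of_ord D.ok, n₁, D.s1, by
  rw [← D.k1, inv_eq_of_mul_eq_one_right D.s1]⟩

omit M in
theorem comm_k : Commute k (n₁ * n₂) := by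
  have : n₁ * n₂ * k * (n₁ * n₂)⁻¹ = k := by
    rw [show n₁ * n₂ * k * (n₁ * n₂)⁻¹ = n₁ * (n₂ * k * n₂⁻¹) * n₁⁻¹ by group, D.k2, ← conj_inv, D.k1, inv_inv]
  exact (mul_inv_eq_iff_eq_mul.1 this).symm

theorem order : Nat.card G = 20160 ∧ (n₁ * n₂) ^ 3 = 1 := by
  have hk := rl_k D
  have r3 : 3 ∈ RP G := mem_RP.2 ⟨Nat.prime_three, k, hk, D.ok.symm.dvd⟩
  have r5 : 5 ∈ RP G := by
    obtain ⟨f, hf, h1⟩ := exists_ord (U := Nm V) Nat.prime_five (by rw [M.cN]; decide)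
    obtain ⟨n, -, h2, h3⟩ := M.real hf (not_pe (by decide) (by decide) h1)
    exact mem_RP.2 ⟨Nat.prime_five, f, ⟨by rw [h1]; decide, fun e => by simp [e] at h1, n, h3, by
      rw [← h2, inv_eq_of_mul_eq_one_right h3]⟩, h1.symm.dvd⟩
  have c3 := M.h.card_C1 Nat.prime_three hk D.ok.symm.dvd
  have hi : 2 ≤ (Nat.card G).factorization 3 := by
    have h1 : zpowers k < C1 k := lt_of_le_of_ne (zpowers_le_of_mem (mem_C1.2 rfl)) fun e => M.n1_S D
      (M.nm_inf D.V1 ((mul_mem_cancel_right D.A2).1 (zpowers_le_of_mem (M.symm.nm_V D.kS) (e.ge (mem_C1.2 (comm_k D))))))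
    have h2 := lt_of_not_ge fun e => h1.ne (eq_of_le_of_card_ge h1.le e)
    rw [c3, Nat.card_zpowers, D.ok] at h2
    exact (Nat.pow_lt_pow_iff_right (a := 3) (n := 1) (by omega)).1 h2
  have hj : 1 ≤ (Nat.card G).factorization 5 := Nat.pos_of_ne_zero fun e => by simpa [mm, e] using EPPO.dvd_mm r5
  have hG := M.card_G
  have ee1 : ∀ p ∈ RP G, 2 ∣ ee G p ∧ ee G p ∣ 2 ^ 6 := fun p hp => by
    obtain ⟨j, h1⟩ := M.h.ee_pow hp
    obtain ⟨c, h2⟩ := M.h.index_mod hp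
    refine ⟨h1 ▸ dvd_pow_self 2 j.succ_ne_zero, Nat.Coprime.dvd_of_dvd_mul_right ?_ (hG ▸ h2 ▸ (dvd_mul_left _ _).mul_left _)⟩
    rw [h1]
    exact (Nat.coprime_two_left.2 (Nat.odd_iff.2 (by omega))).pow_left _
  have r5' : 5 ∈ (RP G).erase 3 := mem_erase.2 ⟨by decide, r5⟩
  have h1 := prod_mm_dvd (G := G) (s := RP G) fun p hp => (mem_RP.1 hp).1
  have h2 : ∏ p ∈ RP G, mm G p ∣ 123 + 64 * ∑ p ∈ RP G, nn G p := by
    refine Nat.Coprime.dvd_of_dvd_mul_left (Nat.Coprime.prod_left fun p hp => ?_) (hG ▸ h1)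
    exact Nat.Coprime.pow _ _ (Nat.coprime_two_right.2 (odd_of_RP hp))
  obtain ⟨r, hr⟩ := h2
  have h3 := ar3 (s := ((RP G).erase 3).erase 5) (m := mm G) (n := nn G) fun p hp => by
    have hp' := mem_of_mem_erase (mem_of_mem_erase hp)
    rw [M.h.mm_eq hp']
    exact Nat.succ_le_succ (Nat.mul_le_mul_right _ (Nat.le_of_dvd (Nat.pos_of_dvd_of_pos (ee1 p hp').2 (by decide))
      (ee1 p hp').1))
  rw [← mul_prod_erase _ _ r3, ← mul_prod_erase _ _ r5', mul_assoc, mul_assoc] at hr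
  rw [← add_sum_erase _ _ r3, ← add_sum_erase _ _ r5'] at hr hG
  generalize ∏ p ∈ ((RP G).erase 3).erase 5, mm G p = P at hr h3
  generalize ∑ p ∈ ((RP G).erase 3).erase 5, nn G p = s at hr h3 hG
  have m3 := M.h.mm_eq r3
  have m5 := M.h.mm_eq r5
  have p5 := M.h.nn_pos r5
  have hr0 : P ≤ P * r := Nat.le_mul_of_pos_right _ (Nat.pos_of_ne_zero fun e => by simp [e] at hr)
  have d3 : ¬ 3 ∣ P * r := fun e => Nat.pow_succ_factorization_not_dvd (Nat.card_pos (α := G)).ne' Nat.prime_three (by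
    nth_rw 2 [hG]
    rw [hr, pow_succ]
    exact (Nat.mul_dvd_mul_left _ (e.mul_left _)).mul_left _)
  have d5 : ¬ 5 ∣ P * r := fun e => Nat.pow_succ_factorization_not_dvd (Nat.card_pos (α := G)).ne' Nat.prime_five (by
    nth_rw 2 [hG]
    rw [hr, pow_succ]
    exact ((Nat.mul_dvd_mul_left _ e).mul_left _).mul_left _)
  have d2 : ¬ 2 ∣ P * r := fun e => by
    have := (e.mul_left (mm G 5)).mul_left (mm G 3)
    omega
  have e3 := Nat.mul_le_mul_right (nn G 3) (Nat.le_of_dvd (Nat.pos_of_dvd_of_pos (ee1 3 r3).2 (by decide)) (ee1 3 r3).1)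
  have e5 := Nat.mul_le_mul_right (nn G 5) (Nat.le_of_dvd (Nat.pos_of_dvd_of_pos (ee1 5 r5).2 (by decide)) (ee1 5 r5).1)
  obtain ⟨h4, h5⟩ := ar2 (R := P * r) (s := nn G 3 + (nn G 5 + s)) hi hj (by
    by_contra h
    refine ar1 hi hj m3 m5 (ee1 3 r3).1 (ee1 3 r3).2 (ee1 5 r5).1 (ee1 5 r5).2 ?_
    have h' : P * r = 1 := by
      generalize P * r = R at h d2 d3 d5
      replace h := not_le.1 h
      interval_cases R <;> simp_all
    rw [h', mul_one, show s = 0 by omega, add_zero] at hr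
    exact hr.symm) (by rw [hr, mul_assoc]; rfl) (by change _ ≤ mm G 3 + mm G 5 + _; omega)
  refine ⟨by rw [hG, h5]; rfl, by_contra fun h6 => ?_⟩
  replace h4 : mm G 3 = 9 := h4
  have hy := mem_C1.2 (comm_k D)
  have h7 : orderOf (n₁ * n₂) = 3 ^ (1 + 1) := orderOf_eq_prime_pow h6 (by
    have := pow_card_eq_one' (x := (⟨_, hy⟩ : C1 k))
    rw [c3, h4] at this
    exact congrArg Subtype.val this)
  have h8 : zpowers (n₁ * n₂) = C1 k := eq_of_le_of_card_ge (zpowers_le_of_mem hy) (by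
    rw [c3, h4, Nat.card_zpowers, h7]; rfl)
  obtain ⟨E, a1, a2, a3, -⟩ := M.h.exists_E Nat.prime_three hk D.ok.symm.dvd
  have h9 := M.h.dvd_pred hk a2 (X := zpowers ((n₁ * n₂) ^ 3)) (zpowers_le_of_mem (pow_mem hy 3)) fun g hg =>
    mem_Nm fun x hx => by
      obtain ⟨a, rfl⟩ := hx
      obtain ⟨b, hb⟩ := h8.ge (Nm_conj (a1 hg) hy)
      simp only at hb
      exact ⟨b * a, by simp only [← conj_zpow, ← conj_pow, ← hb, ← zpow_natCast, ← zpow_mul]; congr 1; ring⟩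
  rw [a3, Nat.card_zpowers, orderOf_pow, h7] at h9
  have := Nat.mul_le_mul_right (nn G 3) (Nat.le_of_dvd (by decide) h9)
  norm_num at this
  omega

end Am

end L34

end Cfsg.Agent.EP
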