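import Cfsg.Agent.EP.Mod3
import Cfsg.Agent.Frob.Thompson

/-! Two-local subgroups: the setting. -/

set_option autoImplicit false

namespace Cfsg.Agent.EP

open Subgroup Finset Cfsg.Agent.SC3
open scoped IsMulCommutative

variable {G : Type*} [Group G]

/-- the automizer -/
abbrev XX (V : Subgroup G) : Subgroup (MulAut V) := V.normalizerMonoidHom.range

/-- the projection to the automizer -/
def pj (V : Subgroup G) : Nm V →* XX V := V.normalizerMonoidHom.rangeRestrict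

theorem pj_surj (V : Subgroup G) : Function.Surjective (pj V) := MonoidHom.rangeRestrict_surjective _

theorem pj_smul {V : Subgroup G} (g : Nm V) (v : V) : ((pj V g • v : V) : G) = g * v * (g : G)⁻¹ := rfl

theorem pj_fix {V : Subgroup G} {g : Nm V} {v : V} : pj V g • v = v ↔ Commute (g : G) v := by
  rw [Subtype.ext_iff, pj_smul, mul_inv_eq_iff_eq_mul]; rfl

theorem pj_eq_one {V : Subgroup G} {g : Nm V} : pj V g = 1 ↔ (g : G) ∈ Ce V := by
  rw [← MonoidHom.mem_ker, pj, MonoidHom.ker_rangeRestrict, normalizerMonoidHom_ker, mem_subgroupOf]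

theorem comm_of_sq {V : Subgroup G} (h : ∀ v ∈ V, v * v = 1) {x y : G} (hx : x ∈ V) (hy : y ∈ V) : Commute x y := by
  have := h _ (mul_mem hx hy)
  rw [mul_eq_one_iff_eq_inv, mul_inv_rev, inv_eq_of_mul_eq_one_right (h x hx), inv_eq_of_mul_eq_one_right (h y hy)] at this
  exact this

theorem PE.map {G' : Type*} [Group G'] {p : ℕ} {x : G} (h : PE p x) (f : G →* G') : PE p (f x) :=
  let ⟨n, hn⟩ := h; ⟨n, by rw [← map_pow, hn, map_one]⟩

theorem pe_coe {p : ℕ} {H : Subgroup G} {x : H} : PE p (x : G) ↔ PE p x :=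
  exists_congr fun _ => by rw [← Subgroup.coe_pow, OneMemClass.coe_eq_one]

variable [Finite G]

theorem EPPO.pC (h : EPPO G) {V : Subgroup G} (hV : IsPGroup 2 V) (h0 : V ≠ ⊥) : IsPGroup 2 (Ce V) :=
  let ⟨v, hv⟩ := ne_bot_iff_exists_ne_one.1 h0
  isP_of_pe fun _ hx => h.pe_comm Nat.prime_two (pe_of_mem hV v.2) (fun e => hv (Subtype.ext e)) (mem_Ce.1 hx v v.2).symm

theorem md_of (h : EPPO G) {V : Subgroup G} [IsMulCommutative V] (h2 : ∀ v ∈ V, v * v = 1) (h0 : V ≠ ⊥)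
    (nO : ∀ Y : Subgroup G, IsPGroup 2 Y → Y ≤ Nm V → Nm V ≤ Nm Y → Y ≤ Ce V) : Md (XX V) V where
  h := (h.sub _).of_surj _ (pj_surj V)
  two v := Subtype.ext (h2 v v.2)
  faith x hx := Subtype.ext (MulEquiv.ext hx)
  fp x v h1 hx := by
    obtain ⟨g, rfl⟩ := pj_surj V x
    exact (pe_coe.1 (h.pe_comm Nat.prime_two ⟨1, by simpa [sq] using h2 v v.2⟩ (fun e => h1 (Subtype.ext e))
      (pj_fix.1 hx).symm)).map _
  nO N hN hp := by
    have h1 : IsPGroup 2 (pj V).ker := isP_of_pe fun x hx => pe_coe.1 (pe_of_mem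
      (h.pC (isP_of_pe fun v hv => ⟨1, by simpa [sq] using h2 v hv⟩) h0) (pj_eq_one.1 hx))
    have h3 := nO _ ((hp.comap_of_ker_isPGroup _ h1).map (Nm V).subtype) (map_subtype_le _) fun g hg =>
      mem_Nm (by
        rintro _ ⟨x, hx, rfl⟩
        exact ⟨_, (hN.comap (pj V)).conj_mem x hx ⟨g, hg⟩, rfl⟩)
    refine eq_bot_iff.2 fun x hx => ?_
    obtain ⟨g, rfl⟩ := pj_surj V x
    exact pj_eq_one.2 (h3 ⟨g, hx, rfl⟩)

/-- lifting of an inverting element -/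
theorem EPPO.lift (h : EPPO G) {D : Subgroup G} (hD : IsPGroup 2 D) {s k : G} (hk : k ∈ Nm D) (ho : ¬ PE 2 k)
    (e : s * k * s⁻¹ * k ∈ D) : ∃ d ∈ D, d * s * k * (d * s)⁻¹ = k⁻¹ ∧ d * s * (d * s) = 1 := by
  have h1 : k ≠ 1 := fun e => ho ⟨0, by simp [e]⟩
  have h2 : Odd (orderOf k) := by_contra fun e => ho (h.pe_two e)
  let f : D → D := fun d => ⟨d⁻¹ * (k⁻¹ * d * k), mul_mem (inv_mem d.2) (Nm_conj' hk d.2)⟩
  obtain ⟨d, hd⟩ := Finite.surjective_of_injective (f := f) (fun x y e => by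
    have e1 : (x : G)⁻¹ * (k⁻¹ * x * k) = (y : G)⁻¹ * (k⁻¹ * y * k) := congrArg Subtype.val e
    have : Commute ((y : G) * (x : G)⁻¹) k := by
      refine ((Commute.inv_right_iff (a := (y : G) * (x : G)⁻¹) (b := k)).1 ?_)
      change _ * k⁻¹ = k⁻¹ * _
      calc (y : G) * (x : G)⁻¹ * k⁻¹ = y * ((x : G)⁻¹ * (k⁻¹ * x * k)) * k⁻¹ * (x : G)⁻¹ := by group
        _ = _ := by rw [e1]; group
    exact Subtype.ext (mul_inv_eq_one.1 ((h.odd_comm (pe_of_mem hD (mul_mem y.2 (inv_mem x.2))) h2 this).resolve_right h1)).symm)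
    ⟨_, e⟩
  have h3 : d * s * k * (d * s)⁻¹ = k⁻¹ := by
    have e1 : (d : G)⁻¹ * (k⁻¹ * d * k) = s * k * s⁻¹ * k := congrArg Subtype.val hd
    calc _ = d * (s * k * s⁻¹ * k) * k⁻¹ * (d : G)⁻¹ := by group
      _ = _ := by rw [← e1]; group
  exact ⟨d, d.2, h3, h.inv_sq h2 h1 h3⟩

/-- the local hypotheses -/
structure Loc (V T A : Subgroup G) : Prop where
  h : EPPO G
  syl : Frob.IsSyl 2 (Nm V) T
  zs : ZZ (Ce V) = V
  ne : V ≠ ⊥
  nO : ∀ Y : Subgroup G, IsPGroup 2 Y → Y ≤ Nm V → Nm V ≤ Nm Y → Y ≤ Ce V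
  mx : Frob.MaxEA 2 T A
  nle : ¬ A ≤ Ce V

end Cfsg.Agent.EP
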