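import Cfsg.Agent.EP.Loc

/-! Two-local subgroups: the action on the module. -/

set_option autoImplicit false

namespace Cfsg.Agent.EP

open Subgroup Finset Cfsg.Agent.SC3
open scoped IsMulCommutative commutatorElement

variable {G : Type*} [Group G]

theorem ea_of {P B : Subgroup G} (h : B ≤ P) (h2 : ∀ x ∈ B, x * x = 1) : Frob.EA 2 P B :=
  ⟨h, fun x hx => by rw [sq, h2 x hx], fun _ hx _ hy => comm_of_sq h2 hx hy⟩

theorem pj_dl {V : Subgroup G} [IsMulCommutative V] (g : Nm V) (v : V) : ((dl (pj V g) v : V) : G) = ⁅(g : G), (v : G)⁆ := rfl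

theorem Ce_le_Nm (V : Subgroup G) : Ce V ≤ Nm V := centralizer_le_normalizer _

variable [Finite G]

theorem sq_sup {B C : Subgroup G} (hB : ∀ x ∈ B, x * x = 1) (hC : ∀ x ∈ C, x * x = 1)
    (h : ∀ x ∈ B, ∀ y ∈ C, Commute x y) : ∀ x ∈ B ⊔ C, x * x = 1 := fun x hx => by
  obtain ⟨u, hu, v, hv, rfl⟩ := mem_sup_Nm (le_trans (fun y hy => mem_Ce.2 fun x hx => (h x hx y hy).symm) (Ce_le_Nm B)) hx
  rw [← (h u hu v hv).mul_mul_mul_comm, hB u hu, hC v hv, mul_one]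

theorem syl_mem {Y T : Subgroup G} (h : Frob.IsSyl 2 Y T) {g : G} (h1 : g ∈ Y) (h2 : g ∈ Nm T) (h3 : PE 2 g) : g ∈ T :=
  let ⟨_, hn⟩ := h3
  h.2.2 (T ⊔ zpowers g) le_sup_left (sup_le h.1 (zpowers_le_of_mem h1))
    (h.2.1.to_sup_of_normal_left' (isP_zpowers Nat.prime_two hn) (zpowers_le_of_mem h2)) (mem_sup_right (mem_zpowers g))

namespace Loc

variable {V T A : Subgroup G} (L : Loc V T A)
include L

theorem V2 : ∀ v ∈ V, v * v = 1 := fun _ hv => ZZ_sq (L.zs.ge hv)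

omit [Finite G] in
theorem VD : V ≤ Ce V := L.zs.ge.trans (Frob.Zs_le _)

theorem comm : IsMulCommutative V := ⟨⟨fun x y => Subtype.ext (comm_of_sq L.V2 x.2 y.2)⟩⟩

theorem pV : IsPGroup 2 V := isP_of_pe fun v hv => ⟨1, by simpa [sq] using L.V2 v hv⟩

theorem pD : IsPGroup 2 (Ce V) := L.h.pC L.pV L.ne

omit [Finite G] in
theorem TH : T ≤ Nm V := L.syl.1

theorem DT : Ce V ≤ T := L.syl.normal_le L.pD (Ce_le_Nm V) (L.TH.trans (Nm_le_Nm_Ce V))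

theorem VT : V ≤ T := L.VD.trans L.DT

omit [Finite G] in
theorem AT : A ≤ T := L.mx.1.1

omit [Finite G] in
theorem A2 : ∀ a ∈ A, a * a = 1 := fun a ha => by rw [← sq, L.mx.1.2.1 a ha]

omit [Finite G] in
theorem card_le {B : Subgroup G} (h : B ≤ T) (h2 : ∀ x ∈ B, x * x = 1) : Nat.card B ≤ Nat.card A :=
  L.mx.2 B (ea_of h h2)

theorem md [IsMulCommutative V] : Md (XX V) V := md_of L.h L.V2 L.ne L.nO

theorem main [IsMulCommutative V] : ∃ a : XX V, Tv V a ∧ (∀ v : V, v ∈ Wa V a ↔ (v : G) ∈ A) ∧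
    (∀ u ∈ UU V a, ∃ b : Nm V, (b : G) ∈ A ∧ pj V b = u) ∧ (∀ g : Nm V, pj V g ∈ UU V a ↔ (g : G) ∈ T) ∧
    Nat.card (Wa V a) = Nat.card (V ⊓ A : Subgroup G) ∧
    Nat.card A = Nat.card (V ⊓ A : Subgroup G) * Nat.card (A ⊓ Ce V : Subgroup G) := by
  have M := L.md
  have hA := L.AT.trans L.TH
  set B := (A.subgroupOf (Nm V)).map (pj V) with hB
  have h1 : Nat.card A = Nat.card B * Nat.card (A ⊓ Ce V : Subgroup G) := by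
    rw [← card_subgroupOf hA, Frob.card_eq_map_mul (pj V), ← card_subgroupOf (U := A ⊓ Ce V) (inf_le_left.trans hA)]
    congr 3
    ext x
    simp only [Subgroup.mem_inf, mem_subgroupOf, MonoidHom.mem_ker, pj_eq_one]
  have h2 : Nat.card V ≤ Nat.card B * Nat.card (V ⊓ A : Subgroup G) := by
    have h3 := (Frob.card_mul_le_sup (A ⊓ Ce V) V).trans (Nat.mul_le_mul_right _ (L.card_le
      (sup_le (inf_le_left.trans L.AT) L.VT) (sq_sup (fun x hx => L.A2 x hx.1) L.V2 fun x hx => mem_Ce.1 hx.2)))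
    rw [h1, inf_assoc, inf_eq_right.2 L.VD, inf_comm A V, mul_right_comm, mul_comm] at h3
    exact Nat.le_of_mul_le_mul_right h3 (card_pos' _)
  have hc : ∀ a ∈ B, ∀ b ∈ B, Commute a b := by
    rintro _ ⟨a, ha, rfl⟩ _ ⟨b, hb, rfl⟩
    exact Commute.map (Subtype.ext (comm_of_sq L.A2 ha hb).eq : a * b = b * a) _
  have h3 : (V ⊓ A).subgroupOf V ≤ Fx V B := by
    rintro v hv _ ⟨a, ha, rfl⟩
    exact pj_fix.2 (comm_of_sq L.A2 ha hv.2)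
  rw [← card_subgroupOf (inf_le_left : V ⊓ A ≤ V)] at h2 ⊢
  obtain ⟨a, ha, h4⟩ := M.exists_tv (A := B) (fun e => L.nle fun x hx =>
    (pj_eq_one (g := ⟨x, hA hx⟩)).1 (e.le ⟨_, hx, rfl⟩)) hc (h2.trans (Nat.mul_le_mul_left _ (card_le_of_le h3)))
  have h5 : B ≤ UU V a := fun b hb => M.cen h4 (hc a ha b hb)
  have h6 : (V ⊓ A).subgroupOf V ≤ Wa V a := fun v hv => h3 hv a ha
  have h7 := card_le_of_le h5
  have h8 := card_le_of_le h6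
  have h9 := card_pos' (Wa V a)
  rw [(M.card_Wa h4.1).1] at h2
  rw [M.card_U h4] at h7
  have h10 := eq_of_card_le h5 (by rw [M.card_U h4]; nlinarith)
  have h11 := eq_of_card_le h6 (by nlinarith)
  refine ⟨a, h4, fun v => by rw [← h11]; exact ⟨fun h => h.2, fun h => ⟨v.2, h⟩⟩, fun u hu => h10.ge hu,
    fun g => ⟨fun h => ?_, fun h => ?_⟩, by rw [h11], by rw [h1, h10, h11, M.card_U h4]⟩
  · obtain ⟨b, h1, h2⟩ := h10.ge h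
    have := L.DT ((pj_eq_one (g := b⁻¹ * g)).1 (by rw [map_mul, map_inv, h2, inv_mul_cancel]))
    exact (mul_mem_cancel_left (inv_mem (L.AT h1))).1 this
  · obtain ⟨b, h1, rfl⟩ := ha
    obtain ⟨z, h2, h3⟩ := exists_i2 ((L.syl.2.1.comap_subtype (K := Nm V)).map (pj V)) fun e =>
      h4.1.2 (e.le ⟨b, L.AT h1, rfl⟩)
    have h12 := M.cen (M.tv h4 h3) (mem_Ce.1 h2.2 _ ⟨g, h, rfl⟩)
    rwa [UU, M.Wa_eq h4.1 (M.cen h4 (mem_Ce.1 h2.2 _ ⟨b, L.AT h1, rfl⟩).symm) h3.2] at h12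

theorem cV : Nat.card V = Nat.card (V ⊓ A : Subgroup G) ^ 2 := by
  have := L.comm
  obtain ⟨a, h1, -, -, -, h2, -⟩ := L.main
  rw [← h2, (L.md.card_Wa h1.1).1]

theorem two_le : 2 ≤ Nat.card (V ⊓ A : Subgroup G) := by
  have := L.comm
  obtain ⟨a, h1, -, -, -, h2, -⟩ := L.main
  exact h2 ▸ L.md.two_le h1.1

theorem cA' : Nat.card A = Nat.card (V ⊓ A : Subgroup G) * Nat.card (A ⊓ Ce V : Subgroup G) := by
  have := L.comm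
  obtain ⟨a, -, -, -, -, -, h⟩ := L.main
  exact h

theorem cenW {t w : G} (ht : t ∈ T) (hw : w ∈ V ⊓ A) : Commute t w := by
  have := L.comm
  obtain ⟨a, -, h1, -, h2, -⟩ := L.main
  exact pj_fix.1 ((h2 ⟨t, L.TH ht⟩).2 ht ⟨w, hw.1⟩ ((h1 _).2 hw.2))

theorem fix {t v : G} (ht : t ∈ T) (h : t ∉ Ce V) (hv : v ∈ V) (hc : Commute t v) : v ∈ A := by
  have := L.comm
  obtain ⟨a, h0, h1, -, h2, -⟩ := L.main
  exact (h1 ⟨v, hv⟩).1 ((L.md.Wa_eq h0.1 ((h2 ⟨t, L.TH ht⟩).2 ht) fun e => h (pj_eq_one.1 e)).le (pj_fix.2 hc))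

theorem dec {t : G} (ht : t ∈ T) : ∃ a ∈ A, ∃ d ∈ Ce V, t = a * d := by
  have := L.comm
  obtain ⟨a, -, -, h1, h2, -⟩ := L.main
  obtain ⟨b, h3, h4⟩ := h1 _ ((h2 ⟨t, L.TH ht⟩).2 ht)
  exact ⟨b, h3, _, (pj_eq_one (g := b⁻¹ * ⟨t, L.TH ht⟩)).1 (by rw [map_mul, map_inv, h4, inv_mul_cancel]), by simp⟩

theorem sq_mem {t : G} (ht : t ∈ T) : t * t ∈ Ce V := by
  have := L.comm
  obtain ⟨a, h0, -, -, h2, -⟩ := L.main
  exact (pj_eq_one (g := ⟨t, L.TH ht⟩ * ⟨t, L.TH ht⟩)).1 (by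
    rw [map_mul, L.md.U_sq h0.1 ((h2 ⟨t, L.TH ht⟩).2 ht)])

theorem tr {v w : G} (hv : v ∈ V) (hw : w ∈ V) (h1 : v ≠ 1) (h2 : w ≠ 1) : ∃ g ∈ Nm V, g * v * g⁻¹ = w := by
  have := L.comm
  obtain ⟨a, h0, -⟩ := L.main
  obtain ⟨g, hg⟩ := L.md.trans h0 (v := ⟨v, hv⟩) (v' := ⟨w, hw⟩) (fun e => h1 (congrArg Subtype.val e))
    fun e => h2 (congrArg Subtype.val e)
  obtain ⟨g, rfl⟩ := pj_surj V g
  exact ⟨g, g.2, congrArg Subtype.val hg⟩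

theorem cH : Nat.card (Nm V) = (Nat.card (V ⊓ A : Subgroup G) ^ 2 - 1) * Nat.card (V ⊓ A : Subgroup G) * Nat.card (Ce V) := by
  have := L.comm
  obtain ⟨a, h0, -, -, -, h1, -⟩ := L.main
  rw [← h1, ← L.md.card_X h0, ← (pj V).ker.index_mul_card, index_ker, MonoidHom.range_eq_top.2 (pj_surj V), card_top,
    ← card_subgroupOf (Ce_le_Nm V)]
  congr 3
  ext x
  exact pj_eq_one

theorem cT : Nat.card T = Nat.card (V ⊓ A : Subgroup G) * Nat.card (Ce V) := by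
  have := L.comm
  obtain ⟨a, h0, -, -, h2, h1, -⟩ := L.main
  rw [← h1, ← L.md.card_U h0, ← card_subgroupOf L.TH, Frob.card_eq_map_mul (pj V), ← card_subgroupOf (Ce_le_Nm V)]
  congr 3
  · ext x
    obtain ⟨x, rfl⟩ := pj_surj V x
    exact ⟨by rintro ⟨y, h3, h4⟩; exact h4 ▸ (h2 y).2 h3, fun h => ⟨x, (h2 x).1 h, rfl⟩⟩
  · ext x
    exact ⟨fun h => pj_eq_one.1 h.2, fun h => ⟨L.DT h, pj_eq_one.2 h⟩⟩

theorem three {b : G} (hb : b ∈ T) (h : b ∉ Ce V) :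
    ∃ g ∈ Nm V, Cx (b * (g * b * g⁻¹)) ∧ Iv (b * (g * b * g⁻¹)) (Ce V) := by
  have := L.comm
  obtain ⟨a, h0, -, -, h2, -⟩ := L.main
  have M := L.md
  have h3 : I2 (pj V ⟨b, L.TH hb⟩) := ⟨M.U_sq h0.1 ((h2 ⟨b, L.TH hb⟩).2 hb), fun e => h (pj_eq_one.1 e)⟩
  obtain ⟨c, h4, h5, h6⟩ := M.exists_three (M.tv h0 h3)
  obtain ⟨g, hg, e⟩ := exists_swap h3.1 h4.1 (Odd.of_dvd_nat (by decide : Odd 3) (orderOf_dvd_of_pow_eq_one h6))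
  obtain ⟨g, rfl⟩ := pj_surj V g
  obtain rfl : pj V (g * ⟨b, L.TH hb⟩ * g⁻¹) = c := by
    rw [map_mul, map_mul, map_inv, inv_eq_of_mul_eq_one_right hg, e]
  rw [← map_mul, ← map_pow, pj_eq_one] at h6
  have h7 : b * (g * b * g⁻¹) ∉ Ce V := fun e => by
    obtain ⟨w, w1, w2⟩ := M.exists_w h3
    have := (pj_eq_one (g := ⟨b, L.TH hb⟩ * (g * ⟨b, L.TH hb⟩ * g⁻¹))).2 e
    rw [map_mul, mul_eq_one_iff_inv_eq, h3.inv] at this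
    exact w2 (h5 w w1 (this ▸ w1))
  have h8 : (b * (g * b * g⁻¹)) ^ 3 = 1 := by_contra fun e => by
    obtain ⟨n, hn⟩ := (L.h.pe_comm Nat.prime_two (pe_of_mem L.pD h6) e ((Commute.refl _).pow_left 3)).ord Nat.prime_two
    exact h7 (mem_of_pow_mem (n := 3) (hn ▸ Nat.Coprime.pow_left _ (by decide)) h6)
  obtain ⟨n, hn⟩ := L.pD.exists_card_eq
  exact ⟨g, g.2, ⟨fun x y hx hc h3 => by_contra fun e => h3 ((L.h.pe_comm Nat.prime_three ⟨1, by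
    rw [pow_one, ← hx, pow_orderOf_eq_one]⟩ (fun e => by simp [e] at hx) hc).dvd Nat.prime_three e),
    orderOf_eq_prime h8 fun e => h7 (e ▸ one_mem _)⟩,
    Nm_le_Nm_Ce V (mul_mem (L.TH hb) (mul_mem (mul_mem g.2 (L.TH hb)) (inv_mem g.2))),
    fun e => absurd (Nat.prime_three.dvd_of_dvd_pow (hn ▸ e)) (by decide)⟩

theorem comm_mem {t v : G} (ht : t ∈ T) (hv : v ∈ V) : ⁅t, v⁆ ∈ V ⊓ A := by
  have := L.comm
  obtain ⟨a, h0, h1, -, h2, -⟩ := L.main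
  exact ⟨(dl (pj V ⟨t, L.TH ht⟩) (⟨v, hv⟩ : V)).2, (h1 _).1 (L.md.dl_U h0.1 ((h2 ⟨t, L.TH ht⟩).2 ht) ⟨v, hv⟩)⟩

theorem surj {t w : G} (ht : t ∈ T) (h : t ∉ Ce V) (hw : w ∈ V ⊓ A) : ∃ v ∈ V, ⁅t, v⁆ = w := by
  have := L.comm
  obtain ⟨a, h0, h1, -, h2, -⟩ := L.main
  have h3 := (h2 ⟨t, L.TH ht⟩).2 ht
  have h4 : pj V ⟨t, L.TH ht⟩ ≠ 1 := fun e => h (pj_eq_one.1 e)
  obtain ⟨v, hv⟩ := (L.md.card_Wa ⟨L.md.U_sq h0.1 h3, h4⟩).2.ge ((L.md.Wa_eq h0.1 h3 h4).ge ((h1 ⟨w, hw.1⟩).2 hw.2))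
  exact ⟨v, v.2, congrArg Subtype.val hv⟩

theorem key {k t v : G} (hk : k ∈ Nm V) (hk' : k ∈ Nm T) (ht : t ∈ T) (hv : v ∈ V) :
    k * ⁅t, k * v * k⁻¹⁆ * k⁻¹ = ⁅t, v⁆ := by
  have := L.comm
  obtain ⟨a, h0, h1, -, h2, -⟩ := L.main
  have M := L.md
  by_cases h4 : pj V ⟨t, L.TH ht⟩ = 1
  · rw [(mem_Ce.1 (pj_eq_one.1 h4) _ hv).commutator_eq, (mem_Ce.1 (pj_eq_one.1 h4) _ (Nm_conj hk hv)).commutator_eq]
    simp
  have h3 := (h2 ⟨t, L.TH ht⟩).2 ht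
  refine congrArg Subtype.val (M.key (M.tv h0 ⟨M.U_sq h0.1 h3, h4⟩) (k := pj V ⟨k, hk⟩) (mem_Nm fun x hx => ?_) ⟨v, hv⟩)
  obtain ⟨x, rfl⟩ := pj_surj V x
  rw [UU, M.Wa_eq h0.1 h3 h4] at hx ⊢
  rw [← map_inv, ← map_mul, ← map_mul]
  exact (h2 _).2 (Nm_conj hk' ((h2 _).1 hx))

theorem nmT {g w : G} (hg : g ∈ Nm V) (hw : w ∈ V ⊓ A) (h1 : w ≠ 1) (h : g * w * g⁻¹ ∈ A) : g ∈ Nm T := by
  have := L.comm
  obtain ⟨a, h0, h3, -, h2, -⟩ := L.main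
  have h4 := nm_UU (L.md.norm h0 (g := pj V ⟨g, hg⟩) ((h3 ⟨w, hw.1⟩).2 hw.2) ((h3 _).2 h)
    fun e => h1 (congrArg Subtype.val e))
  refine mem_Nm fun x hx => (h2 (⟨g, hg⟩ * ⟨x, L.TH hx⟩ * ⟨g, hg⟩⁻¹)).1 ?_
  rw [map_mul, map_mul, map_inv]
  exact Nm_conj h4 ((h2 _).2 hx)

theorem stab {g w : G} (hg : g ∈ Nm V) (hw : w ∈ V ⊓ A) (h1 : w ≠ 1) (h : Commute g w) : g ∈ T := by
  have := L.comm
  obtain ⟨a, h0, h3, -, h2, -⟩ := L.main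
  exact (h2 ⟨g, hg⟩).1 (L.md.stab h0 ((h3 ⟨w, hw.1⟩).2 hw.2) (fun e => h1 (congrArg Subtype.val e)) (pj_fix.2 h))

theorem sl2 (h : Nat.card (V ⊓ A : Subgroup G) ≠ 2) : ∃ (F : Type) (_ : Field F) (_ : Fintype F),
    Fintype.card F = Nat.card (V ⊓ A : Subgroup G) ∧ (Fintype.card F = 4 ∨ Fintype.card F = 8) ∧
      ∃ φ : Nm V →* Matrix.SpecialLinearGroup (Fin 2) F, Function.Surjective φ ∧ ∀ g, φ g = 1 ↔ (g : G) ∈ Ce V := by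
  have := L.comm
  obtain ⟨a, h0, -, -, -, h1, -⟩ := L.main
  obtain ⟨F, _, _, h2, h3, ⟨e⟩⟩ := L.md.sl2 h0 (h1 ▸ h)
  exact ⟨F, inferInstance, inferInstance, h2.trans h1, h3, e.toMonoidHom.comp (pj V), e.surjective.comp (pj_surj V),
    fun g => e.map_eq_one_iff.trans pj_eq_one⟩

end Loc

end Cfsg.Agent.EP
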