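import Cfsg.Agent.EP.Loc2

/-! Two-local subgroups: the module is self-centralizing. -/

set_option autoImplicit false

namespace Cfsg.Agent.EP

open Subgroup Finset Cfsg.Agent.SC3
open scoped commutatorElement

variable {G : Type*} [Group G] [Finite G]

theorem exists_quot {V D : Subgroup G} {b : G} (hD : IsPGroup 2 D) (h1 : D ≤ Nm V) (hb : b ∈ Nm V) (hb' : b ∈ Nm D)
    (hp : PE 2 b) (h : ¬ D ≤ V) : ∃ d ∈ D, d ∉ V ∧ d * d ∈ V ∧ d⁻¹ * (b * d * b⁻¹) ∈ V := by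
  let f := QuotientGroup.mk' (V.subgroupOf (Nm V))
  have hf : ∀ x : Nm V, f x = 1 ↔ (x : G) ∈ V := fun x => QuotientGroup.eq_one_iff x
  obtain ⟨_, ⟨d, h2, rfl⟩, h3, h4⟩ := exists_comm_i2 (x := f ⟨b, hb⟩) ((pe_coe.1 hp).map f)
    ((hD.comap_subtype (K := Nm V)).map f) (fun e => h fun x hx => (hf ⟨x, h1 hx⟩).1 (e.le ⟨_, hx, rfl⟩))
    (mem_Nm (by
      rintro _ ⟨x, hx, rfl⟩
      exact ⟨⟨b, hb⟩ * x * ⟨b, hb⟩⁻¹, Nm_conj hb' hx, by simp⟩))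
  exact ⟨d, h2, fun e => h3.2 ((hf d).2 e), (hf (d * d)).1 (by rw [map_mul, h3.1]),
    (hf (d⁻¹ * (⟨b, hb⟩ * d * ⟨b, hb⟩⁻¹))).1 (by simp only [map_mul, map_inv, h4.eq]; group)⟩

theorem syl_C1 {T : Subgroup G} (h : EPPO G) (hT : Frob.IsSyl 2 ⊤ T) {z : G} (hz : I2 z) (hc : T ≤ C1 z) : C1 z = T :=
  le_antisymm (hT.2.2 _ hc le_top (h.isP_C1 Nat.prime_two hz.pe hz.2)) hc

namespace Loc

variable {V T A : Subgroup G} (L : Loc V T A)
include L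

theorem AD : A ⊓ Ce V = V ⊓ A := by
  obtain ⟨a, ha, h1⟩ := SetLike.not_le_iff_exists.1 L.nle
  obtain ⟨g, -, X, hk⟩ := L.three (L.AT ha) h1
  have h2 : a * (a * (g * a * g⁻¹))⁻¹ * a = a * (g * a * g⁻¹) := by
    rw [mul_inv_rev, conj_inv, inv_eq_of_mul_eq_one_right (L.A2 a ha), mul_assoc, mul_assoc _ a, L.A2 a ha, mul_one]
  generalize a * (g * a * g⁻¹) = k at *
  have h3 : ∀ x ∈ cj k (A ⊓ Ce V), ∃ y ∈ A ⊓ Ce V, x = k * y * k⁻¹ := fun x hx => ⟨_, mem_cj.1 hx, by group⟩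
  have h4 := L.card_le (B := A ⊓ Ce V ⊔ cj k (A ⊓ Ce V)) (sup_le (inf_le_left.trans L.AT) fun x hx => by
    obtain ⟨y, hy, rfl⟩ := h3 x hx
    exact L.DT (Nm_conj hk.nm hy.2)) (sq_sup (fun x hx => L.A2 x hx.1) (fun x hx => by
      obtain ⟨y, hy, rfl⟩ := h3 x hx
      rw [conj_mul, L.A2 y hy.1]; simp) fun x hx y' hy' => by
        obtain ⟨y, hy, rfl⟩ := h3 y' hy'
        rw [← commutatorElement_eq_one_iff_commute, (X.key hk hy.2 hx.2 hx.2).1,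
          (comm_of_sq L.A2 hx.1 hy.1).commutator_eq]; simp)
  have h5 := (card_mul_le le_sup_left le_sup_right (eq_bot_iff.2 fun x hx => by
    obtain ⟨y, hy, e⟩ := h3 x hx.2
    have h6 := (commute_conj (g := k)).2 (comm_of_sq L.A2 ha hy.1)
    have h7 := (e ▸ h6).mul_left (comm_of_sq L.A2 ha hx.1.1)
    rw [show k * a * k⁻¹ * a = k * (a * k⁻¹ * a) by group, h2, X.sq] at h7
    exact X.fix hk hx.1.2 (Commute.inv_left_iff.1 h7))).trans h4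
  rw [card_cj, L.cA'] at h5
  exact (eq_of_card_le (U := V ⊓ A) (V := A ⊓ Ce V) (fun x hx => ⟨hx.2, L.VD hx.1⟩) (Nat.le_of_mul_le_mul_right h5 (card_pos' _))).symm

theorem cA : Nat.card A = Nat.card V := by rw [L.cA', L.AD, L.cV, sq]

theorem om {d : G} (hd : d ∈ Ce V) (h : d * d = 1) : d ∈ V := by
  have h1 := L.card_le (B := V ⊔ zpowers d) (sup_le L.VT (zpowers_le_of_mem (L.DT hd))) (sq_sup L.V2 (by
    rintro _ ⟨n, rfl⟩
    simp only [← (Commute.refl d).mul_zpow, h, one_zpow]) (by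
      rintro x hx _ ⟨n, rfl⟩
      exact (mem_Ce.1 hd x hx).symm.zpow_right n))
  exact (eq_of_card_le le_sup_left (L.cA ▸ h1)).ge (mem_sup_right (mem_zpowers d))

theorem of_card {B : Subgroup G} (h1 : B ≤ T) (h2 : ∀ x ∈ B, x * x = 1) (h3 : Nat.card B = Nat.card V) (h4 : B ≠ V) :
    Loc V T B :=
  { L with
    mx := ⟨ea_of h1 h2, fun C hC => (L.mx.2 C hC).trans (by rw [h3, L.cA])⟩
    nle := fun e => h4 (eq_of_card_le (fun x hx => L.om (e hx) (h2 x hx)) h3.ge) }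

theorem cen_of_nm {x : G} (hx : x ∈ Nm T) (h : x ∉ Nm V) : Ce V = V := by
  have L' := L.of_card (B := cj x V) ((cj_mono L.VT).trans (cj_eq_iff.2 hx).le) (fun y hy => by
    simpa [mul_assoc] using congrArg (fun z => x * z * x⁻¹) (L.V2 _ (mem_cj.1 hy))) (card_cj _ _)
    fun e => h (cj_eq_iff.1 e)
  obtain ⟨a, ha, h1⟩ := SetLike.not_le_iff_exists.1 L'.nle
  obtain ⟨g, hg, X, hk⟩ := L.three (L'.AT ha) h1
  have h2 : ∀ d ∈ Ce V, a * d * a⁻¹ * d⁻¹ ∈ V := fun d hd => (L'.AD.le ⟨by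
    rw [mul_assoc, mul_assoc, ← mul_assoc d]
    exact mul_mem ha (Nm_conj (mem_Nm_cj.2 (L.TH (Nm_conj' hx (L.DT hd)))) (inv_mem ha)),
    (Ce V).mul_mem (Nm_conj (Nm_le_Nm_Ce V (L.TH (L'.AT ha))) hd) (inv_mem hd)⟩).1
  refine le_antisymm (fun d hd => ?_) L.VD
  obtain ⟨y, hy, e⟩ := X.surj hk hd
  have h3 := mul_mem (Nm_conj (L.TH (L'.AT ha)) (Nm_conj hg (h2 _ (Nm_conj' (Nm_le_Nm_Ce V hg) hy)))) (h2 y hy)
  convert Nm_conj' (Ce_le_Nm V hy) h3 using 1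
  rw [eq_mul_inv_of_mul_eq e]; group

theorem exists_z : ∃ z ∈ V ⊓ A, z ≠ 1 :=
  (ne_bot_iff_exists_ne_one.1 ((one_lt_card_iff_ne_bot _).1 L.two_le)).elim fun w h =>
    ⟨w, w.2, fun e => h (Subtype.ext e)⟩

section syl

variable (hT : Frob.IsSyl 2 ⊤ T)
include hT

theorem C1_eq {z : G} (hz : z ∈ V ⊓ A) (h1 : z ≠ 1) : C1 z = T :=
  syl_C1 L.h hT ⟨L.V2 z hz.1, h1⟩ fun _ ht => mem_C1.2 (L.cenW ht hz).symm

theorem tiV {v g : G} (hv : v ∈ V) (h1 : v ≠ 1) (h : g * v * g⁻¹ ∈ V) : g ∈ Nm V := by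
  obtain ⟨z, hz, h2⟩ := L.exists_z
  obtain ⟨n, hn, rfl⟩ := L.tr hz.1 hv h2 h1
  obtain ⟨m, hm, e⟩ := L.tr h hz.1 (by simpa using h2) h2
  have h3 := L.TH ((L.C1_eq hT hz h2).le (mem_C1.2 (show z * (m * g * n) = m * g * n * z by
    conv_lhs => rw [← e]
    group)))
  rwa [mul_mem_cancel_right hn, mul_mem_cancel_left hm] at h3

theorem fus [IsSimpleGroup G] (hG : ¬ IsMulCommutative G) :
    ∃ z ∈ V ⊓ A, z ≠ 1 ∧ ∃ g, g * z * g⁻¹ ∈ T ∧ g * z * g⁻¹ ∉ Ce V := by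
  by_contra! h
  obtain ⟨z, hz, h1⟩ := L.exists_z
  have hz' : I2 z := ⟨L.V2 z hz.1, h1⟩
  have h2 := fun g hg => L.om (h z hz h1 g hg) (hz'.conj g).1
  obtain ⟨a, ha, h3⟩ := SetLike.not_le_iff_exists.1 L.nle
  have h4 : a ∈ (Nm V).normalCore := fun g => by
    have h5 := L.h.pe_two (x := a * (g⁻¹ * z * g⁻¹⁻¹)) fun e => by
      obtain ⟨w, h6, h7⟩ := exists_swap (L.A2 a ha) (hz'.conj _).1 e
      have h8 : w * g⁻¹ * z * (w * g⁻¹)⁻¹ = a := by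
        rw [mul_inv_rev, mul_assoc w, mul_assoc w, ← mul_assoc _ g⁻¹⁻¹, ← h7, inv_eq_of_mul_eq_one_right h6,
          mul_assoc _ w, h6, mul_one, ← mul_assoc, h6, one_mul]
      exact h3 (h8 ▸ h z hz h1 _ (h8.symm ▸ L.AT ha))
    obtain ⟨y, -, hy⟩ := hT.exists_cj_le le_top (dihedral_pe (L.A2 a ha) (hz'.conj _).1 h5)
    have h6 := L.tiV hT hz.1 h1 (h2 (y * g⁻¹) (hy (Frob.mem_cj.2 (subset_closure (by simp [mul_assoc])))))
    convert mul_mem (mul_mem (inv_mem h6) (L.TH (hy (Frob.conj_mem_cj.2 (subset_closure (Or.inl rfl)))))) h6 using 1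
    group
  rcases (Nm V).normalCore_normal.eq_bot_or_eq_top with e | e
  · exact h3 (mem_bot.1 (e.le h4) ▸ one_mem _)
  · exact not_normal hG L.pV L.ne (top_le_iff.1 (e.ge.trans (normalCore_le _)))

theorem cen_of_syl [IsSimpleGroup G] (hG : ¬ IsMulCommutative G) : Ce V = V := by
  obtain ⟨z, hz, h1, g, h2, h3⟩ := L.fus hT hG
  have hb := (show I2 z from ⟨L.V2 z hz.1, h1⟩).conj g
  refine le_antisymm (by_contra fun h => ?_) L.VD
  obtain ⟨d, d1, d2, d3, d4⟩ := exists_quot L.pD (Ce_le_Nm V) (L.TH h2) (Nm_le_Nm_Ce V (L.TH h2)) hb.pe h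
  have h4 : ∀ x, Commute (g * z * g⁻¹) x → g⁻¹ * x * g ∈ T := fun x hx =>
    (L.C1_eq hT hz h1).le (mem_C1.2 ((commute_conj (g := g)).1 (by simpa [mul_assoc] using hx)))
  have h5 : g ∉ Nm V := fun e => h3 (L.VD (Nm_conj e hz.1))
  generalize g * z * g⁻¹ = b at *
  have h6 : Commute b (d⁻¹ * (b * d * b⁻¹)) := by
    refine mul_inv_eq_iff_eq_mul.1 ?_
    refine Eq.trans ?_ (inv_eq_of_mul_eq_one_right (L.V2 _ d4))
    calc _ = b * d⁻¹ * b * d * (b * b)⁻¹ := by group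
      _ = _ := by rw [hb.1, mul_inv_rev, mul_inv_rev, mul_inv_rev, inv_inv, inv_inv, hb.inv]; group
  obtain ⟨u, hu, e⟩ := L.surj h2 h3 ⟨d4, L.fix h2 h3 d4 h6⟩
  have h7 : Commute b (d * u) := by
    refine mul_inv_eq_iff_eq_mul.1 ?_
    calc _ = d * (d⁻¹ * (b * d * b⁻¹) * ⁅b, u⁆) * u := by rw [commutatorElement_def]; group
      _ = _ := by rw [e, L.V2 _ d4, mul_one]
  have h8 : d * u * (d * u) = d * d := by
    rw [← (mem_Ce.1 d1 u hu).mul_mul_mul_comm, L.V2 u hu, mul_one]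
  have h9 := L.sq_mem (h4 _ h7)
  rw [show g⁻¹ * (d * u) * g * (g⁻¹ * (d * u) * g) = g⁻¹ * (d * u * (d * u)) * g⁻¹⁻¹ by group, h8] at h9
  exact h5 (by simpa using inv_mem (L.tiV hT d3 (fun e => d2 (L.om d1 e)) (L.om h9 (by rw [conj_mul, L.V2 _ d3]; simp))))

end syl

end Loc

end Cfsg.Agent.EP
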