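import Cfsg.Agent.EP.Loc3

/-! Two-local subgroups: two parabolic subgroups. -/

set_option autoImplicit false

namespace Cfsg.Agent.EP

open Subgroup Finset Cfsg.Agent.SC3
open scoped commutatorElement

variable {G : Type*} [Group G] [Finite G]

namespace Loc

variable {V T A : Subgroup G} (L : Loc V T A) (hc : Ce V = V)
include L hc

omit [Finite G] in
theorem ne_VA : V ≠ A := fun e => L.nle (e ▸ hc.ge)

theorem dec' {t : G} (ht : t ∈ T) : ∃ a ∈ A, ∃ v ∈ V, t = a * v := hc ▸ L.dec ht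

omit hc in
theorem sq_eq {a v : G} (ha : a ∈ A) (hv : v ∈ V) : a * v * (a * v) = ⁅a, v⁆ := by
  rw [commutatorElement_def, inv_eq_of_mul_eq_one_right (L.A2 a ha), inv_eq_of_mul_eq_one_right (L.V2 v hv), ← mul_assoc]

theorem sqW {t : G} (ht : t ∈ T) : t * t ∈ V ⊓ A := by
  obtain ⟨a, ha, v, hv, rfl⟩ := L.dec' hc ht
  exact L.sq_eq ha hv ▸ L.comm_mem (L.AT ha) hv

theorem inv_mem {t : G} (ht : t ∈ T) (h : t * t = 1) : t ∈ V ∨ t ∈ A := by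
  obtain ⟨a, ha, v, hv, rfl⟩ := L.dec' hc ht
  rw [L.sq_eq ha hv, commutatorElement_eq_one_iff_commute] at h
  by_cases e : a ∈ V
  · exact Or.inl (mul_mem e hv)
  · exact Or.inr (mul_mem ha (L.fix (L.AT ha) (hc.symm ▸ e) hv h))

theorem ea {B : Subgroup G} (h : B ≤ T) (h2 : ∀ x ∈ B, x * x = 1) : B ≤ V ∨ B ≤ A :=
  SubgroupClass.subset_union.1 fun x hx => L.inv_mem hc (h hx) (h2 x hx)

theorem cj_VA {B : Subgroup G} {g : G} (hB : B = V ∨ B = A) (h : cj g B ≤ T) : cj g B = V ∨ cj g B = A := by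
  have h1 : Nat.card (cj g B) = Nat.card V := by rcases hB with rfl | rfl <;> simp only [card_cj, L.cA]
  refine (L.ea hc h fun y hy => ?_).imp (fun e => eq_of_card_le e h1.ge) fun e => eq_of_card_le e (L.cA ▸ h1.ge)
  have : g⁻¹ * y * g * (g⁻¹ * y * g) = 1 := by
    rcases hB with rfl | rfl
    exacts [L.V2 _ (mem_cj.1 hy), L.A2 _ (mem_cj.1 hy)]
  simpa [mul_assoc] using congrArg (fun z => g * z * g⁻¹) this

theorem perm {x : G} (hx : x ∈ Nm T) : (cj x V = V ∧ cj x A = A) ∨ (cj x V = A ∧ cj x A = V) := by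
  have h1 := L.cj_VA hc (Or.inl rfl) ((cj_mono L.VT).trans (cj_eq_iff.2 hx).le)
  have h2 := L.cj_VA hc (Or.inr rfl) ((cj_mono L.AT).trans (cj_eq_iff.2 hx).le)
  have h3 : cj x V ≠ cj x A := fun e => L.ne_VA hc (le_antisymm (cj_le_iff.1 e.le) (cj_le_iff.1 e.ge))
  rcases h1 with h1 | h1 <;> rcases h2 with h2 | h2
  exacts [absurd (h1.trans h2.symm) h3, Or.inl ⟨h1, h2⟩, Or.inr ⟨h1, h2⟩, absurd (h1.trans h2.symm) h3]

theorem nmA {x : G} (hx : x ∈ Nm T) (h : x ∈ Nm V) : x ∈ Nm A :=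
  (L.perm hc hx).elim (fun e => cj_eq_iff.1 e.2) fun e => absurd ((cj_eq_iff.2 h).symm.trans e.1) (L.ne_VA hc)

theorem swap {x : G} (hx : x ∈ Nm T) (h : x ∉ Nm V) : cj x V = A ∧ cj x A = V :=
  (L.perm hc hx).resolve_left fun e => h (cj_eq_iff.1 e.1)

theorem swap_mul {x y : G} (hx : x ∈ Nm T) (h : x ∉ Nm V) (hy : y ∈ Nm T) (h' : y ∉ Nm V) : x * y ∈ Nm V :=
  cj_eq_iff.1 (by rw [← cj_cj, (L.swap hc hy h').1, (L.swap hc hx h).2])

theorem swap_pe {x : G} (hx : x ∈ Nm T) (h : x ∉ Nm V) : PE 2 x ∧ x * x ∈ T := by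
  have h1 := L.swap_mul hc hx h hx h
  obtain ⟨n, hn⟩ := L.h.pe_two (x := x) fun e => h (mem_of_sq_mem e h1)
  exact ⟨⟨n, hn⟩, syl_mem L.syl h1 (mul_mem hx hx) ⟨n, by rw [← sq, ← pow_mul, mul_comm, pow_mul, hn, one_pow]⟩⟩

omit hc in
theorem sym (h1 : Frob.IsSyl 2 (Nm A) T) (h2 : Ce A = A)
    (h3 : ∀ Y : Subgroup G, IsPGroup 2 Y → Y ≤ Nm A → Nm A ≤ Nm Y → Y ≤ Ce A) : Loc A T V where
  h := L.h
  syl := h1
  zs := by
    rw [h2]
    exact le_antisymm (Frob.Zs_le _) fun x hx => ⟨hx, by rw [sq, L.A2 x hx], fun y hy => comm_of_sq L.A2 hx hy⟩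
  ne e := L.nle (e ▸ bot_le)
  nO := h3
  mx := ⟨ea_of L.VT L.V2, fun B hB => (L.mx.2 B hB).trans L.cA.le⟩
  nle e := L.nle ((eq_of_card_le (h2 ▸ e) L.cA.le).ge.trans L.VD)

theorem sym_of_swap {x : G} (hx : x ∈ Nm T) (h : x ∉ Nm V) : Loc A T V ∧ Ce A = A := by
  obtain ⟨h1, h2⟩ := L.swap hc hx h
  have h3 : Ce A = A := by rw [← h1, Ce_cj, hc]
  refine ⟨L.sym ?_ h3 fun Y hY e1 e2 => ?_, h3⟩
  · have : Frob.IsSyl 2 (cj x (Nm V)) (cj x T) := L.syl.cj x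
    rwa [← Nm_cj, h1, cj_eq_iff.2 hx] at this
  · have h4 : cj x⁻¹ A = V := by rw [← h1, cj_cj, inv_mul_cancel, cj_one]
    rw [← cj_le_iff (g := x⁻¹), ← Ce_cj, h4]
    refine L.nO _ (Frob.cj_isPGroup _ hY) ?_ ?_
    · rw [← h4, Nm_cj]; exact cj_mono e1
    · rw [← h4, Nm_cj, Nm_cj]; exact cj_mono e2

theorem sym_of_syl [IsSimpleGroup G] (hG : ¬ IsMulCommutative G) (hT : Frob.IsSyl 2 ⊤ T) : Loc A T V ∧ Ce A = A := by
  obtain ⟨z, hz, h1, g, h2, h3⟩ := L.fus hT hG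
  have hb := (show I2 z from ⟨L.V2 z hz.1, h1⟩).conj g
  have h4 := (L.inv_mem hc h2 hb.1).resolve_left (hc ▸ h3)
  have h5 : C1 (g * z * g⁻¹) = cj g T := by rw [C1_cj, L.C1_eq hT hz h1]
  have hA : T ≤ Nm A := fun t ht => L.nmA hc (le_Nm _ ht) (L.TH ht)
  have h6 : ∀ y ∈ T, Commute (g * z * g⁻¹) y → y ∈ A := fun y hy e => by
    obtain ⟨a, ha, v, hv, rfl⟩ := L.dec' hc hy
    exact mul_mem ha (L.fix h2 h3 hv (by simpa using (comm_of_sq L.A2 h4 ha).inv_right.mul_right e))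
  have h7 : g ∈ Nm A := by
    rcases L.cj_VA hc (g := g⁻¹) (Or.inr rfl) (by
      rw [← cj_le_iff (g := g), cj_cj, mul_inv_cancel, cj_one, ← h5]
      exact fun a ha => mem_C1.2 (comm_of_sq L.A2 h4 ha)) with e | e
    · have e' : cj g V = A := by rw [← e, cj_cj, mul_inv_cancel, cj_one]
      have h8 : Frob.IsSyl 2 (cj g ⊤) (cj g T) := hT.cj g
      obtain ⟨n, hn, h9⟩ := (h8.of_le (Y' := Nm A) (by rw [← e', Nm_cj]; exact cj_mono L.TH) fun _ _ =>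
        mem_cj.2 trivial).conj (hT.of_le hA le_top)
      have h10 : n * g ∈ Nm T := cj_eq_iff.1 (by rw [← cj_cj]; exact h9)
      have h11 : n * g ∉ Nm V := fun e => L.ne_VA hc (by rw [← cj_eq_iff.2 e, ← cj_cj, e', cj_eq_iff.2 hn])
      exact absurd (L.TH (syl_mem hT trivial h10 (L.swap_pe hc h10 h11).1)) h11
    · simpa using Subgroup.inv_mem _ (cj_eq_iff.1 e)
  have h8 : Ce A = A := le_antisymm (fun y hy => h6 y ((L.C1_eq hT hz h1).le (mem_C1.2 (mem_Ce.1 hy z hz.2).symm))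
    (mem_Ce.1 hy _ h4).symm) fun a ha => mem_Ce.2 fun b hb => comm_of_sq L.A2 ha hb
  refine ⟨L.sym (hT.of_le hA le_top) h8 fun Y hY e1 e2 y hy => ?_, h8⟩
  have h9 := (hT.of_le hA le_top).normal_le hY e1 (hA.trans e2)
  exact h8.ge (h6 y (h9 hy) (mem_C1.1 (h5.ge (mem_cj.2 (h9 (Nm_conj' (e2 h7) hy))))))

theorem cube (L' : Loc A T V) {k : G} (hk : k ∈ Nm V) (hk' : k ∈ Nm T) : k ^ 3 ∈ T := by
  obtain ⟨a, ha, h1⟩ := SetLike.not_le_iff_exists.1 L.nle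
  obtain ⟨w, hw, h2⟩ := L.exists_z
  obtain ⟨v, hv, rfl⟩ := L.surj (L.AT ha) h1 hw
  have h3 := L.key hk hk' (Nm_conj hk' (L.AT ha)) hv
  have h4 := congrArg Inv.inv (L'.key (L.nmA hc hk' hk) hk' (L.VT hv) ha)
  rw [conj_inv, commutatorElement_inv, commutatorElement_inv] at h4
  rw [← conjugate_commutatorElement] at h3
  refine L.stab (pow_mem hk 3) hw h2 (mul_inv_eq_iff_eq_mul.1 ?_)
  conv_rhs => rw [← h4, ← h3]
  rw [pow_three]; simp only [mul_inv_rev, mul_assoc]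

theorem four (L' : Loc A T V) (h : Nat.card (V ⊓ A : Subgroup G) ≠ 2) : Nat.card (V ⊓ A : Subgroup G) = 4 := by
  obtain ⟨F, _, _, h1, h2, -⟩ := L.sl2 h
  refine h1 ▸ h2.resolve_right fun e => ?_
  obtain ⟨w, hw, h3⟩ := L.exists_z
  have h4 := Frob.card_orbit_conj (Nm V ⊓ Nm T) w (nt (V ⊓ A)) fun s => by
    rw [mem_nt]
    refine ⟨fun hs => ?_, ?_⟩
    · obtain ⟨g, hg, e⟩ := L.tr hw.1 hs.1.1 h3 hs.2
      exact ⟨g, ⟨hg, L.nmT hg hw h3 (e ▸ hs.1.2)⟩, e⟩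
    · rintro ⟨g, hg, rfl⟩
      exact ⟨⟨Nm_conj hg.1 hw.1, Nm_conj (L.nmA hc hg.2 hg.1) hw.2⟩, by simpa using h3⟩
  rw [card_nt, ← h1, e] at h4
  obtain ⟨k, hk, h5⟩ := exists_ord (p := 7) (by norm_num) (h4 ▸ dvd_mul_right _ _)
  have h6 := (pe_of_mem L.syl.2.1 (mem_of_pow_mem (n := 3) (by rw [h5]; decide) (L.cube hc L' hk.1 hk.2))).dvd
    Nat.prime_two (fun e => by simp [e] at h5)
  rw [h5] at h6
  exact absurd h6 (by decide)

theorem pb (hT : ¬ 2 ∣ T.index) {F : Type} [Field F] [Fintype F] (hF : Fintype.card F = Nat.card (V ⊓ A : Subgroup G))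
    (h : Nat.card (V ⊓ A : Subgroup G) ≠ 2) : Pb T V A F where
  VS := L.VT
  AS := L.AT
  V2 := L.V2
  A2 := L.A2
  cV := hF ▸ L.cV
  cA := hF ▸ L.cA.trans L.cV
  cW := hF.symm
  cS := by rw [L.cT, hc, L.cV, hF]; ring
  syl := hT
  cen := hc
  fix a ha h1 v hv e := L.fix (L.AT ha) (hc.symm ▸ h1) hv e
  tr v hv w hw := L.tr hv hw
  hom := by
    obtain ⟨F', _, _, h1, -, φ, h2, h3⟩ := L.sl2 h
    obtain ⟨e⟩ := sl2_equiv (h1.trans hF.symm)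
    exact ⟨e.toMonoidHom.comp φ, e.surjective.comp h2, fun g => e.map_eq_one_iff.trans ((h3 g).trans (by rw [hc]))⟩

end Loc

end Cfsg.Agent.EP
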