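import Cfsg.Agent.EP.Loc4

/-! Two-local subgroups: the parabolic subgroup contains a Sylow subgroup. -/

set_option autoImplicit false

namespace Cfsg.Agent.EP

open Subgroup Finset Cfsg.Agent.SC3
open scoped commutatorElement

variable {G : Type*} [Group G] [Finite G]

theorem syl_index {S : Subgroup G} (h : Frob.IsSyl 2 ⊤ S) : ¬ 2 ∣ S.index := by
  obtain ⟨P, rfl⟩ := h.toSylow_top
  exact P.not_dvd_index

theorem Loc.is_syl [IsSimpleGroup G] (hG : ¬ IsMulCommutative G) {V T A S : Subgroup G} (L : Loc V T A)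
    (h2 : Nat.card (V ⊓ A : Subgroup G) ≠ 2) (hS : Frob.IsSyl 2 ⊤ S) (hT : T ≤ S) : S ≤ T := by
  by_contra hne
  obtain ⟨x, x1, x2, x3⟩ := Frob.exists_norm_notMem hS.2.1 hT hne
  have x4 : x ∉ Nm V := fun e => x2 (syl_mem L.syl e x3 (pe_of_mem hS.2.1 x1))
  have hc := L.cen_of_nm x3 x4
  have h4 := L.four hc (L.sym_of_swap hc x3 x4).1 h2
  obtain ⟨w, hw, w1⟩ := L.exists_z
  obtain ⟨w', hw', w2⟩ := SetLike.exists_of_lt ((zpowers_le_of_mem hw).lt_of_ne fun e => h2 (by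
    rw [← e, Nat.card_zpowers, i2_iff.1 ⟨L.V2 w hw.1, w1⟩]))
  obtain ⟨k, k1, e⟩ := L.tr hw.1 hw'.1 w1 fun e => w2 (e ▸ one_mem _)
  have k2 := L.nmT k1 hw w1 (e ▸ hw'.2)
  have k3 : ¬ PE 2 k := fun h => w2 (by
    rw [← e, (L.cenW (syl_mem L.syl k1 k2 h) hw).eq, mul_inv_cancel_right]; exact mem_zpowers w)
  obtain ⟨d, d1, y1, y2⟩ := L.h.lift L.syl.2.1 (s := x) k2 k3 (by
    convert mul_mem (Nm_conj (mul_mem x3 k2) (T.inv_mem (L.swap_pe hc x3 x4).2))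
      (L.swap_pe hc (mul_mem x3 k2) (by rwa [mul_mem_cancel_right k1])).2 using 1
    group)
  have y3 : d * x ∈ S := mul_mem (hT d1) x1
  have y4 : d * x ∈ Nm T := mul_mem (le_Nm _ d1) x3
  have y5 : d * x ∉ Nm V := by rwa [mul_mem_cancel_left (L.TH d1)]
  generalize d * x = y at *
  have y6 : y⁻¹ = y := inv_eq_of_mul_eq_one_right y2
  obtain ⟨s1, s2⟩ := L.swap hc y4 y5
  have yV : ∀ v ∈ V, y * v * y⁻¹ ∈ A := fun v hv => s1.le (conj_mem_cj.2 hv)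
  have yA : ∀ v ∈ A, y * v * y⁻¹ ∈ V := fun v hv => s2.le (conj_mem_cj.2 hv)
  -- the index of `T` in `S` is two
  have t1 : ∀ s ∈ S ⊓ Nm T, s * y ∈ T ∨ s ∈ T := fun s hs => by
    by_cases h : s ∈ Nm V
    · exact Or.inr (syl_mem L.syl h hs.2 (pe_of_mem hS.2.1 hs.1))
    · exact Or.inl (syl_mem L.syl (L.swap_mul hc hs.2 h y4 y5) (mul_mem hs.2 y4) (pe_of_mem hS.2.1 (mul_mem hs.1 y3)))
  have t2 : T.relIndex (S ⊓ Nm T) = 2 :=
    relIndex_eq_two_iff_exists_notMem_and.2 ⟨y, ⟨y3, y4⟩, fun e => y5 (L.TH e), t1⟩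
  have t3 : ∀ E ≤ S ⊓ Nm T, (∀ a ∈ E, a * a = 1) → Nat.card E = Nat.card V → E ≤ T := fun E h1 h3 h5 => by
    by_contra h6
    obtain ⟨a, a1, a2⟩ := SetLike.not_le_iff_exists.1 h6
    obtain ⟨a3, a4⟩ := L.swap hc (h1 a1).2 fun e => a2 (syl_mem L.syl e (h1 a1).2 (pe_of_mem hS.2.1 (h1 a1).1))
    have h7 : ∀ b ∈ T ⊓ E, a * b * a⁻¹ = b := fun b hb => by rw [(comm_of_sq h3 a1 hb.2).eq, mul_inv_cancel_right]
    have h8 : T ⊓ E ≤ V ⊓ A := fun b hb => (L.ea hc inf_le_left fun x hx => h3 x hx.2).elim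
      (fun h => ⟨h hb, h7 b hb ▸ a3.le (conj_mem_cj.2 (h hb))⟩) fun h => ⟨h7 b hb ▸ a4.le (conj_mem_cj.2 (h hb)), h hb⟩
    have h9 := card_mul_relIndex (inf_le_right : T ⊓ E ≤ E)
    have h10 := relIndex_le_of_le_right (H := T) h1 (by omega)
    have h11 := card_le_of_le h8
    rw [inf_relIndex_right, h5, L.cV, h4] at h9
    rw [t2] at h10
    rw [h4] at h11
    nlinarith
  have t4 : S ≤ S ⊓ Nm T := by
    by_contra h
    obtain ⟨s, h1, h3, h5⟩ := Frob.exists_norm_notMem hS.2.1 inf_le_left h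
    have h6 : ∀ B ≤ T, (∀ a ∈ B, a * a = 1) → Nat.card B = Nat.card V → ∀ b ∈ B, s * b * s⁻¹ ∈ T := fun B e1 e2 e3 b hb =>
      t3 (cj s B) ((cj_mono (e1.trans (le_inf hT (le_Nm _)))).trans (cj_eq_iff.2 h5).le) (fun y hy => by
        simpa [mul_assoc] using congrArg (fun z => s * z * s⁻¹) (e2 _ (mem_cj.1 hy))) ((card_cj _ _).trans e3)
        (conj_mem_cj.2 hb)
    refine h3 ⟨h1, mem_Nm fun t ht => ?_⟩
    obtain ⟨a, ha, v, hv, rfl⟩ := L.dec' hc ht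
    rw [← conj_mul]
    exact mul_mem (h6 A L.AT L.A2 L.cA a ha) (h6 V L.VT L.V2 rfl v hv)
  rw [inf_eq_left.2 fun s hs => (t4 hs).2] at t1 t2
  -- the involution `z`
  obtain ⟨u, u1, u2⟩ : ∃ u ∈ V ⊓ A, ¬ Commute y u := by
    by_contra! h
    have h0 := (commute_conj (g := k⁻¹)).2 (h _ hw')
    rw [← e, show k⁻¹ * (k * w * k⁻¹) * k⁻¹⁻¹ = w by group] at h0
    have h1 := (h w hw).mul_left h0
    rw [show y * (k⁻¹ * y * k⁻¹⁻¹) = (y * k * y⁻¹)⁻¹ * k by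
      rw [mul_inv_rev, mul_inv_rev, inv_inv, inv_inv, y6]; group, y1, inv_inv] at h1
    exact k3 (pe_of_mem L.syl.2.1 (mem_of_sq_mem (by_contra fun e => k3 (L.h.pe_two e))
      (L.stab (mul_mem k1 k1) hw w1 h1)))
  have yW : ∀ v ∈ V ⊓ A, y * v * y⁻¹ ∈ V ⊓ A := fun v hv => ⟨yA v hv.2, yV v hv.1⟩
  have z1 := mul_mem u1 (yW u u1)
  have z2 : u * (y * u * y⁻¹) ≠ 1 := fun e => u2 (mul_inv_eq_iff_eq_mul.1 (by
    rw [eq_inv_of_mul_eq_one_right e, inv_eq_of_mul_eq_one_right (L.V2 u u1.1)]))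
  have z3 : Commute y (u * (y * u * y⁻¹)) := mul_inv_eq_iff_eq_mul.1 (by
    rw [← conj_mul, (comm_of_sq L.V2 u1.1 (yW u u1).1).eq, y6, ← mul_assoc y, ← mul_assoc y, y2, one_mul, mul_assoc u, y2,
      mul_one])
  have z4 : y * u * y⁻¹ = u * (u * (y * u * y⁻¹)) := by rw [← mul_assoc u, L.V2 u u1.1, one_mul]
  generalize u * (y * u * y⁻¹) = z at z1 z2 z3 z4
  have hz : I2 z := ⟨L.V2 z z1.1, z2⟩
  have z5 : ∀ v ∈ V ⊓ A, Commute y v → v = 1 ∨ v = z := fun v hv h => by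
    have h1 := card_lt (inf_le_left : (V ⊓ A) ⊓ C1 y ≤ V ⊓ A) fun e => u2 (mem_C1.1 (e.ge u1).2)
    have h3 := card_dvd_of_le (inf_le_left : (V ⊓ A) ⊓ C1 y ≤ V ⊓ A)
    rw [h4] at h1 h3
    refine hz.zp ((eq_of_card_le (V := (V ⊓ A) ⊓ C1 y) (zpowers_le_of_mem ⟨z1, mem_C1.2 z3⟩) ?_).ge ⟨hv, mem_C1.2 h⟩)
    rw [Nat.card_zpowers, i2_iff.1 hz]
    generalize Nat.card ((V ⊓ A) ⊓ C1 y : Subgroup G) = m at *
    interval_cases m <;> simp_all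
  have z6 : C1 z = S := syl_C1 L.h hS hz fun s hs => mem_C1.2 ((t1 s hs).elim (fun h => by
    simpa using (L.cenW h z1).symm.mul_right z3.symm.inv_right) fun h => (L.cenW h z1).symm)
  -- `y` is conjugate to `z`
  obtain ⟨g, hg⟩ : ∃ g, y = g * z * g⁻¹ := by
    obtain ⟨g, hg⟩ := transfer2 hG (syl_index hS) t2 y2
    have h1 : I2 (g * y * g⁻¹) := I2.conj ⟨y2, fun e => y5 (e ▸ one_mem _)⟩ g
    rcases L.inv_mem hc hg h1.1 with h | h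
    · obtain ⟨n, -, e⟩ := L.tr z1.1 h z2 h1.2
      exact ⟨g⁻¹ * n, by rw [mul_inv_rev, mul_assoc, mul_assoc, ← mul_assoc z, ← mul_assoc n, ← mul_assoc n, e]; group⟩
    · obtain ⟨n, -, e⟩ := L.tr z1.1 (yA _ h) z2 (h1.conj y).2
      exact ⟨g⁻¹ * y⁻¹ * n, by
        rw [mul_inv_rev, mul_assoc, mul_assoc, ← mul_assoc z, ← mul_assoc n, ← mul_assoc n, e]; group⟩
  have c1 : C1 y = cj g S := by rw [hg, C1_cj, z6]
  obtain ⟨n, n1, n2, n3⟩ := Frob.exists_norm_notMem (p := 2) (S := S ⊓ C1 y) (c1 ▸ Frob.cj_isPGroup g hS.2.1)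
    inf_le_right fun h => y5 (Ce_le_Nm V (mem_Ce.2 fun v hv => mem_C1.1 ((eq_of_card_le (h.trans inf_le_left)
      (by rw [c1, card_cj])).ge (hT (L.VT hv)))))
  -- an element whose square is `z`
  obtain ⟨v, v1, v2⟩ := SetLike.not_le_iff_exists.1 fun e : V ≤ A => L.ne_VA hc (eq_of_card_le e L.cA.le)
  have a1 := yV v v1
  have a2 : y * v * y⁻¹ ∉ V := fun e => v2 (by simpa [y6, mul_assoc, y2, ← mul_assoc y y] using yV _ e)
  have r1 := mul_mem (L.AT a1) (L.VT v1)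
  have r2 : y * (y * v * y⁻¹ * v) * y⁻¹ = (y * v * y⁻¹ * v)⁻¹ := by
    rw [← conj_mul, mul_inv_rev, inv_eq_of_mul_eq_one_right (L.V2 v v1), inv_eq_of_mul_eq_one_right (L.A2 _ a1), y6,
      ← mul_assoc y, ← mul_assoc y, y2, one_mul, mul_assoc v, y2, mul_one]
  have r3 : y * v * y⁻¹ * v * (y * v * y⁻¹ * v) ≠ 1 := fun e => (L.inv_mem hc r1 e).elim
    (fun h => a2 ((mul_mem_cancel_right v1).1 h)) fun h => v2 ((mul_mem_cancel_left a1).1 h)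
  generalize y * v * y⁻¹ * v = t at r1 r2 r3
  have r4 := (z5 _ (L.sqW hc r1) (mul_inv_eq_iff_eq_mul.1 (by
    rw [← conj_mul, r2, ← mul_inv_rev, inv_eq_of_mul_eq_one_right (L.V2 _ (L.sqW hc r1).1)]))).resolve_left r3
  have r5 : t * u ∈ S ⊓ C1 y := ⟨hT (mul_mem r1 (L.VT u1.1)), mem_C1.2 (mul_inv_eq_iff_eq_mul.1 (by
    rw [← conj_mul, r2, z4, (comm_of_sq L.V2 u1.1 z1.1).eq, ← r4]; group))⟩
  have r6 : t * u * (t * u) = z := by rw [← (L.cenW r1 u1).mul_mul_mul_comm, L.V2 u u1.1, mul_one, r4]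
  have r7 := Nm_conj n3 r5
  have r8 : n * (t * u) * n⁻¹ * (n * (t * u) * n⁻¹) = n * z * n⁻¹ := by rw [conj_mul, r6]
  generalize n * (t * u) * n⁻¹ = r at r7 r8
  have r9 := mem_C1.1 r7.2
  have r10 : r * r ∈ V ⊓ A := (t1 r r7.1).elim (fun h => by
    simpa only [← r9.symm.mul_mul_mul_comm, y2, mul_one] using L.sqW hc h) (L.sqW hc)
  refine n2 ⟨z6.le (mem_C1.2 (mul_inv_eq_iff_eq_mul.1 ((z5 _ (r8 ▸ r10) (r8 ▸ r9.mul_right r9)).resolve_left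
    (hz.conj n).2)).symm), n1⟩

end Cfsg.Agent.EP
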