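import Cfsg.Agent.EP.TI

/-! Failure of factorization modules. -/

set_option autoImplicit false

namespace Cfsg.Agent.EP

open Subgroup Finset Cfsg.Agent.SC3

variable {X V : Type*} [Group X] [CommGroup V] [MulDistribMulAction X V]

variable (V) in
/-- fixed points -/
def Fx (A : Subgroup X) : Subgroup V where
  carrier := {v | ∀ a ∈ A, a • v = v}
  one_mem' := fun a _ => smul_one a
  mul_mem' := fun h1 h2 a ha => by rw [smul_mul', h1 a ha, h2 a ha]
  inv_mem' := fun h1 a ha => by rw [smul_inv', h1 a ha]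

variable (V) in
/-- fixed points of an element -/
def Wa (a : X) : Subgroup V where
  carrier := {v | a • v = v}
  one_mem' := smul_one a
  mul_mem' := fun {_ _} (h1 : _ = _) (h2 : _ = _) => show _ = _ by rw [smul_mul', h1, h2]
  inv_mem' := fun {_} (h1 : _ = _) => show _ = _ by rw [smul_inv', h1]

/-- the pointwise stabilizer -/
def Pw (X : Type*) [Group X] [MulDistribMulAction X V] (W : Subgroup V) : Subgroup X where
  carrier := {x | ∀ w ∈ W, x • w = w}
  one_mem' := fun w _ => one_smul X w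
  mul_mem' := fun h1 h2 w hw => by rw [mul_smul, h2 w hw, h1 w hw]
  inv_mem' := fun h1 w hw => by rw [inv_smul_eq_iff, h1 w hw]

/-- the commutator map -/
def dl (a : X) : V →* V := MonoidHom.mk' (fun v => a • v * v⁻¹) fun v w => by
  rw [smul_mul', mul_inv]; exact mul_mul_mul_comm _ _ _ _

theorem dl_apply (a : X) (v : V) : dl a v = a • v * v⁻¹ := rfl

theorem mem_Wa {a : X} {v : V} : v ∈ Wa V a ↔ a • v = v := Iff.rfl

theorem ker_dl (a : X) : (dl a : V →* V).ker = Wa V a := ext fun _ => mul_inv_eq_one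

theorem dl_comm {a b : X} (h : Commute a b) (v : V) : b • dl a v = dl a (b • v) := by
  simp only [dl_apply, smul_mul', smul_inv', ← mul_smul, h.eq]

theorem mem_Wa_conj {a g : X} {v : V} : g • v ∈ Wa V (g * a * g⁻¹) ↔ v ∈ Wa V a := by
  simp [mem_Wa, mul_smul]

theorem card_Wa_conj (a g : X) : Nat.card (Wa V (g * a * g⁻¹)) = Nat.card (Wa V a) :=
  (Nat.card_congr ((MulAction.toPerm g).subtypeEquiv fun _ => mem_Wa_conj.symm)).symm

variable [Finite X] [Finite V]

theorem offender (n : ℕ) : ∀ A : Subgroup X, Nat.card A = n → A ≠ ⊥ →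
    (∀ a ∈ A, ∀ b ∈ A, Commute a b) → Nat.card V ≤ Nat.card A * Nat.card (Fx V A) →
    ∃ B ≤ A, B ≠ ⊥ ∧ Nat.card V ≤ Nat.card B * Nat.card (Fx V B) ∧ ∀ a ∈ B, ∀ v : V, dl a v ∈ Fx V B := by
  classical
  induction n using Nat.strong_induction_on with | _ n ih => ?_
  intro B hn hB hc hle
  have := Fintype.ofFinite X
  have := Fintype.ofFinite V
  let St : V → Subgroup X := fun u => B ⊓ Pw X (closure {w | ∃ c ∈ B, w = dl c u})
  have hSt : ∀ u b, b ∈ St u ↔ b ∈ B ∧ ∀ c ∈ B, b • dl c u = dl c u := fun u b =>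
    and_congr_right fun _ => ⟨fun h c hc => h _ (subset_closure ⟨c, hc, rfl⟩), fun h =>
      (closure_le (Wa V b)).2 (by rintro _ ⟨c, hc, rfl⟩; exact h c hc)⟩
  have count : ∀ u (t : Finset V), (∀ b ∈ B, ∀ c ∈ Fx V B, dl b u * c ∈ t) →
      Nat.card B * Nat.card (Fx V B) ≤ t.card * Nat.card (St u) := by
    intro u t ht
    rw [← Frob.card_sub, ← Frob.card_sub, ← card_product]
    refine Frob.card_fiber_le _ _ (fun x : X × V => dl x.1 u * x.2) _ (fun x hx => ?_) fun w _ => ?_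
    · simp only [mem_product, mem_filter, mem_univ, true_and] at hx
      exact ht _ hx.1 _ hx.2
    rw [← card_image_of_injOn (f := Prod.fst) (fun x hx y hy e => Prod.ext e (by
      have h1 := (mem_filter.1 hx).2
      have h2 := (mem_filter.1 hy).2
      rw [e, ← h2] at h1
      exact mul_left_cancel h1))]
    refine Frob.card_le_of_coset _ _ fun a ha b hb => ?_
    simp only [mem_image, mem_product, mem_filter, mem_univ, true_and] at ha hb
    obtain ⟨⟨a, x⟩, ⟨⟨a1, a2⟩, a3⟩, rfl⟩ := ha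
    obtain ⟨⟨b, y⟩, ⟨⟨b1, b2⟩, b3⟩, rfl⟩ := hb
    refine (hSt _ _).2 ⟨mul_mem (inv_mem a1) b1, fun c hc' => ?_⟩
    have e : ∀ a ∈ B, ∀ x ∈ Fx V B, dl c (dl a u * x) = a • dl c u * (dl c u)⁻¹ := fun a a1 x a2 => by
      rw [map_mul, dl_apply c x, a2 c hc', mul_inv_cancel, mul_one, dl_apply a, map_mul, map_inv, dl_comm (hc c hc' a a1)]
    have e3 := (e a a1 x a2).symm.trans ((congrArg _ (a3.trans b3.symm)).trans (e b b1 y b2))
    rw [mul_smul, ← mul_right_cancel e3, inv_smul_smul]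
  by_cases hall : ∀ u, B ≤ St u
  · exact ⟨B, le_rfl, hB, hle, fun a ha v b hb => ((hSt _ _).1 (hall v hb)).2 a ha⟩
  push Not at hall
  obtain ⟨u, hu⟩ := hall
  by_cases hb : St u = ⊥
  · have h1 := hle.trans (count u (((univ.filter (· ∈ B)) ×ˢ (univ.filter (· ∈ Fx V B))).image fun x => dl x.1 u * x.2)
      fun b hb c hc => mem_image.2 ⟨(b, c), by simp [hb, hc], rfl⟩)
    rw [hb, card_bot, mul_one, Nat.card_eq_fintype_card] at h1
    obtain ⟨⟨a, c⟩, h2, h3⟩ := mem_image.1 ((eq_univ_of_card _ (le_antisymm (card_le_univ _) h1)).ge (mem_univ u⁻¹))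
    simp only [mem_product, mem_filter, mem_univ, true_and] at h2
    have h4 : u = c⁻¹ := by
      rw [dl_apply, mul_right_comm, mul_eq_right, mul_eq_one_iff_eq_inv, smul_eq_iff_eq_inv_smul, smul_inv',
        h2.2 _ (inv_mem h2.1)] at h3
      exact h3
    refine absurd (fun b hb => (hSt _ _).2 ⟨hb, fun d hd => ?_⟩) hu
    rw [dl_apply, h4, inv_mem h2.2 d hd, mul_inv_cancel, smul_one]
  · obtain ⟨C, h1, h2⟩ := ih _ (hn ▸ card_lt inf_le_left fun e => hu e.ge) (St u) rfl hb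
      (fun a ha b hb => hc a ha.1 b hb.1) (hle.trans ((count u (univ.filter (· ∈ Fx V (St u))) fun b hb c hc =>
        mem_filter.2 ⟨mem_univ _, mul_mem (fun d hd => ((hSt _ _).1 hd).2 b hb) fun d hd => hc d hd.1⟩).trans
          (by rw [Frob.card_sub, mul_comm])))
    exact ⟨C, h1.trans inf_le_left, h2⟩

theorem exists_fix {x : X} (hx : PE 2 x) {Y : Type*} [MulAction X Y] [Finite Y] (h : 2 ∣ Nat.card Y) {a : Y}
    (ha : x • a = a) : ∃ b, b ≠ a ∧ x • b = b := by
  obtain ⟨n, hn⟩ := hx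
  obtain ⟨b, h1, h2⟩ := (isP_zpowers Nat.prime_two hn).exists_fixed_point_of_prime_dvd_card_of_fixed_point Y h
    (a := a) fun g => zpowers_le_of_mem (H := MulAction.stabilizer X a) ha g.2
  exact ⟨b, h2.symm, h1 ⟨x, mem_zpowers x⟩⟩

omit [Finite V] in
theorem exists_comm_i2 {x : X} (hx : PE 2 x) {U : Subgroup X} (hU : IsPGroup 2 U) (h : U ≠ ⊥) (hn : x ∈ Nm U) :
    ∃ u ∈ U, I2 u ∧ Commute x u := by
  obtain ⟨n, hn'⟩ := hU.exists_card_eq
  obtain ⟨m, hm⟩ := hx
  obtain ⟨b, h1, h2⟩ := exists_fix (X := Nm U) (x := ⟨x, hn⟩) ⟨m, Subtype.ext hm⟩ (Y := U) (hn' ▸ dvd_pow_self 2 fun e =>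
    h (card_eq_one.1 (by simpa [e] using hn'))) (smul_one _)
  obtain ⟨k, hk⟩ := exists_i2_pow ((pe_of_mem hU b.2).dvd Nat.prime_two fun e => h1 (Subtype.ext e))
  exact ⟨_, pow_mem b.2 k, hk, Commute.pow_right (mul_inv_eq_iff_eq_mul.1 (congrArg Subtype.val h2)) k⟩

variable (X V) in
/-- the hypotheses -/
structure Md : Prop where
  h : EPPO X
  two : ∀ v : V, v * v = 1
  faith : ∀ x : X, (∀ v : V, x • v = v) → x = 1
  fp : ∀ (x : X) (v : V), v ≠ 1 → x • v = v → PE 2 x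
  nO : ∀ N : Subgroup X, N.Normal → IsPGroup 2 N → N = ⊥

namespace Md

variable (M : Md X V)
include M

omit [Finite X] [Finite V] in
theorem inv (v : V) : v⁻¹ = v := inv_eq_of_mul_eq_one_right (M.two v)

omit [Finite X] [Finite V] in
theorem dl_mem {a : X} (ha : a * a = 1) (v : V) : dl a v ∈ Wa V a := by
  rw [mem_Wa, dl_apply, M.inv, smul_mul', ← mul_smul, ha, one_smul, mul_comm]

omit [Finite X] in
theorem p2 : IsPGroup 2 V := fun v => ⟨1, by rw [pow_one, sq, M.two]⟩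

omit [Finite V] in
theorem exists_odd {a : X} (ha : I2 a) : ∃ g, ¬ PE 2 (a * (g * a * g⁻¹)) := by
  by_contra h
  push Not at h
  have h1 := baer (p := 2) (D := {y | ∃ g, y = g * a * g⁻¹}) (by rintro _ ⟨g, rfl⟩ x; exact ⟨x * g, by group⟩) (by
    rintro _ ⟨g, rfl⟩ _ ⟨g', rfl⟩
    refine dihedral_pe (ha.conj g).1 (ha.conj g').1 ?_
    convert (h (g⁻¹ * g')).conj g using 1
    group)
  refine ha.2 ((M.nO _ ⟨fun x hx g => ?_⟩ h1).le (subset_closure ⟨1, by simp⟩))
  refine closure_induction (fun z hz => subset_closure ?_) (by simp) (fun a b _ _ ha hb => by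
    simpa using mul_mem ha hb) (fun a _ ha => by simpa [mul_assoc] using inv_mem ha) hx
  obtain ⟨y, rfl⟩ := hz
  exact ⟨g * y, by group⟩

omit [Finite V] in
theorem exists_opp {a : X} (ha : I2 a) : ∃ g, ∀ v ∈ Wa V a, v ∈ Wa V (g * a * g⁻¹) → v = 1 :=
  let ⟨g, hg⟩ := M.exists_odd ha
  ⟨g, fun v h1 h2 => by_contra fun e => hg (M.fp _ v e (by rw [mul_smul, h2, h1]))⟩

theorem card_Wa {a : X} (ha : I2 a) : Nat.card V = Nat.card (Wa V a) ^ 2 ∧ (dl a).range = Wa V a := by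
  obtain ⟨g, hg⟩ := M.exists_opp ha
  have h1 := card_mul_le (A := Wa V a) (B := Wa V (g * a * g⁻¹)) le_top le_top (eq_bot_iff.2 fun v hv => hg v hv.1 hv.2)
  have h2 : (dl a).range ≤ Wa V a := by rintro _ ⟨v, rfl⟩; exact M.dl_mem ha.1 v
  have h3 := (dl a : V →* V).ker.card_mul_index
  rw [index_ker, ker_dl] at h3
  rw [card_Wa_conj, card_top, ← h3] at h1
  have h4 := eq_of_card_le h2 (Nat.le_of_mul_le_mul_left h1 (card_pos' _))
  exact ⟨by rw [← h3, h4, sq], h4⟩

end Md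

end Cfsg.Agent.EP
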