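import Cfsg.Agent.EP.Mod

/-! Transvection groups. -/

set_option autoImplicit false

namespace Cfsg.Agent.EP

open Subgroup Finset Cfsg.Agent.SC3

variable {X V : Type*} [Group X] [CommGroup V] [MulDistribMulAction X V]

variable (V) in
/-- the group of transvections -/
abbrev UU (a : X) : Subgroup X := Pw X (Wa V a)

theorem mem_UU {a x : X} : x ∈ UU V a ↔ ∀ w ∈ Wa V a, x • w = w := Iff.rfl

theorem self_UU (a : X) : a ∈ UU V a := fun _ h => h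

theorem smul_eq_dl (a : X) (v : V) : a • v = dl a v * v := by rw [dl_apply, inv_mul_cancel_right]

theorem mem_Wa_conj' {a g : X} {v : V} : v ∈ Wa V (g * a * g⁻¹) ↔ g⁻¹ • v ∈ Wa V a := by
  rw [← mem_Wa_conj (g := g) (a := a), smul_inv_smul]

theorem UU_conj (a g : X) : UU V (g * a * g⁻¹) = cj g (UU V a) := ext fun x => by
  rw [mem_cj, mem_UU, mem_UU]
  refine ⟨fun h w hw => by rw [mul_smul, mul_smul, h _ (mem_Wa_conj.2 hw), inv_smul_smul], fun h w hw => ?_⟩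
  have := h _ (mem_Wa_conj'.1 hw)
  rwa [mul_smul, smul_inv_smul, mul_smul, smul_left_cancel_iff] at this

theorem smul_ne {g : X} {v : V} (h : v ≠ 1) : g • v ≠ 1 := fun e => h (by simpa using congrArg (g⁻¹ • ·) e)

variable (V) in
/-- transvections -/
def Tv (a : X) : Prop := I2 a ∧ Nat.card (Wa V a) ≤ Nat.card (UU V a)

theorem Tv.conj {a : X} (h : Tv V a) (g : X) : Tv V (g * a * g⁻¹) :=
  ⟨h.1.conj g, by rw [UU_conj, card_cj, card_Wa_conj]; exact h.2⟩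

theorem nm_UU {a x : X} [Finite X] (h : Wa V (x * a * x⁻¹) = Wa V a) : x ∈ Nm (UU V a) :=
  cj_eq_iff.1 (by rw [← UU_conj, UU, h])

variable [Finite X] [Finite V]

namespace Md

variable (M : Md X V)
include M

omit [Finite X] [Finite V] in
theorem exists_dl {W : Subgroup V} (hW : W ≠ ⊤) {x : X} (hx : PE 2 x) : ∃ v ∉ W, dl x v ∈ W := by
  obtain ⟨n, hn⟩ := hx
  induction n generalizing x with
  | zero =>
    obtain ⟨v, -, hv⟩ := SetLike.exists_of_lt hW.lt_top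
    exact ⟨v, hv, by rw [show x = 1 by simpa using hn, dl_apply, one_smul, mul_inv_cancel]; exact one_mem _⟩
  | succ n ih =>
    obtain ⟨v, h1, h2⟩ := ih (x := x * x) (by rw [← sq, ← pow_mul, ← pow_succ', hn])
    by_cases h : dl x v ∈ W
    · exact ⟨v, h1, h⟩
    refine ⟨_, h, ?_⟩
    convert h2 using 1
    simp only [dl_apply, M.inv, smul_mul', mul_smul]
    rw [mul_assoc, ← mul_assoc (x • v), M.two, one_mul]

theorem card_eq {a b : X} (ha : I2 a) (hb : I2 b) : Nat.card (Wa V a) = Nat.card (Wa V b) :=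
  Nat.pow_left_injective two_ne_zero ((M.card_Wa ha).1.symm.trans (M.card_Wa hb).1)

omit [Finite X] [Finite V] in
theorem ne_top {a : X} (ha : a ≠ 1) : Wa V a ≠ ⊤ := fun e => ha (M.faith a fun v => e.ge (mem_top v))

theorem two_le {a : X} (ha : I2 a) : 2 ≤ Nat.card (Wa V a) := by
  have h1 := card_lt le_top (M.ne_top ha.2)
  have := card_pos' (Wa V a)
  rw [card_top, (M.card_Wa ha).1] at h1
  nlinarith

theorem exists_w {a : X} (ha : I2 a) : ∃ w ∈ Wa V a, w ≠ 1 :=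
  (ne_bot_iff_exists_ne_one.1 ((one_lt_card_iff_ne_bot _).1 (M.two_le ha))).elim fun w h =>
    ⟨w, w.2, fun e => h (Subtype.ext e)⟩

theorem pU {a : X} (ha : I2 a) : IsPGroup 2 (UU V a) :=
  let ⟨w, h1, h2⟩ := M.exists_w ha
  isP_of_pe fun x hx => M.fp x w h2 (hx w h1)

theorem Wa_eq {a x : X} (ha : I2 a) (hx : x ∈ UU V a) (h1 : x ≠ 1) : Wa V x = Wa V a := by
  obtain ⟨k, hk⟩ := exists_i2_pow ((pe_of_mem (M.pU ha) hx).dvd Nat.prime_two h1)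
  have h2 : Wa V x ≤ Wa V (x ^ k) := fun v hv => pow_mem (self_UU x) k v hv
  exact (eq_of_card_le hx ((card_le_of_le h2).trans (M.card_eq hk ha).le)).symm

theorem dl_U {a x : X} (ha : I2 a) (hx : x ∈ UU V a) (v : V) : dl x v ∈ Wa V a := by
  obtain ⟨z, h1, h2⟩ := exists_i2 (M.pU ha) fun e => ha.2 (e.le (self_UU a))
  have h3 := M.Wa_eq ha h1.1 h2.2
  rw [← h3, ← ker_dl, MonoidHom.mem_ker, dl_apply x, map_mul, map_inv, ← dl_comm (mem_Ce.1 h1.2 x hx),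
    hx _ (h3 ▸ M.dl_mem h2.1 v), mul_inv_cancel]

theorem U_comm {a x y : X} (ha : I2 a) (hx : x ∈ UU V a) (hy : y ∈ UU V a) : Commute x y := by
  have : ∀ x ∈ UU V a, ∀ y ∈ UU V a, ∀ v : V, (x * y) • v = dl y v * (dl x v * v) := fun x hx y hy v => by
    rw [mul_smul, smul_eq_dl y v, smul_mul', hx _ (M.dl_U ha hy v), ← smul_eq_dl]
  refine mul_inv_eq_one.1 (M.faith _ fun v => ?_)
  obtain ⟨v, rfl⟩ := (MulAction.toPerm (y * x)).surjective v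
  change _ • (y * x) • v = (y * x) • v
  rw [mul_smul, inv_smul_smul, this x hx y hy, this y hy x hx, mul_left_comm]

theorem U_sq {a x : X} (ha : I2 a) (hx : x ∈ UU V a) : x * x = 1 := M.faith _ fun v => by
  rw [mul_smul, smul_eq_dl x v, smul_mul', hx _ (M.dl_U ha hx v), smul_eq_dl x v, ← mul_assoc, M.two, one_mul]

theorem dl_mul {a x y : X} (ha : I2 a) (hx : x ∈ UU V a) (hy : y ∈ UU V a) (v : V) :
    dl (x * y) v = dl x v * dl y v := by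
  rw [dl_apply, mul_smul, smul_eq_dl y v, smul_mul', hx _ (M.dl_U ha hy v), dl_apply x, mul_assoc, mul_comm]

theorem reg {a : X} (ha : Tv V a) {v : V} (hv : v ∉ Wa V a) :
    Nat.card (UU V a) = Nat.card (Wa V a) ∧ ∀ w ∈ Wa V a, ∃ u ∈ UU V a, dl u v = w := by
  let f : UU V a → Wa V a := fun u => ⟨dl u.1 v, M.dl_U ha.1 u.2 v⟩
  have h1 : Function.Injective f := fun x y e => Subtype.ext (by
    have h2 : x.1 • v = y.1 • v := mul_right_cancel (congrArg Subtype.val e)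
    by_contra h
    refine hv ((M.Wa_eq ha.1 (mul_mem (inv_mem x.2) y.2) fun e => h (inv_mul_eq_one.1 e)).le ?_)
    rw [mem_Wa, mul_smul, ← h2, inv_smul_smul])
  have h2 := le_antisymm (Nat.card_le_card_of_injective f h1) ha.2
  refine ⟨h2, fun w hw => ?_⟩
  obtain ⟨u, hu⟩ := (h1.bijective_of_nat_card_le h2.ge).2 ⟨w, hw⟩
  exact ⟨u, u.2, congrArg Subtype.val hu⟩

theorem card_U {a : X} (ha : Tv V a) : Nat.card (UU V a) = Nat.card (Wa V a) :=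
  let ⟨_, _, hv⟩ := SetLike.exists_of_lt (M.ne_top ha.1.2).lt_top
  (M.reg ha hv).1

theorem coset {a x : X} (ha : Tv V a) (hx : PE 2 x) : ∃ v ∉ Wa V a, ∃ u ∈ UU V a, (u⁻¹ * x) • v = v := by
  obtain ⟨v, h1, h2⟩ := M.exists_dl (M.ne_top ha.1.2) hx
  obtain ⟨u, h3, h4⟩ := (M.reg ha h1).2 _ h2
  exact ⟨v, h1, u, h3, by rw [mul_smul, ← mul_right_cancel h4, inv_smul_smul]⟩

theorem disj {a b : X} (ha : Tv V a) (hb : Tv V b) {w : V} (h1 : w ∈ Wa V a) (h2 : w ∈ Wa V b) (h : w ≠ 1) :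
    Wa V a = Wa V b := by
  obtain ⟨z, h3, h4⟩ := exists_i2 (S := MulAction.stabilizer X w) (isP_of_pe fun x hx => M.fp x w h hx)
    fun e => ha.1.2 (e.le h1)
  have : ∀ a, Tv V a → w ∈ Wa V a → Wa V z = Wa V a := fun a ha h1 => by
    obtain ⟨v, h5, u, h6, h7⟩ := M.coset ha h4.pe
    refine M.Wa_eq ha.1 ((mul_mem_cancel_left (inv_mem h6)).1 fun w' hw => ?_) h4.2
    obtain ⟨c, h8, rfl⟩ := (M.reg ha h5).2 _ hw
    rw [dl_comm ((M.U_comm ha.1 h8 (inv_mem h6)).mul_right (mem_Ce.1 h3.2 c (h8 w h1)).symm), h7]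
  exact (this a ha h1).symm.trans (this b hb h2)

theorem decomp {a b : X} (ha : I2 a) (hb : I2 b) (h : ∀ v ∈ Wa V a, v ∈ Wa V b → v = 1) (v : V) :
    ∃ w ∈ Wa V a, ∃ w' ∈ Wa V b, v = w * w' := by
  obtain ⟨⟨w, w'⟩, h1⟩ := (isComplement'_of_card_mul_and_disjoint (H := Wa V a) (K := Wa V b)
    (by rw [← M.card_eq ha hb, (M.card_Wa ha).1, sq]) (disjoint_def.2 fun h1 h2 => h _ h1 h2)).2 v
  exact ⟨w, w.2, w', w'.2, h1.symm⟩

theorem spread {a : X} (ha : Tv V a) (v : V) : ∃ g : X, v ∈ Wa V (g * a * g⁻¹) := by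
  by_cases hv : v ∈ Wa V a
  · exact ⟨1, by simpa using hv⟩
  obtain ⟨g, hg⟩ := M.exists_opp ha.1
  obtain ⟨w, h1, w', h2, rfl⟩ := M.decomp ha.1 (ha.1.conj g) hg v
  obtain ⟨u, -, h3⟩ := (M.reg ha (v := w') fun e => hv (mul_mem h1 e)).2 w h1
  exact ⟨u * g, by rw [← h3, ← smul_eq_dl, show u * g * a * (u * g)⁻¹ = u * (g * a * g⁻¹) * u⁻¹ by group]; exact mem_Wa_conj.2 h2⟩

theorem norm {a g : X} (ha : Tv V a) {w : V} (h1 : w ∈ Wa V a) (h2 : g • w ∈ Wa V a) (h : w ≠ 1) :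
    Wa V (g * a * g⁻¹) = Wa V a :=
  M.disj (ha.conj g) ha (mem_Wa_conj.2 h1) h2 (smul_ne h)

theorem exists_fix' {x y : X} (hx : I2 x) (hy : I2 y) (h : PE 2 (x * y)) : ∃ w ∈ Wa V x, w ∈ Wa V y ∧ w ≠ 1 := by
  obtain ⟨n, hn⟩ := M.p2.exists_card_eq
  obtain ⟨b, h1, h2⟩ := (dihedral_pe hx.1 hy.1 h).exists_fixed_point_of_prime_dvd_card_of_fixed_point V
    (hn ▸ dvd_pow_self 2 fun e => by
      have := M.two_le hx
      rw [e, (M.card_Wa hx).1] at hn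
      nlinarith) (a := 1) fun g => smul_one _
  exact ⟨b, h1 ⟨x, subset_closure (by simp)⟩, h1 ⟨y, subset_closure (by simp)⟩, h2.symm⟩

theorem mem_U {a x : X} (ha : Tv V a) (hx : PE 2 x) (h : Wa V (x * a * x⁻¹) = Wa V a) : x ∈ UU V a := by
  obtain ⟨v, h1, u, h2, h3⟩ := M.coset ha hx
  obtain ⟨g, hg⟩ := M.spread ha v
  have hb := ha.conj g
  have h0 : v ≠ 1 := fun e => h1 (e ▸ one_mem _)
  have h4 := M.fp _ v h0 h3
  obtain ⟨c, c1, c2, c3⟩ := exists_comm_i2 h4 (M.pU ha.1) (fun e => ha.1.2 (e.le (self_UU a)))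
    (mul_mem (le_Nm _ (inv_mem h2)) (nm_UU h))
  obtain ⟨d, d1, d2, d3⟩ := exists_comm_i2 h4 (M.pU hb.1) (fun e => hb.1.2 (e.le (self_UU _)))
    (nm_UU (M.norm hb hg (h3.symm ▸ hg) h0))
  have h5 : ¬ PE 2 (c * d) := fun e => by
    obtain ⟨w, e1, e2, e3⟩ := M.exists_fix' c2 d2 e
    rw [M.Wa_eq ha.1 c1 c2.2] at e1
    rw [M.Wa_eq hb.1 d1 d2.2] at e2
    exact h1 ((M.disj ha hb e1 e2 e3).ge hg)
  rw [← inv_mul_eq_one.1 (by_contra fun e => h5 (M.h.pe_comm Nat.prime_two h4 e (c3.mul_right d3)))]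
  exact h2

theorem stab {a x : X} (ha : Tv V a) {w : V} (h1 : w ∈ Wa V a) (h : w ≠ 1) (hx : x • w = w) : x ∈ UU V a :=
  M.mem_U ha (M.fp x w h hx) (M.norm ha h1 (hx.symm ▸ h1) h)

theorem of_pe {a x : X} (ha : Tv V a) (hx : PE 2 x) : ∃ g, x ∈ UU V (g * a * g⁻¹) := by
  obtain ⟨v, h1, h2⟩ := M.exists_dl (W := ⊥) (fun e => M.ne_top ha.1.2 (top_le_iff.1 (e.ge.trans bot_le))) hx
  obtain ⟨g, hg⟩ := M.spread ha v
  exact ⟨g, M.stab (ha.conj g) hg h1 (mul_inv_eq_one.1 h2)⟩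

theorem tv {a b : X} (ha : Tv V a) (hb : I2 b) : Tv V b := by
  obtain ⟨g, hg⟩ := M.of_pe ha hb.pe
  refine ⟨hb, ?_⟩
  rw [UU, M.Wa_eq (ha.1.conj g) hg hb.2]
  exact (ha.conj g).2

theorem cen {a x : X} (ha : Tv V a) (h : Commute a x) : x ∈ UU V a :=
  M.mem_U ha (M.h.pe_comm Nat.prime_two ha.1.pe ha.1.2 h) (by rw [← h.eq, mul_inv_cancel_right])

theorem trans {a : X} (ha : Tv V a) {v v' : V} (h : v ≠ 1) (h' : v' ≠ 1) : ∃ g : X, g • v = v' := by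
  obtain ⟨g, hg⟩ := M.exists_opp ha.1
  have hb := ha.conj g
  have h1 : ∀ a b : X, Tv V a → (∀ v ∈ Wa V a, v ∈ Wa V b → v = 1) → ∀ w ∈ Wa V a, ∀ w' ∈ Wa V b, w' ≠ 1 →
      w * w' ∈ MulAction.orbit X w' := fun a b ha h w hw w' hw' e =>
    let ⟨u, _, hu⟩ := (M.reg ha (v := w') fun e' => e (h _ e' hw')).2 w hw
    ⟨u, (smul_eq_dl u w').trans (by rw [hu])⟩
  have h2 : ∀ w ∈ Wa V a, ∀ w' ∈ Wa V (g * a * g⁻¹), w ≠ 1 → w' ≠ 1 → MulAction.orbit X w = MulAction.orbit X w' :=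
    fun w hw w' hw' e e' => (MulAction.orbit_eq_iff.2 (h1 _ _ hb (fun v h1 h2 => hg v h2 h1) w' hw' w hw e)).symm.trans
      (MulAction.orbit_eq_iff.2 (mul_comm w w' ▸ h1 _ _ ha hg w hw w' hw' e'))
  obtain ⟨w, w1, w2⟩ := M.exists_w ha.1
  obtain ⟨w', w3, w4⟩ := M.exists_w hb.1
  have h3 : ∀ v : V, v ≠ 1 → MulAction.orbit X v = MulAction.orbit X w := fun v e => by
    obtain ⟨x, x1, y, y1, rfl⟩ := M.decomp ha.1 hb.1 hg v
    by_cases e' : y = 1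
    · rw [e', mul_one] at e ⊢
      exact (h2 x x1 w' w3 e w4).trans (h2 w w1 w' w3 w2 w4).symm
    exact (MulAction.orbit_eq_iff.2 (h1 _ _ ha hg x x1 y y1 e')).trans (h2 w w1 y y1 w2 e').symm
  exact MulAction.orbit_eq_iff.1 ((h3 v' h').trans (h3 v h).symm)

theorem card_X {a : X} (ha : Tv V a) : Nat.card X = (Nat.card (Wa V a) ^ 2 - 1) * Nat.card (Wa V a) := by
  obtain ⟨w, w1, w2⟩ := M.exists_w ha.1
  have := Frob.card_orbit (⊤ : Subgroup X) w (nt ⊤) fun s => by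
    rw [mem_nt]
    exact ⟨fun h => let ⟨g, hg⟩ := M.trans ha w2 h.2; ⟨g, trivial, hg⟩, fun ⟨g, _, hg⟩ => ⟨trivial, hg ▸ smul_ne w2⟩⟩
  rwa [card_nt, card_top, card_top, top_inf_eq, (M.card_Wa ha.1).1, show MulAction.stabilizer X w = UU V a from
    le_antisymm (fun x hx => M.stab ha w1 w2 hx) fun x hx => hx w w1, M.card_U ha] at this

end Md

end Cfsg.Agent.EP
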