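import Cfsg.Agent.EP.Mod2

/-! The structure of the group acting on a failure of factorization module. -/

set_option autoImplicit false

namespace Cfsg.Agent.EP

open Subgroup Finset Cfsg.Agent.SC3

theorem sl2_equiv {F F' : Type*} [Field F] [Field F'] [Fintype F] [Fintype F'] (h : Fintype.card F = Fintype.card F') :
    Nonempty (Matrix.SpecialLinearGroup (Fin 2) F ≃* Matrix.SpecialLinearGroup (Fin 2) F') := by
  let e := FiniteField.ringEquivOfCardEq h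
  exact ⟨MonoidHom.toMulEquiv (Matrix.SpecialLinearGroup.map (e : F →+* F'))
    (Matrix.SpecialLinearGroup.map (e.symm : F' →+* F)) (by ext; simp) (by ext; simp)⟩

variable {X V : Type*} [Group X] [CommGroup V] [MulDistribMulAction X V] [Finite X] [Finite V]

namespace Md

variable (M : Md X V)
include M

theorem exists_tv {A : Subgroup X} (h0 : A ≠ ⊥) (hc : ∀ a ∈ A, ∀ b ∈ A, Commute a b)
    (h : Nat.card V ≤ Nat.card A * Nat.card (Fx V A)) : ∃ a ∈ A, Tv V a := by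
  obtain ⟨B, h1, h2, h3, h4⟩ := offender _ A rfl h0 hc h
  obtain ⟨⟨a, ha⟩, h5⟩ := ne_bot_iff_exists_ne_one.1 h2
  have h6 : I2 a := ⟨M.faith _ fun v => by
    rw [mul_smul, smul_eq_dl a v, smul_mul', h4 a ha v a ha, smul_eq_dl a v, ← mul_assoc, M.two, one_mul],
    fun e => h5 (Subtype.ext e)⟩
  have h7 : Fx V B = Wa V a := le_antisymm (fun v hv => hv a ha) (by
    rw [← (M.card_Wa h6).2]; rintro _ ⟨v, rfl⟩; exact h4 a ha v)
  rw [h7, (M.card_Wa h6).1, sq] at h3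
  exact ⟨a, h1 ha, h6, (Nat.le_of_mul_le_mul_right h3 (card_pos' _)).trans
    (card_le_of_le fun b hb w hw => h7.ge hw b hb)⟩

theorem wa_of_nm {a g : X} (ha : I2 a) (hg : g ∈ Nm (UU V a)) : Wa V (g * a * g⁻¹) = Wa V a :=
  M.Wa_eq ha (Nm_conj hg (self_UU a)) (ha.conj g).2

theorem exists_three {a : X} (ha : Tv V a) :
    ∃ b, I2 b ∧ (∀ v ∈ Wa V a, v ∈ Wa V b → v = 1) ∧ (a * b) ^ 3 = 1 := by
  obtain ⟨g, hg⟩ := M.exists_opp ha.1
  have hb := ha.conj g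
  obtain ⟨w, w1, w2⟩ := M.exists_w hb.1
  have h1 := M.dl_mem ha.1.1 w
  have h2 : dl a w ≠ 1 := fun e => w2 (hg w (mul_inv_eq_one.1 e) w1)
  obtain ⟨b, h3, h4⟩ := (M.reg hb (v := dl a w) fun e => h2 (hg _ h1 e)).2 w w1
  have h5 : b ≠ 1 := fun e => w2 (by rw [← h4, e, dl_apply, one_smul, mul_inv_cancel])
  have h6 : I2 b := ⟨M.U_sq hb.1 h3, h5⟩
  rw [← M.Wa_eq hb.1 h3 h5] at hg w1
  refine ⟨b, h6, hg, by_contra fun e => ?_⟩
  have e1 : (a * b) • dl a w = w := by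
    rw [mul_smul, smul_eq_dl b, h4, smul_mul', h1, smul_eq_dl a, mul_right_comm, M.two, one_mul]
  have e2 : (a * b) • w = dl a w * w := by rw [mul_smul, w1, smul_eq_dl]
  obtain ⟨v, v1, v2, v3⟩ := M.exists_fix' ha.1 h6 (M.h.pe_comm Nat.prime_two (M.fp _ w w2 (by
    rw [pow_three, mul_smul (a * b), mul_smul (a * b), e2, smul_mul', e1, e2, mul_left_comm, M.two, mul_one, e1])) e
      ((Commute.refl _).pow_left 3))
  exact v3 (hg v v1 v2)

theorem key {a k : X} (ha : Tv V a) (hk : k ∈ Nm (UU V a)) (v : V) : k • dl a (k • v) = dl a v := by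
  obtain ⟨b, hb, h1, h2⟩ := M.exists_three ha
  have hb' := M.tv ha hb
  have nm : ∀ {a k : X}, I2 a → k ∈ Nm (UU V a) → ∀ v ∈ Wa V a, k • v ∈ Wa V a := fun ha hk v hv =>
    (M.wa_of_nm ha hk).le (mem_Wa_conj.2 hv)
  wlog hk' : k ∈ Nm (UU V b) generalizing k
  · obtain ⟨w, w1, w2⟩ := M.exists_w hb
    obtain ⟨x, x1, y, y1, e⟩ := M.decomp ha.1 hb h1 (k • w)
    obtain ⟨u, u1, u2⟩ := (M.reg ha (v := k • w) fun e => w2 (h1 _ (by simpa using nm ha.1 (inv_mem hk) _ e) w1)).2 x x1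
    have := this (mul_mem (le_Nm _ u1) hk) (nm_UU (M.norm hb' w1 (by
      rw [mul_smul, smul_eq_dl u, u2, e, ← mul_assoc, M.two, one_mul]; exact y1) w2))
    rwa [mul_smul, mul_smul, ← dl_comm (M.U_comm ha.1 (self_UU a) u1), u1 _ (M.dl_mem ha.1.1 _),
      u1 _ (nm ha.1 hk _ (M.dl_mem ha.1.1 _))] at this
  have e1 : a * b * a = b * a * b := by
    rw [← mul_inv_eq_one, ← h2, mul_inv_rev, mul_inv_rev, ha.1.inv, hb.inv, pow_three]; group
  have e2 : a * b * a * b * (a * b * a)⁻¹ = a := by rw [mul_inv_eq_iff_eq_mul, e1, mul_assoc _ b, hb.1, mul_one,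
    ← mul_assoc, ← mul_assoc, e1, mul_assoc _ b, hb.1, mul_one]
  have e3 : a * b * a * (a * b * a) = 1 := by simpa [ha.1.inv] using (hb.conj a).1
  have e4 : a * b * a * a * (a * b * a)⁻¹ = b := by
    rw [mul_inv_eq_iff_eq_mul, mul_assoc _ a, ha.1.1, mul_one, e1, ← mul_assoc, ← mul_assoc, hb.1, one_mul]
  have e5 : ∀ w ∈ Wa V a, dl a ((a * b * a) • w) = w := fun w hw => by
    have f1 : (a * b * a) • w = dl a (dl b w) * dl b w * w := by
      rw [mul_smul, mul_smul, hw, smul_eq_dl b, smul_mul', hw, smul_eq_dl a]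
    have f2 : (a * b * a) • w ∈ Wa V b := by simpa only [e4] using (mem_Wa_conj (g := a * b * a)).2 hw
    have f3 := M.dl_mem ha.1.1 (dl b w)
    rw [f1, mul_right_comm, mul_mem_cancel_right (M.dl_mem hb.1 w)] at f2
    rw [f1, map_mul, map_mul, (ker_dl a).ge f3, (ker_dl a).ge hw, one_mul, mul_one,
      eq_inv_of_mul_eq_one_left (h1 _ (mul_mem f3 hw) f2), M.inv]
  generalize a * b * a = t at e2 e3 e4 e5
  have f1 : cj (t * k) (UU V a) = UU V b := by rw [← cj_cj, cj_eq_iff.2 hk, ← UU_conj, e4]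
  have f2 : cj (t * k) (UU V b) = UU V a := by rw [← cj_cj, cj_eq_iff.2 hk', ← UU_conj, e2]
  obtain ⟨g, hg⟩ := M.of_pe ha (M.h.pe_two (x := t * k) fun e => by
    have f3 := cj_eq_iff.2 (mem_of_sq_mem (U := Nm (UU V a)) e (cj_eq_iff.1 (by rw [← cj_cj, f1, f2])))
    obtain ⟨w, w1, w2⟩ := M.exists_w ha.1
    exact w2 (h1 w w1 ((f1.symm.trans f3).le (self_UU b) w w1)))
  have f3 : k * t = t * k⁻¹ := by
    rw [← mul_left_cancel_iff (a := t), ← mul_assoc t t, e3, one_mul, eq_inv_iff_mul_eq_one,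
      ← M.U_sq (ha.1.conj g) hg]; group
  obtain ⟨x, x1, y, y1, rfl⟩ := M.decomp ha.1 hb h1 v
  have f4 : t • y ∈ Wa V a := e2 ▸ mem_Wa_conj.2 y1
  have f5 : y = t • t • y := by rw [← mul_smul, e3, one_smul]
  rw [smul_mul', map_mul, map_mul, (ker_dl a).ge x1, (ker_dl a).ge (nm ha.1 hk x x1), one_mul, one_mul, f5, e5 _ f4,
    ← mul_smul k, f3, mul_smul, e5 _ (nm ha.1 (inv_mem hk) _ f4), smul_inv_smul]

theorem sl2 {a : X} (ha : Tv V a) (h : Nat.card (Wa V a) ≠ 2) : ∃ (F : Type) (_ : Field F) (_ : Fintype F),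
    Fintype.card F = Nat.card (Wa V a) ∧ (Fintype.card F = 4 ∨ Fintype.card F = 8) ∧
      Nonempty (X ≃* Matrix.SpecialLinearGroup (Fin 2) F) := by
  have h1 := M.two_le ha.1
  obtain ⟨s, h2, h3⟩ := SetLike.exists_of_lt ((zpowers_le_of_mem (self_UU (V := V) a)).lt_of_ne fun e => h (by
    rw [← M.card_U ha, ← e, Nat.card_zpowers, i2_iff.1 ha.1]))
  obtain ⟨b, hb, h4, -⟩ := M.exists_three ha
  obtain ⟨F, _, _, _, h5, ⟨e⟩⟩ := sl2_of_hyp M.h (fun t x y ht hx hy => M.U_comm ht (M.cen (M.tv ha ht) hx)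
    (M.cen (M.tv ha ht) hy)) ha.1 ⟨M.U_sq ha.1 h2, fun e => h3 (e ▸ one_mem _)⟩ (fun e => h3 (e ▸ mem_zpowers a))
    (M.U_comm ha.1 (self_UU a) h2) ha.1 hb fun e =>
      let ⟨w, w1, w2⟩ := M.exists_w ha.1; w2 (h4 w w1 (M.cen ha e w w1))
  refine ⟨F, inferInstance, inferInstance, ?_, h5, ⟨e⟩⟩
  have h6 := SL2.card_sl (F := F)
  rw [← Nat.card_congr e.toEquiv, M.card_X ha] at h6
  generalize Nat.card (Wa V a) = q at *
  have h7 : q ≤ 8 := by
    by_contra h8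
    have : 80 * 9 ≤ (q ^ 2 - 1) * q := Nat.mul_le_mul (by nlinarith [Nat.sub_add_cancel (show 1 ≤ q ^ 2 by nlinarith)]) (by omega)
    rcases h5 with h5 | h5 <;> rw [h5] at h6 <;> omega
  rcases h5 with h5 | h5 <;> rw [h5] at h6 ⊢ <;> interval_cases q <;> omega

end Md

end Cfsg.Agent.EP
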