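import Cfsg.Agent.EP.OddF

/-! A group of odd order all of whose elements have prime power order is solvable. -/

namespace Cfsg.Agent.EP

open Cfsg.Agent.Thom Subgroup
open scoped Pointwise

universe u

theorem O.ti_sylow {G : Type*} [Group G] [Finite G] [IsSimpleGroup G] {p : ℕ} [hp : Fact p.Prime]
    (h : O.EPP G) (hp2 : p ≠ 2) (hG : ¬ Group.IsSolvable G)
    (hs : ∀ H : Subgroup G, H ≠ ⊤ → Group.IsSolvable H) (hd : p ∣ Nat.card G) (P : Sylow p G) :
    O.TI p (P : Subgroup G) where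
  pr := hp.out
  pg := P.isPGroup'
  ne := P.ne_bot_of_dvd_card hd
  cj g hg := by
    obtain ⟨Q, hQ⟩ := (show IsPGroup p (zpowers g) from fun ⟨_, i, rfl⟩ => hg.imp fun k e =>
      Subtype.ext (by
        change (g ^ i) ^ _ = 1
        rw [← zpow_natCast, ← zpow_mul, mul_comm, zpow_mul, zpow_natCast, e, one_zpow])).exists_le_sylow
    obtain ⟨y, rfl⟩ := MulAction.exists_smul_eq G P Q
    exact ⟨y, by simpa using mem_pointwise_smul_iff_inv_smul_mem.mp (hQ (mem_zpowers g))⟩
  ti x hx h1 y hy := by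
    by_contra hc
    have := O.sylow_ti h hp2 hG hs (P := P) (Q := y • P) fun e =>
      hc (Sylow.smul_eq_iff_mem_normalizer.mp e)
    exact h1 (this.le ⟨hx, mem_pointwise_smul_iff_inv_smul_mem.mpr (by simpa using hy)⟩)
  fpf x hx h1 l hl e := by
    have h2 : PE p l := h.comm h1 ((P.isPGroup' ⟨x, hx⟩).imp fun _ f => congrArg Subtype.val f)
      (mul_inv_eq_iff_eq_mul.mp e).symm
    have h3 : IsPGroup p (zpowers l) := fun ⟨_, i, rfl⟩ => h2.imp fun k e => Subtype.ext (by
      change (l ^ i) ^ _ = 1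
      rw [← zpow_natCast, ← zpow_mul, mul_comm, zpow_mul, zpow_natCast, e, one_zpow])
    exact (h3.inf_normalizer_sylow P).le ⟨mem_zpowers l, hl⟩ |>.2

theorem O.solv (n : ℕ) : ∀ (G : Type u) [Group G] [Finite G], Nat.card G = n → Odd n → O.EPP G →
    Group.IsSolvable G := by
  induction n using Nat.strong_induction_on with
  | _ n ih =>
  rintro G _ _ rfl ho h
  by_contra hG
  have hs : ∀ H : Subgroup G, H ≠ ⊤ → Group.IsSolvable H := fun H hH =>
    ih _ ((card_le_card_group H).lt_of_ne fun e => hH (eq_top_of_card_eq H e)) H rfl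
      (ho.of_dvd_nat (card_subgroup_dvd_card H)) (h.sub H)
  have : Nontrivial G := not_subsingleton_iff_nontrivial.mp fun _ => hG inferInstance
  have : IsSimpleGroup G := ⟨fun N hN => by
    by_contra! hc
    have := hs N hc.2
    have := ih _ (by
      rw [← N.card_mul_index]
      exact lt_mul_of_one_lt_left (Nat.pos_of_ne_zero N.index_ne_zero_of_finite)
        (N.one_lt_card_iff_ne_bot.mpr hc.1)) (G ⧸ N) rfl (ho.of_dvd_nat N.index_dvd_card)
      (h.surj _ (QuotientGroup.mk'_surjective N))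
    exact hG (Group.isSolvable_of_ker_le_range N.subtype (QuotientGroup.mk' N) (by simp))⟩
  have := Fintype.ofFinite G
  have key : ∀ p ∈ (Nat.card G).primeFactors, ∃ P : Subgroup G, O.TI p P := fun p hp => by
    have := Fact.mk (Nat.prime_of_mem_primeFactors hp)
    exact ⟨_, O.ti_sylow h (fun e => ho.not_two_dvd_nat (e ▸ Nat.dvd_of_mem_primeFactors hp)) hG hs
      (Nat.dvd_of_mem_primeFactors hp) default⟩
  choose! P hP using key
  refine O.not_ti (fun e => hG (Group.isSolvable_of_comm e.1.1)) ho hP fun g hg => ?_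
  obtain ⟨r, h1, h2⟩ := h g
  refine ⟨r, Nat.mem_primeFactors.mpr ⟨h1, by_contra fun e => hg (PP.eq_one ⟨_,
    ((Nat.Prime.coprime_iff_not_dvd h1).mpr e).symm, pow_card_eq_one'⟩ h2), Nat.card_pos.ne'⟩, h2⟩

theorem odd {G : Type*} [Group G] [Finite G] (hodd : Odd (Nat.card G))
    (h : ∀ g : G, g ≠ 1 → IsPrimePow (orderOf g)) : Group.IsSolvable G := by
  refine O.solv _ G rfl hodd fun g => ?_
  by_cases hg : g = 1
  · exact ⟨2, Nat.prime_two, 0, by simp [hg]⟩
  · obtain ⟨r, k, h1, -, h2⟩ := (isPrimePow_nat_iff _).mp (h g hg)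
    exact ⟨r, h1, k, h2 ▸ pow_orderOf_eq_one g⟩

end Cfsg.Agent.EP
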