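import Cfsg.Agent.Thom.Main

/-! Groups all of whose elements have prime power order: Sylow subgroups for odd primes of a
minimal simple group are TI-sets. -/

namespace Cfsg.Agent.EP.O

open Cfsg.Agent.Thom Subgroup
open scoped Pointwise commutatorElement

/-- all elements have prime power order -/
def EPP (G : Type*) [Group G] : Prop := ∀ g : G, ∃ r : ℕ, r.Prime ∧ PE r g

variable {G : Type*} [Group G] {p : ℕ}

theorem EPP.sub (h : EPP G) (H : Subgroup G) : EPP H := fun g => by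
  obtain ⟨r, h1, k, h2⟩ := h g
  exact ⟨r, h1, k, Subtype.ext h2⟩

theorem EPP.surj (h : EPP G) {K : Type*} [Group K] (f : G →* K) (hf : Function.Surjective f) :
    EPP K := fun g => by
  obtain ⟨g, rfl⟩ := hf g
  obtain ⟨r, h1, h2⟩ := h g
  exact ⟨r, h1, h2.map f⟩

theorem pe_mul {x y : G} (hx : PE p x) (hy : PE p y) (h : Commute x y) : PE p (x * y) := by
  obtain ⟨a, ha⟩ := hx
  obtain ⟨b, hb⟩ := hy
  refine ⟨a + b, ?_⟩
  rw [h.mul_pow, pow_add, pow_mul, ha, mul_comm, pow_mul, hb, one_pow, one_pow, one_mul]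

theorem pe_inv {x : G} (hx : PE p x) : PE p x⁻¹ := hx.imp fun _ h => by rw [inv_pow, h, inv_one]

variable [Finite G] [hp : Fact p.Prime]

theorem EPP.comm (h : EPP G) {x y : G} (h1 : x ≠ 1) (hx : PE p x) (hc : Commute x y) : PE p y := by
  obtain ⟨a, -, b, ⟨i, rfl⟩, ha, hb, e⟩ := exists_decomp (p := p) y
  have hc' := hc.zpow_right i
  obtain ⟨r, h2, h3⟩ := h (x * y ^ i)
  by_cases hr : r = p
  · subst hr
    have := pe_mul (pe_inv hx) h3 ((Commute.refl x).mul_right hc').inv_left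
    rw [inv_mul_cancel_left] at this
    simp only [hb.eq_one this, mul_one] at e
    rwa [e]
  · have := (pp_of_pe ((Nat.coprime_primes h2 hp.out).mpr hr) h3).mul_of_commute hb.inv
      (hc'.mul_left (Commute.refl _)).inv_right
    rw [mul_inv_cancel_right] at this
    exact absurd (this.eq_one hx) h1

omit hp in
theorem exists_ab [Nontrivial G] [Group.IsSolvable G] (h : EPP G) : ∃ (r : ℕ) (Z : Subgroup G),
    r.Prime ∧ Z.Normal ∧ Z ≠ ⊥ ∧ (∀ a ∈ Z, ∀ b ∈ Z, Commute a b) ∧ ∀ a ∈ Z, a ^ r = 1 := by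
  classical
  have h0 : ∃ n, derivedSeries G n = ⊥ := Group.IsSolvable.solvable
  obtain ⟨k, hk⟩ := Nat.exists_eq_succ_of_ne_zero (n := Nat.find h0) fun e => by
    have := Nat.find_spec h0
    rw [e] at this
    exact top_ne_bot this
  have h1 := Nat.find_spec h0
  rw [hk, derivedSeries_succ, commutator_eq_bot_iff_le_centralizer] at h1
  obtain ⟨⟨y, hy⟩, hy1⟩ := ne_bot_iff_exists_ne_one.mp (Nat.find_min h0 (hk ▸ k.lt_succ_self))
  obtain ⟨r, h2, h3⟩ := h y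
  have := Fact.mk h2
  have h4 := Om_ne_bot h3.zpowers (zpowers_ne_bot.mpr fun e => hy1 (Subtype.ext e))
  refine ⟨r, Om r (derivedSeries G k), h2, normalizer_eq_top_iff.mp (eq_top_iff.mpr
    ((normalizer_eq_top_iff.mpr (derivedSeries_normal G k)).ge.trans (Om_ch _).le_normalizer)),
    fun e => h4 (eq_bot_iff.mpr (e ▸ fun x hx => ?_)), fun a ha b hb => ha.2.1 b hb.1,
    fun a ha => ha.2.2⟩
  have h5 := zpowers_le.mpr hy hx.1
  exact ⟨h5, fun z hz => (h1 h5 z hz).symm, hx.2.2⟩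

theorem solv_struct [Group.IsSolvable G] (h : EPP G) (hp2 : p ≠ 2) {U : Subgroup G} [hUn : U.Normal]
    (hU : IsPGroup p U) (hU0 : U ≠ ⊥) (hmax : ∀ X : Subgroup G, X.Normal → IsPGroup p X → X ≤ U) :
    (∀ x g : G, PE p ⁅x, g⁆ → ⁅x, g⁆ ∈ U) ∧
      ∀ P A : Subgroup G, IsPGroup p P → U ≤ P → MEA p P A → A ≤ U := by
  by_cases hT : U = ⊤
  · simp [hT]
  set π := QuotientGroup.mk' U
  have hπ : Function.Surjective π := QuotientGroup.mk'_surjective U
  have : Nontrivial (G ⧸ U) := QuotientGroup.nontrivial_iff.mpr hT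
  have h' := h.surj π hπ
  obtain ⟨r, Z, hr, hZ, hZ0, hZc, hZr⟩ := exists_ab h'
  have := Fact.mk hr
  have hZ' : IsPGroup r Z := isPGroup_of_pe fun x hx => ⟨1, by rw [pow_one, hZr x hx]⟩
  obtain ⟨⟨z, hz⟩, hz1⟩ := ne_bot_iff_exists_ne_one.mp hZ0
  replace hz1 : z ≠ 1 := fun e => hz1 (Subtype.ext e)
  have hrp : r ≠ p := by
    rintro rfl
    obtain ⟨z, rfl⟩ := hπ z
    exact hz1 ((QuotientGroup.eq_one_iff z).mpr (hmax (Z.comap π) inferInstance
      (hZ'.comap_of_ker_isPGroup π (by rwa [QuotientGroup.ker_mk'])) hz))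
  have hc := (Nat.coprime_primes hr hp.out).mpr hrp
  have hfa : ∀ e, PE p e → Commute z e → e = 1 := fun e h1 h2 =>
    (pp_of_pe hc (h'.comm hz1 (pe_of_mem hZ' hz) h2)).eq_one h1
  let V := Om p U
  have hVn : V.Normal := normalizer_eq_top_iff.mp (eq_top_iff.mpr
    ((normalizer_eq_top_iff.mpr hUn).ge.trans (Om_ch U).le_normalizer))
  obtain ⟨v, hv⟩ := ne_bot_iff_exists_ne_one.mp (Om_ne_bot hU hU0)
  have hV : ∀ (g : G) (w : V), w ≠ 1 → MulAut.conjNormal g w = w → PE p g := fun g w h1 h2 =>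
    h.comm (x := w) (fun e => h1 (Subtype.ext e)) ⟨1, by rw [pow_one, w.2.2.2]⟩
      (mul_inv_eq_iff_eq_mul.mp (congrArg Subtype.val h2)).symm
  let ρ₀ : G ⧸ U →* MulAut V := QuotientGroup.lift U (MulAut.conjNormal (H := V)) (by
    intro u hu
    ext v
    have := (v.2.2.1 u hu).eq
    simp [← this])
  have hρ₀ : Function.Injective ρ₀ := by
    rw [injective_iff_map_eq_one]
    intro g hg
    obtain ⟨g, rfl⟩ := hπ g
    refine (QuotientGroup.eq_one_iff g).mpr (hmax (MulAut.conjNormal (H := V)).ker inferInstance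
      (isPGroup_of_pe fun x hx => hV x v hv ?_) hg)
    rw [MonoidHom.mem_ker.mp hx]; rfl
  refine ⟨fun x g hx => ?_, fun P A hP hUP hA => by_contra fun hAU => stepG hp2 hUP π hπ
    (QuotientGroup.ker_mk' U) Z hZc (coprime_card_of_pp fun x hx => pp_of_pe hc (pe_of_mem hZ' hx))
    ?_ ρ₀ hρ₀ (fun _ _ => rfl) A hA hAU⟩
  swap
  · exact fun e he h1 => hfa e (pe_of_mem (hP.map π) he) (h1 z hz).symm
  have hcyc : ∀ b ∈ Z, b ∈ zpowers z := fun b hb => by
    by_contra hb'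
    let : CommGroup V := { (inferInstance : Group V) with
      mul_comm := fun a b => Subtype.ext (a.2.2.1 b b.2.1) }
    have key : ∀ y ∈ Z, y ≠ 1 → ∀ w ∈ (⊤ : Subgroup V), ρ₀ y w = w → w ∈ (⊥ : Subgroup V) :=
      fun y hy hy1 w _ e => by_contra fun hw => by
        obtain ⟨y, rfl⟩ := hπ y
        exact hy1 ((pp_of_pe hc (pe_of_mem hZ' hy)).eq_one ((hV y w hw e).map π))
    have := norm_id2 (ρ₀ z) (ρ₀ b) hr ((hZc z hz b hb).map ρ₀) (by rw [← map_pow, hZr z hz, map_one])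
      (by rw [← map_pow, hZr b hb, map_one]) ⊤ ⊥ (fun _ _ => trivial) (fun _ _ => trivial)
      (fun y hy => by rw [mem_bot.mp hy, map_one]; exact one_mem _) (key z hz hz1)
      (fun i => by
        rw [← map_pow, ← map_mul]
        refine key _ (mul_mem hb (pow_mem hz i)) fun e => hb' ?_
        rw [eq_inv_of_mul_eq_one_left e]
        exact inv_mem (pow_mem (mem_zpowers z) i)) (mem_top v)
    exact hv (PP.eq_one (p := p) ⟨r, hc, mem_bot.mp this⟩ ⟨1, Subtype.ext (by simpa using v.2.2.2)⟩)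
  refine (QuotientGroup.eq_one_iff _).mp (hfa _ (hx.map π) ?_)
  obtain ⟨i, hi⟩ := hcyc _ (hZ.conj_mem z hz (π x))
  obtain ⟨j, hj⟩ := hcyc _ (hZ.conj_mem z hz (π g))
  simp only at hi hj
  have e : π x * π g * z * (π x * π g)⁻¹ = π g * π x * z * (π g * π x)⁻¹ := by
    calc _ = π x * (π g * z * (π g)⁻¹) * (π x)⁻¹ := by group
      _ = z ^ (i * j) := by rw [← hj, ← conj_zpow, ← hi, zpow_mul]
      _ = π g * (π x * z * (π x)⁻¹) * (π g)⁻¹ := by rw [← hi, ← conj_zpow, ← hj, mul_comm i, zpow_mul]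
      _ = _ := by group
  obtain ⟨l, hl⟩ := hcyc _ (hZ.conj_mem z hz (π g * π x)⁻¹)
  simp only at hl
  have e' : z = π g * π x * z ^ l * (π g * π x)⁻¹ := by rw [hl]; group
  have e'' : π x * π g * z ^ l * (π x * π g)⁻¹ = z := by rw [← conj_zpow, e, conj_zpow, ← e']
  change z * π ⁅x, g⁆ = π ⁅x, g⁆ * z
  rw [map_commutatorElement, commutatorElement_def]
  calc _ = π x * π g * z ^ l * (π x * π g)⁻¹ * (π x * π g * (π x)⁻¹ * (π g)⁻¹) := by rw [e'']
    _ = π x * π g * (π x)⁻¹ * (π g)⁻¹ * (π g * π x * z ^ l * (π g * π x)⁻¹) := by group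
    _ = _ := by rw [← e']

omit [Finite G] hp in
theorem mea_sub {S H A : Subgroup G} (hle : S ≤ H) (h : MEA p S A) :
    MEA p (S.subgroupOf H) (A.subgroupOf H) := by
  refine ⟨⟨fun x hx => h.1.1 hx, fun a ha b hb => Subtype.ext (h.1.2.1 a ha b hb),
    fun a ha => Subtype.ext (h.1.2.2 a ha)⟩, fun B hB => ?_⟩
  rw [Nat.card_congr (subgroupOfEquivOfLe (h.1.1.trans hle)).toEquiv, ← card_subtype]
  refine h.2 _ ⟨?_, ?_, ?_⟩
  · rintro _ ⟨x, hx, rfl⟩; exact hB.1 hx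
  · rintro _ ⟨a, ha, rfl⟩ _ ⟨b, hb, rfl⟩; exact (hB.2.1 a ha b hb).map _
  · rintro _ ⟨a, ha, rfl⟩; rw [← map_pow, hB.2.2 a ha, map_one]

omit hp in
theorem JJ_norm {P U : Subgroup G} (hUP : U ≤ P) (h : ∀ A, MEA p P A → A ≤ U) :
    normalizer (U : Set G) ≤ normalizer (JJ p P : Set G) := fun g hg => by
  apply mem_normalizer_fintype
  have : JJ p P ≤ (JJ p P).comap (MulAut.conj g).toMonoidHom := by
    refine sSup_le fun A hA a ha => ?_
    have h1 := hA.map le_top ((MulAut.conj g).toMonoidHom.comp (⊤ : Subgroup G).subtype)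
      ((MulAut.conj g).injective.comp (subtype_injective _))
      (fun x hx => hUP ((mem_normalizer_iff.mp hg _).mp (h A hA hx)))
    exact le_sSup (s := {A | MEA p P A}) h1 ⟨⟨a, trivial⟩, ha, rfl⟩
  exact fun x hx => this hx

/-- `D` is the largest normal `p`-subgroup of `H` -/
def Core (p : ℕ) (D H : Subgroup G) : Prop := IsPGroup p D ∧ D ≤ H ∧ H ≤ normalizer D ∧
  ∀ X : Subgroup G, IsPGroup p X → X ≤ H → H ≤ normalizer X → X ≤ D

omit [Finite G] hp in
theorem exists_core (H : Subgroup G) : ∃ D, Core p D H := by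
  obtain ⟨P⟩ : Nonempty (Sylow p H) := inferInstance
  refine ⟨(P : Subgroup H).normalCore.map H.subtype, (P.2.to_le (normalCore_le _)).map _,
    map_subtype_le _, fun g hg => le_normalizer_map _ ⟨⟨g, hg⟩, by
      rw [normalizer_eq_top]; trivial, rfl⟩, fun X h1 h2 h3 => ?_⟩
  have := (normal_subgroupOf_iff_le_normalizer h2).mpr h3
  rw [← map_subgroupOf_eq_of_le h2]
  exact map_mono (normal_le_normalCore.mpr (IsPGroup.le_sylow_of_normal (N := X.subgroupOf H) h1.comap_subtype P))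

theorem Core.struct (h : EPP G) (hp2 : p ≠ 2) {D H : Subgroup G} [Group.IsSolvable H] (C : Core p D H)
    (h0 : D ≠ ⊥) : (∀ x ∈ H, ∀ g ∈ H, PE p ⁅x, g⁆ → ⁅x, g⁆ ∈ D) ∧ ∀ S : Subgroup G,
      IsPGroup p S → D ≤ S → S ≤ H → normalizer (D : Set G) ≤ normalizer (JJ p S : Set G) := by
  have := (normal_subgroupOf_iff_le_normalizer C.2.1).mpr C.2.2.1
  obtain ⟨h1, h2⟩ := solv_struct (h.sub H) hp2 (U := D.subgroupOf H) C.1.comap_subtype
    (fun e => h0 ((subgroupOf_eq_bot.mp e).eq_bot_of_le C.2.1)) fun X hX hX' =>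
      map_le_iff_le_comap.mp (C.2.2.2 _ (hX'.map _) (map_subtype_le _) fun g hg =>
        le_normalizer_map _ ⟨⟨g, hg⟩, by rw [normalizer_eq_top]; trivial, rfl⟩)
  refine ⟨fun x hx g hg e => h1 ⟨x, hx⟩ ⟨g, hg⟩ (e.imp fun _ e => Subtype.ext e),
    fun S e1 e2 e3 => JJ_norm e2 fun A hA a ha => ?_⟩
  exact h2 _ _ e1.comap_subtype (comap_mono e2) (mea_sub e3 hA) (x := ⟨a, e3 (hA.1.1 ha)⟩) ha

theorem max_inter [IsSimpleGroup G] (h : EPP G) (hp2 : p ≠ 2) (hG : ¬ IsPGroup p G)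
    (hs : ∀ H : Subgroup G, H ≠ ⊤ → Group.IsSolvable H) {P Q : Sylow p G} (hPQ : Q ≠ P)
    {D : Subgroup G} (hD : D = (P : Subgroup G) ⊓ Q) (h0 : D ≠ ⊥)
    (hm : ∀ R : Sylow p G, R ≠ P → D ≤ R → (P : Subgroup G) ⊓ R ≤ D) :
    Core p D (normalizer (JJ p (P : Subgroup G) : Set G)) := by
  have prop : ∀ X : Subgroup G, IsPGroup p X → X ≠ ⊥ → Group.IsSolvable (normalizer (X : Set G)) :=
    fun X e1 e2 => hs _ fun e => by
      rcases (normalizer_eq_top_iff.mp e).eq_bot_or_eq_top with f | f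
      · exact e2 f
      · exact hG ((f ▸ e1).of_surjective (⊤ : Subgroup G).subtype fun g => ⟨⟨g, trivial⟩, rfl⟩)
  have hDP : D ≤ P := hD ▸ inf_le_left
  have hDp : IsPGroup p D := P.2.to_le hDP
  set H := normalizer (D : Set G) with hH
  obtain ⟨x, hx1, hx2, hx3⟩ := exists_mem_normalizer P.2 (lt_of_le_of_ne hDP fun e =>
    hPQ (sylow_eq_of_le (e ▸ hD ▸ inf_le_right)).symm)
  obtain ⟨y, hy1, hy2, hy3⟩ := exists_mem_normalizer Q.2 (lt_of_le_of_ne (hD ▸ inf_le_right : D ≤ Q)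
    fun e => hPQ (sylow_eq_of_le (e ▸ hDP)))
  have hy : y ∉ (P : Subgroup G) := fun e => hy2 (hD ▸ ⟨e, hy1⟩)
  have mx : ∀ Y : Subgroup G, IsPGroup p Y → D ≤ Y → x ∈ Y → Y ≤ P := fun Y e1 e2 e3 => by
    obtain ⟨R, hR⟩ := e1.exists_le_sylow
    rwa [show R = P from by_contra fun e => hx2 (hm R e (e2.trans hR) ⟨hx1, hR e3⟩)] at hR
  have C : Core p D H := ⟨hDp, le_normalizer, le_rfl, fun X e1 e2 e3 => by
    have f1 := mx _ (P.2.to_inf_left.to_sup_of_normal_right' e1 (inf_le_right.trans e3))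
      ((le_inf hDP le_normalizer).trans le_sup_left) (mem_sup_left ⟨hx1, hx3⟩)
    obtain ⟨R, hR⟩ := (Q.2.to_inf_left.to_sup_of_normal_right' e1
      ((inf_le_right : _ ≤ H).trans e3)).exists_le_sylow
    refine le_trans (le_inf (le_sup_right.trans f1) (le_sup_right.trans hR)) (hm R ?_ ?_)
    · rintro rfl
      exact hy (hR (mem_sup_left ⟨hy1, hy3⟩))
    · exact ((le_inf (hD ▸ inf_le_right) le_normalizer).trans le_sup_left).trans hR⟩
  have := prop D hDp h0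
  have hS : IsPGroup p ((P : Subgroup G) ⊓ H : Subgroup G) := P.2.to_inf_left
  have hDS : D ≤ (P : Subgroup G) ⊓ H := le_inf hDP le_normalizer
  have h1 := (C.struct h hp2 h0).2 _ hS hDS inf_le_right
  have hJ0 := JJ_ne_bot hS fun e => h0 (eq_bot_iff.mpr (e ▸ hDS))
  have hJp := hS.to_le (JJ_le (p := p) _)
  have := prop _ hJp hJ0
  obtain ⟨E, C1⟩ := exists_core (p := p) (normalizer (JJ p ((P : Subgroup G) ⊓ H) : Set G))
  obtain ⟨a, ha, ha'⟩ : ∃ a ∈ H, ¬ PE p a := by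
    by_contra hc
    push Not at hc
    exact hy (mx H (isPGroup_of_pe hc) le_normalizer hx3 hy3)
  have h2 : D ≤ E := fun z hz => by
    obtain ⟨w, e1, e2⟩ := surj_of_fpf (MulAut.conj a).toMonoidHom D
      (fun w hw => (mem_normalizer_iff.mp ha w).mp hw) (fun w hw e => by_contra fun f =>
        ha' (h.comm f (pe_of_mem hDp hw) (mul_inv_eq_iff_eq_mul.mp e).symm)) hz
    have e3 : z = ⁅w⁻¹, a⁆ := by rw [← e2, commutatorElement_def]; simp [mul_assoc]
    rw [e3] at hz ⊢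
    exact (C1.struct h hp2 fun e => hJ0 (eq_bot_iff.mpr (e ▸ C1.2.2.2 _ hJp le_normalizer le_rfl))).1
      _ (h1 (le_normalizer (inv_mem e1))) _ (h1 ha) (pe_of_mem hDp hz)
  have h3 : D = E := by
    by_contra hc
    obtain ⟨w, e1, e2, e3⟩ := exists_mem_normalizer C1.1 (lt_of_le_of_ne h2 hc)
    refine e2 (C.2.2.2 (E ⊓ H) C1.1.to_inf_left inf_le_right (fun g hg => ?_) ⟨e1, e3⟩)
    exact inf_normalizer_le_normalizer_inf ⟨C1.2.2.1 (h1 hg), le_normalizer hg⟩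
  have h4 : (P : Subgroup G) ⊓ H = P := by
    by_contra hc
    obtain ⟨w, e1, e2, e3⟩ := exists_mem_normalizer P.2 (lt_of_le_of_ne inf_le_left hc)
    exact e2 ⟨e1, hH ▸ h3 ▸ C1.2.2.1 ((JJ_ch _).le_normalizer e3)⟩
  rwa [h4, ← h3] at C1

theorem sylow_ti [IsSimpleGroup G] (h : EPP G) (hp2 : p ≠ 2) (hG : ¬ Group.IsSolvable G)
    (hs : ∀ H : Subgroup G, H ≠ ⊤ → Group.IsSolvable H) {P Q : Sylow p G} (hPQ : Q ≠ P) :
    (P : Subgroup G) ⊓ Q = ⊥ := by
  by_contra h0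
  have hG' : ¬ IsPGroup p G := fun e => hG (have := e.isNilpotent; inferInstance)
  have key : ∀ R : Sylow p G, R ≠ P → (P : Subgroup G) ⊓ R ≠ ⊥ → ∃ D, D < (P : Subgroup G) ∧
      (P : Subgroup G) ⊓ R ≤ D ∧ Core p D (normalizer (JJ p (P : Subgroup G) : Set G)) := fun R e1 e2 => by
    obtain ⟨⟨T, f1, f2⟩, f3⟩ := @Finite.exists_max
      {T : Sylow p G // T ≠ P ∧ (P : Subgroup G) ⊓ R ≤ T} ℕ _ ⟨⟨R, e1, inf_le_right⟩⟩ _
      fun T => Nat.card ((P : Subgroup G) ⊓ T.1 : Subgroup G)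
    refine ⟨P ⊓ T, lt_of_le_of_ne inf_le_left fun e => f1 (sylow_eq_of_le (inf_eq_left.mp e)).symm,
      le_inf inf_le_left f2, max_inter h hp2 hG' hs f1 rfl (fun e => e2 (eq_bot_iff.mpr
        (e ▸ le_inf inf_le_left f2))) fun S g1 g2 => ?_⟩
    exact (eq_of_le_of_card_ge (le_inf inf_le_left g2)
      (f3 ⟨S, g1, (le_inf inf_le_left f2).trans g2⟩)).ge
  obtain ⟨D, h1, h2, C⟩ := key Q hPQ h0
  have h3 : ∀ R : Sylow p G, R ≠ P → (P : Subgroup G) ⊓ R ≤ D := fun R e => by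
    by_cases e' : (P : Subgroup G) ⊓ R = ⊥
    · exact e' ▸ bot_le
    obtain ⟨E, -, f1, f2⟩ := key R e e'
    exact f1.trans (C.2.2.2 E f2.1 f2.2.1 f2.2.2.1)
  have h4 : normalizer (JJ p (P : Subgroup G) : Set G) ≠ ⊤ := fun e => by
    rcases (normalizer_eq_top_iff.mp e).eq_bot_or_eq_top with f | f
    · exact JJ_ne_bot P.2 (ne_bot_of_gt h1) f
    · exact hG' ((f ▸ P.2.to_le (JJ_le (p := p) _)).of_surjective (⊤ : Subgroup G).subtype
        fun g => ⟨⟨g, trivial⟩, rfl⟩)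
  have := hs _ h4
  have h5 : (P : Subgroup G).focalSubgroup ≤ D := by
    rw [focalSubgroup_def, closure_le]
    rintro _ ⟨e1, x, e2, u, rfl⟩
    by_cases e3 : u • P = P
    · exact (C.struct h hp2 fun e => h0 (eq_bot_iff.mpr (e ▸ h2))).1 _
        ((JJ_ch _).le_normalizer (le_normalizer e2)) _
        ((JJ_ch _).le_normalizer (Sylow.smul_eq_iff_mem_normalizer.mp e3)) (pe_of_mem P.2 e1)
    · have e4 : u * x⁻¹ * u⁻¹ ∈ (P : Subgroup G) := by
        simpa [commutatorElement_def, mul_assoc] using mul_mem (inv_mem e2) e1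
      have e5 := h3 _ e3 ⟨e4, mem_smul_sylow.mpr (by simpa [mul_assoc] using e2)⟩
      have e6 := h3 (u⁻¹ • P) (fun e => e3 (inv_smul_eq_iff.mp e).symm)
        ⟨e2, mem_smul_sylow.mpr (by simpa [mul_assoc] using inv_mem e4)⟩
      simpa [commutatorElement_def, mul_assoc] using mul_mem e6 e5
  rw [← commutator_inf_eq_focalSubgroup] at h5
  rcases (inferInstance : (commutator G).Normal).eq_bot_or_eq_top with e | e
  · exact hG ⟨1, by rw [derivedSeries_one, e]⟩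
  · rw [e, top_inf_eq] at h5
    exact h1.not_ge h5

end Cfsg.Agent.EP.O
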