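import Cfsg.Agent.EP.OddP
import Cfsg.Agent.EP.OddTI

/-! Exceptional characters attached to the linear characters of a TI Sylow subgroup. -/

namespace Cfsg.Agent.EP.O

open Cfsg Cfsg.Agent.CharLib Cfsg.Agent.Thom Cfsg.Agent.N9 Subgroup Finset MulAction
open scoped ComplexConjugate

variable {G : Type*} [Group G]

instance act (P : Subgroup G) : MulAction (normalizer (P : Set G)) (IrrCharacter P) where
  smul l θ := irrEquiv (P.normalizerMonoidHom l⁻¹) θ
  one_smul θ := Subtype.ext (funext fun x => congrArg θ.1 (by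
    change (1 : normalizer (P : Set G))⁻¹ • x = x; rw [inv_one, one_smul]))
  mul_smul a b θ := Subtype.ext (funext fun x => congrArg θ.1 (by
    change (a * b)⁻¹ • x = b⁻¹ • a⁻¹ • x; rw [mul_inv_rev, mul_smul]))

variable {P Q : Subgroup G} {p q : ℕ}

theorem act_apply (l : normalizer (P : Set G)) (θ : IrrCharacter P) (x : P) :
    (l • θ).1 x = θ.1 (l⁻¹ • x) := rfl

theorem dg_act (l : normalizer (P : Set G)) (θ : IrrCharacter P) : SC3.dg (l • θ) = SC3.dg θ :=
  charDegree_eq (by rw [act_apply, smul_one, SC3.dg_eq])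

theorem act_of_mem {l : normalizer (P : Set G)} (hl : l.1 ∈ P) (θ : IrrCharacter P) : l • θ = θ :=
  Subtype.ext (funext fun x => isChar_classFun (SC3.ch θ) x ⟨_, P.inv_mem hl⟩)

/-- TI Sylow subgroups whose normalizer acts freely modulo the subgroup -/
structure TI (p : ℕ) (P : Subgroup G) : Prop where
  pr : p.Prime
  pg : IsPGroup p P
  ne : P ≠ ⊥
  cj : ∀ g, PE p g → ∃ y, y⁻¹ * g * y ∈ P
  ti : ∀ x ∈ P, x ≠ 1 → ∀ y, y⁻¹ * x * y ∈ P → y ∈ normalizer (P : Set G)
  fpf : ∀ x ∈ P, x ≠ 1 → ∀ l ∈ normalizer (P : Set G), l * x * l⁻¹ = x → l ∈ P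

/-- automizer index -/
noncomputable def ee (P : Subgroup G) : ℕ := P.relIndex (normalizer (P : Set G))

/-- nontrivial linear character -/
def Lin {H : Type*} [Group H] (θ : IrrCharacter H) : Prop := SC3.dg θ = 1 ∧ θ ≠ SC3.triv H

theorem ee_mul (P : Subgroup G) : Nat.card P * ee P = Nat.card (normalizer (P : Set G)) := by
  rw [ee, relIndex, ← (P.subgroupOf (normalizer (P : Set G))).card_mul_index,
    Nat.card_congr (subgroupOfEquivOfLe le_normalizer).toEquiv]

theorem ee_odd (ho : Odd (Nat.card G)) (P : Subgroup G) : Odd (ee P) :=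
  ho.of_dvd_nat ((Dvd.intro_left _ (ee_mul P)).trans (card_subgroup_dvd_card _))

theorem TI.pe (T : TI p P) {g y : G} (h : y⁻¹ * g * y ∈ P) : PE p g := by
  obtain ⟨k, hk⟩ := T.pg ⟨_, h⟩
  have : PE p (y⁻¹ * g * y) := ⟨k, congrArg Subtype.val hk⟩
  simpa [mul_assoc] using this.map (MulAut.conj y).toMonoidHom

section
variable [Finite G]

theorem Lin.bar {H : Type*} [Group H] [Finite H] {θ : IrrCharacter H} (h : Lin θ) : Lin (bar θ) :=
  ⟨(dg_bar θ).trans h.1, fun e => h.2 (by rw [← bar_bar θ, e, bar_triv])⟩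

theorem TI.stab (T : TI p P) {θ : IrrCharacter P} (h : Lin θ) :
    stabilizer (normalizer (P : Set G)) θ = P.subgroupOf _ := by
  ext l
  refine ⟨fun e => by_contra fun hl => h.2 (SC3.eq_triv fun y => ?_), fun e => act_of_mem e θ⟩
  obtain ⟨x, -, rfl⟩ := surj_of_fpf (P.normalizerMonoidHom l⁻¹).toMonoidHom ⊤ (fun _ _ => trivial)
    (fun x _ e => by_contra fun f => hl (inv_mem_iff.mp (T.fpf x x.2 (fun g => f (Subtype.ext g))
      _ (l⁻¹).2 (congrArg Subtype.val e)))) (mem_top y)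
  have h1 := isChar_mul_of_degree_one (SC3.ch θ) (by rw [SC3.dg_eq, h.1, Nat.cast_one])
  rw [h1, ← inv_mul_cancel x, h1]
  congr 1
  exact congrFun (congrArg Subtype.val e) x

theorem TI.card_orbit (T : TI p P) {θ : IrrCharacter P} (h : Lin θ) :
    (orbit (normalizer (P : Set G)) θ).ncard = ee P := by
  rw [← index_stabilizer, T.stab h]; rfl

theorem bar_notMem (ho : Odd (Nat.card G)) {θ : IrrCharacter P} (h : Lin θ) :
    bar θ ∉ orbit (normalizer (P : Set G)) θ := by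
  rintro ⟨l, hl⟩
  have := Fintype.ofFinite P
  have h1 : l * l ∈ stabilizer (normalizer (P : Set G)) θ := by
    have hl : l • θ = bar θ := hl
    rw [mem_stabilizer_iff, mul_smul, hl, show l • bar θ = bar (l • θ) from rfl, hl, bar_bar]
  obtain ⟨k, hk⟩ := ho.of_dvd_nat (card_subgroup_dvd_card (normalizer (P : Set G)))
  have h2 := Subgroup.pow_mem _ h1 (k + 1)
  rw [← sq, ← pow_mul, show 2 * (k + 1) = 2 * k + 1 + 1 by ring, pow_succ, ← hk, pow_card_eq_one',
    one_mul] at h2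
  exact h.2 (eq_triv_of_bar (ho.of_dvd_nat (card_subgroup_dvd_card P)) (hl.symm.trans h2))

end

open scoped Classical

variable [Fintype G]

theorem TI.ind_res (T : TI p P) {α : P → ℂ} (h1 : α 1 = 0) (x : P) :
    indFun P α x = (Nat.card P : ℂ)⁻¹ * ∑ l : normalizer (P : Set G), α (l⁻¹ • x) := by
  by_cases hx : x = 1
  · simp [hx, indFun_one, h1]
  rw [indFun]
  congr 1
  trans ∑ y, if y ∈ normalizer (P : Set G) then extendByZero P α (y⁻¹ * x * y) else 0
  · refine sum_congr rfl fun y _ => ?_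
    split_ifs with e
    · rfl
    · exact extendByZero_of_not_mem _ _ fun f => e (T.ti x x.2 (by simpa using hx) y f)
  · rw [N9.sum_ite_mem]
    refine sum_congr rfl fun l _ => ?_
    rw [← extendByZero_coe P α]
    congr 1
    change _ = l.1⁻¹ * x * l.1⁻¹⁻¹
    rw [inv_inv]

theorem TI.ind_zero (T : TI p P) {α : P → ℂ} (h1 : α 1 = 0) {g : G} (h : PE p g → g = 1) :
    indFun P α g = 0 := by
  by_cases hx : g = 1
  · simp [hx, indFun_one, h1]
  rw [indFun, sum_eq_zero fun y _ => extendByZero_of_not_mem _ _ fun f => hx (h (T.pe f)), mul_zero]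

/-- multiplicity of `θ` in the restriction of `χ` -/
noncomputable def mu (χ : IrrCharacter G) (θ : IrrCharacter P) : ℤ :=
  ⌊(classInner (fun x : P => χ.1 x) θ.1).re⌋

theorem mu_eq (χ : IrrCharacter G) (θ : IrrCharacter P) :
    classInner (fun x : P => χ.1 x) θ.1 = mu χ θ := by
  obtain ⟨n, hn⟩ := inner_char_nat (isChar_comp P.subtype (SC3.ch χ)) (SC3.ch θ)
  rw [mu, show classInner (fun x : P => χ.1 x) θ.1 = n from hn]
  simp

theorem mu_bar (χ : IrrCharacter G) (θ : IrrCharacter P) : mu (bar χ) (bar θ) = mu χ θ := by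
  have h : classInner (fun x : P => (bar χ).1 x) (bar θ).1 =
      conj (classInner (fun x : P => χ.1 x) θ.1) := by simp [classInner, bar]
  rw [mu_eq, mu_eq] at h
  exact_mod_cast h.trans (map_intCast _ _)

theorem mu_act (χ : IrrCharacter G) (l : normalizer (P : Set G)) (θ : IrrCharacter P) :
    mu χ (l • θ) = mu χ θ := by
  have h := inner_comp_equiv (toPerm l⁻¹) (fun x : P => χ.1 x) θ.1
  rw [mu_eq, show (fun x : P => χ.1 (toPerm l⁻¹ x : P)) = fun x : P => χ.1 x from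
    funext fun x => isChar_classFun (SC3.ch χ) x l.1⁻¹] at h
  exact_mod_cast (mu_eq χ (l • θ)).symm.trans h

theorem mu_triv (θ : IrrCharacter P) : mu (SC3.triv G) θ = if SC3.triv P = θ then 1 else 0 := by
  have h := (mu_eq (SC3.triv G) θ).symm.trans (inner_irr' (SC3.triv P) θ)
  exact_mod_cast h

theorem inner_ind (χ : IrrCharacter G) (θ η : IrrCharacter P) :
    classInner χ.1 (indFun P (θ.1 - η.1)) = ((mu χ θ - mu χ η : ℤ) : ℂ) := by
  rw [inner_indFun_right _ _ (isChar_classFun (SC3.ch χ)), CharLib.inner_sub_right, mu_eq, mu_eq]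
  simp

theorem gram0 (θ η : IrrCharacter P) (θ' η' : IrrCharacter Q) :
    ((∑ χ : IrrCharacter G, (mu χ θ - mu χ η) * (mu χ θ' - mu χ η') : ℤ) : ℂ) =
      classInner (fun x : Q => indFun P (θ.1 - η.1) x) (θ'.1 - η'.1) := by
  rw [← inner_indFun_right _ _ (indFun_classFun _ _), inner_eq_sum_inner (indFun_classFun _ _)]
  simp only [← inner_conj_symm _ (indFun P _), inner_ind, map_intCast]
  push_cast
  rfl

omit [Fintype G] in
theorem sub_one {θ η : IrrCharacter P} (h : SC3.dg θ = SC3.dg η) : (θ.1 - η.1) 1 = 0 := by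
  simp [SC3.dg_eq, h]

theorem TI.cross (T : TI p P) (U : TI q Q) (hpq : q ≠ p) {θ η : IrrCharacter P}
    (h : SC3.dg θ = SC3.dg η) (θ' η' : IrrCharacter Q) :
    ∑ χ : IrrCharacter G, (mu χ θ - mu χ η) * (mu χ θ' - mu χ η') = 0 := by
  have h1 := gram0 θ η θ' η'
  rw [show (fun x : Q => indFun P (θ.1 - η.1) x) = 0 from funext fun x => T.ind_zero (sub_one h)
    (pp_of_pe ((Nat.coprime_primes U.pr T.pr).mpr hpq) (U.pe (y := 1) (by simp))).eq_one,
    CharLib.inner_zero_left] at h1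
  exact_mod_cast h1

theorem deg_eq {θ η : IrrCharacter P} (h : SC3.dg θ = SC3.dg η) :
    ∑ χ : IrrCharacter G, (mu χ θ - mu χ η) * SC3.dg χ = 0 := by
  have h1 := congrFun (classFun_eq_sum_inner (indFun_classFun P (θ.1 - η.1))) 1
  simp only [indFun_one, sub_one h, Finset.sum_apply, Pi.smul_apply, smul_eq_mul, mul_zero,
    ← inner_conj_symm _ (indFun P _), inner_ind, map_intCast, SC3.dg_eq] at h1
  exact_mod_cast h1.symm

/-- entries of the Gram matrix -/
noncomputable def cc (θ η : IrrCharacter P) : ℂ :=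
  (Nat.card P : ℂ)⁻¹ * ∑ l : normalizer (P : Set G), if l • θ = η then 1 else 0

theorem TI.gram (T : TI p P) {θ η : IrrCharacter P} (h : SC3.dg θ = SC3.dg η)
    (θ' η' : IrrCharacter P) :
    ((∑ χ : IrrCharacter G, (mu χ θ - mu χ η) * (mu χ θ' - mu χ η') : ℤ) : ℂ) =
      cc θ θ' - cc θ η' - (cc η θ' - cc η η') := by
  rw [gram0, show (fun x : P => indFun P (θ.1 - η.1) x) = (Nat.card P : ℂ)⁻¹ •
    ∑ l : normalizer (P : Set G), ((l • θ).1 - (l • η).1) from funext fun x => by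
      rw [T.ind_res (sub_one h), Pi.smul_apply, Finset.sum_apply]; rfl,
    CharLib.inner_smul_left, inner_sum_left]
  simp only [CharLib.inner_sub_left, CharLib.inner_sub_right, inner_irr', sum_sub_distrib, cc]
  ring

theorem cc_triv (η : IrrCharacter P) :
    cc (SC3.triv P) η = if SC3.triv P = η then (ee P : ℂ) else 0 := by
  rw [cc, sum_congr rfl fun l _ => by rw [show l • SC3.triv P = SC3.triv P from rfl], sum_const,
    card_univ, ← Nat.card_eq_fintype_card, ← ee_mul]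
  have := card_cast_ne P
  split_ifs <;> simp [-Nat.card_eq_fintype_card, this]

theorem TI.cc_lin (T : TI p P) {θ : IrrCharacter P} (h : Lin θ) (η : IrrCharacter P) :
    cc θ η = if η ∈ orbit (normalizer (P : Set G)) θ then 1 else 0 := by
  rw [cc]
  split_ifs with e
  · obtain ⟨l, rfl⟩ := e
    rw [← Equiv.sum_comp (Equiv.mulLeft l)]
    simp only [Equiv.coe_mulLeft, mul_smul, smul_left_cancel_iff, ← mem_stabilizer_iff]
    rw [show (∑ x, if x ∈ stabilizer (normalizer (P : Set G)) θ then (1 : ℂ) else 0) = _ by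
      convert sum_ite_mem_const _ 1, T.stab h, Nat.card_congr (subgroupOfEquivOfLe le_normalizer).toEquiv,
      mul_one, inv_mul_cancel₀ (card_cast_ne P)]
  · rw [sum_eq_zero fun l _ => if_neg fun f => e ⟨l, f⟩, mul_zero]

theorem mu_orb (χ : IrrCharacter G) {θ η : IrrCharacter P}
    (h : η ∈ orbit (normalizer (P : Set G)) θ) : mu χ η = mu χ θ := by
  obtain ⟨l, rfl⟩ := h
  exact mu_act χ l θ

theorem TI.norm_b (T : TI p P) {θ : IrrCharacter P} (h : Lin θ) :
    ∑ χ : IrrCharacter G, (mu χ (SC3.triv P) - mu χ θ) ^ 2 = ee P + 1 := by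
  have h1 := T.gram (SC3.dg_triv.trans h.1.symm) (SC3.triv P) θ
  rw [cc_triv, cc_triv, T.cc_lin h, T.cc_lin h, if_pos rfl, if_neg h.2.symm, if_pos (mem_orbit_self _),
    if_neg fun ⟨l, (e : l • θ = _)⟩ => h.2 (by rw [← inv_smul_smul l θ, e]; rfl)] at h1
  simp only [sq]
  exact Int.cast_injective (α := ℂ) (h1.trans (by push_cast; ring))

theorem b_triv {θ : IrrCharacter P} (h : Lin θ) :
    mu (SC3.triv G) (SC3.triv P) - mu (SC3.triv G) θ = 1 := by
  rw [mu_triv, mu_triv, if_pos rfl, if_neg h.2.symm, sub_zero]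

/-- `ψ` is the exceptional character of `θ` -/
def Psi (θ : IrrCharacter P) (ψ : IrrCharacter G) : Prop := bar ψ ≠ ψ ∧
  ∀ χ, mu χ θ - mu χ (bar θ) = (if χ = ψ then 1 else 0) - if χ = bar ψ then 1 else 0

theorem TI.exists_psi (T : TI p P) (ho : Odd (Nat.card G)) {θ : IrrCharacter P} (h : Lin θ) :
    ∃ ψ, Psi θ ψ := by
  have h1 := T.gram (dg_bar θ).symm θ (bar θ)
  have h2 := bar_notMem ho h.bar
  rw [bar_bar] at h2
  rw [T.cc_lin h, T.cc_lin h, T.cc_lin h.bar, T.cc_lin h.bar, if_pos (mem_orbit_self _),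
    if_neg (bar_notMem ho h), if_neg h2, if_pos (mem_orbit_self _)] at h1
  set f : IrrCharacter G → ℤ := fun χ => mu χ θ - mu χ (bar θ) with hf
  have h3 : ∑ χ, f χ ^ 2 = 2 := by
    simp only [sq]
    exact Int.cast_injective (α := ℂ) (h1.trans (by norm_num))
  have h4 : ∀ χ, f (bar χ) = -f χ := fun χ => by
    simp only [hf]
    rw [mu_bar, ← mu_bar χ (bar θ), bar_bar, neg_sub]
  obtain ⟨ψ, h5⟩ : ∃ ψ, 0 < f ψ := by
    by_contra! hc
    rw [sum_eq_zero fun χ _ => by
      have := hc (bar χ); rw [h4] at this; rw [show f χ = 0 by linarith [hc χ]]; rfl] at h3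
    omega
  have h6 : bar ψ ≠ ψ := fun e => by have := h4 ψ; rw [e] at this; omega
  have h7 : ∑ χ ∈ {ψ, bar ψ}, f χ ^ 2 = 2 * f ψ ^ 2 := by rw [sum_pair h6.symm, h4]; ring
  have h8 := sum_le_sum_of_subset_of_nonneg (subset_univ {ψ, bar ψ}) fun χ _ _ => sq_nonneg (f χ)
  have h9 : f ψ = 1 := by nlinarith
  refine ⟨ψ, h6, fun χ => ?_⟩
  change f χ = _
  split_ifs with e1 e2 e2
  · exact absurd (e2.symm.trans e1) h6
  · rw [e1, h9]; rfl
  · rw [e2, h4, h9]; rfl
  · exact sq_support {ψ, bar ψ} (by rw [h3, h7, h9]; norm_num) (by simp [e1, e2])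

theorem Psi.sum {θ : IrrCharacter P} {ψ : IrrCharacter G} (h : Psi θ ψ) (g : IrrCharacter G → ℤ) :
    ∑ χ, (mu χ θ - mu χ (bar θ)) * g χ = g ψ - g (bar ψ) := by
  simp [h.2, sub_mul]

theorem Psi.bar {θ : IrrCharacter P} {ψ : IrrCharacter G} (h : Psi θ ψ) : Psi (bar θ) (bar ψ) :=
  ⟨by rw [bar_bar]; exact h.1.symm, fun χ => by rw [bar_bar, bar_bar, ← neg_sub, h.2, neg_sub]⟩

theorem Psi.two {θ : IrrCharacter P} {η : IrrCharacter Q} {ψ : IrrCharacter G} (h : Psi θ ψ)
    (h' : Psi η ψ) : ∑ χ, (mu χ θ - mu χ (O.bar θ)) * (mu χ η - mu χ (O.bar η)) = 2 := by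
  rw [h.sum, h'.2, h'.2]
  simp [h.1, h.1.symm]

theorem Psi.ne_triv {θ : IrrCharacter P} {ψ : IrrCharacter G} (h : Psi θ ψ) : ψ ≠ SC3.triv G :=
  fun e => h.1 (by rw [e, bar_triv])

theorem TI.psi_orb (T : TI p P) {θ η : IrrCharacter P} {ψ : IrrCharacter G} (hl : Lin θ)
    (h : Psi θ ψ) (h' : Psi η ψ) : η ∈ orbit (normalizer (P : Set G)) θ := by
  have h1 := T.gram (dg_bar θ).symm η (bar η)
  rw [h.two h', T.cc_lin hl, T.cc_lin hl, T.cc_lin hl.bar, T.cc_lin hl.bar] at h1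
  by_contra hc
  rw [if_neg hc] at h1
  split_ifs at h1 <;> norm_num at h1

theorem TI.psi_ne (T : TI p P) (U : TI q Q) (hpq : q ≠ p) {θ : IrrCharacter P} {η : IrrCharacter Q}
    {ψ ψ' : IrrCharacter G} (h : Psi θ ψ) (h' : Psi η ψ') : ψ' ≠ ψ := fun e => by
  have := T.cross U hpq (dg_bar θ).symm η (bar η)
  rw [h.two (e ▸ h')] at this
  omega

theorem even_sum (ho : Odd (Nat.card G)) {f g : IrrCharacter G → ℤ} (hf : ∀ χ, f (bar χ) = f χ)
    (hg : ∀ χ, g (bar χ) = g χ) (h : f (SC3.triv G) = 0) : Even (∑ χ, f χ * g χ) := by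
  rw [← ZMod.intCast_eq_zero_iff_even, Int.cast_sum]
  refine sum_involution (fun χ _ => bar χ) (fun χ _ => ?_) (fun χ _ e f => e ?_)
    (fun _ _ => mem_univ _) fun χ _ => bar_bar χ
  · rw [hf, hg]; exact CharTwo.add_self_eq_zero _
  · rw [eq_triv_of_bar ho f, h]; simp

/-- the real part of the induced character -/
noncomputable def dl (θ : IrrCharacter P) (ψ χ : IrrCharacter G) : ℤ :=
  mu χ (SC3.triv P) - mu χ θ + (if χ = ψ then 1 else 0) - if χ = SC3.triv G then 1 else 0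

theorem Psi.real {θ : IrrCharacter P} {ψ : IrrCharacter G} (h : Psi θ ψ) (χ : IrrCharacter G) :
    dl θ ψ (O.bar χ) = dl θ ψ χ := by
  have h1 := h.2 χ
  have h2 : ∀ φ, O.bar χ = φ ↔ χ = O.bar φ := fun φ => Function.Involutive.eq_iff bar_bar
  rw [dl, dl, ← mu_bar, ← mu_bar (O.bar χ), bar_bar, bar_triv]
  simp only [h2, bar_triv]
  linarith

theorem TI.parity (T : TI p P) (U : TI q Q) (hpq : q ≠ p) (ho : Odd (Nat.card G))
    {θ : IrrCharacter P} {η : IrrCharacter Q} {ψ ψ' : IrrCharacter G} (hθ : Lin θ) (hη : Lin η)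
    (h : Psi θ ψ) (h' : Psi η ψ') (e : mu ψ η = mu ψ (SC3.triv Q)) :
    mu ψ' (SC3.triv P) - mu ψ' θ ≠ 0 := fun e' => by
  have h1 := even_sum ho h.real h'.real (by simp [dl, b_triv hθ, h.ne_triv.symm])
  have h2 := T.cross U hpq (SC3.dg_triv.trans hθ.1.symm) (SC3.triv Q) η
  simp only [dl, sub_mul (_ + _), add_mul, mul_sub _ (_ + _), mul_add, sum_add_distrib, sum_sub_distrib,
    h2, mul_ite, ite_mul, mul_zero, zero_mul, mul_one, one_mul, sum_ite_eq', mem_univ, if_true,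
    b_triv hθ, b_triv hη, e, e'] at h1
  simp [T.psi_ne U hpq h h', h'.ne_triv, h.ne_triv.symm] at h1

end Cfsg.Agent.EP.O
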