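import Cfsg.Agent.EP.OddC

/-! The final inequality for groups of odd order with TI Sylow subgroups. -/

namespace Cfsg.Agent.EP.O

open Cfsg Cfsg.Agent.CharLib Cfsg.Agent.Thom Cfsg.Agent.N9 Subgroup Finset MulAction
open scoped ComplexConjugate Classical

variable {G : Type*} [Group G] [Fintype G] {P Q : Subgroup G} {p q : ℕ}

/-- the linear characters -/
noncomputable def lins (P : Subgroup G) : Finset (IrrCharacter P) :=
  univ.filter fun θ => SC3.dg θ = 1

theorem TI.card_lins (T : TI p P) : ∃ k, (lins P).card = p ^ (k + 1) ∧ p ^ (k + 1) ∣ Nat.card G := by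
  have := Fact.mk T.pr
  have h1 : (lins P).card = (commutator P).index := by
    rw [← card_degree_one, Nat.card_eq_fintype_card, Fintype.card_subtype]; rfl
  obtain ⟨k, hk⟩ := T.pg.index (commutator P)
  have := T.pg.isNilpotent
  have := P.nontrivial_iff_ne_bot.mpr T.ne
  obtain _ | k := k
  · exact absurd (index_eq_one.mp hk) (Group.IsSolvable.commutator_lt_top_of_nontrivial P).ne
  · exact ⟨k, h1.trans hk, hk ▸ (index_dvd_card _).trans (card_subgroup_dvd_card P)⟩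

theorem TI.exists_lin (T : TI p P) : ∃ θ : IrrCharacter P, Lin θ := by
  obtain ⟨k, hk, -⟩ := T.card_lins
  obtain ⟨θ, h1, h2⟩ := exists_mem_ne (hk ▸ Nat.one_lt_pow k.succ_ne_zero T.pr.one_lt) (SC3.triv P)
  exact ⟨θ, (mem_filter.mp h1).2, h2⟩

theorem TI.card_orb (T : TI p P) {θ : IrrCharacter P} (h : Lin θ) {s : Finset (IrrCharacter P)} :
    ((∀ η ∈ orbit (normalizer (P : Set G)) θ, η ∈ s) → ee P ≤ s.card) ∧
    ((∀ η ∈ s, η ∈ orbit (normalizer (P : Set G)) θ) → s.card ≤ ee P) := by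
  rw [← T.card_orbit h, ← Set.ncard_coe_finset]
  exact ⟨fun e => Set.ncard_le_ncard e, fun e => Set.ncard_le_ncard e⟩

theorem TI.three_le [IsSimpleGroup G] (hG : ¬ IsMulCommutative G) (T : TI p P)
    (ho : Odd (Nat.card G)) : 3 ≤ ee P := by
  obtain ⟨θ, h⟩ := T.exists_lin
  obtain ⟨k, hk⟩ := ee_odd ho P
  by_contra hc
  have h1 := T.norm_b h
  have h2 := deg_eq (SC3.dg_triv.trans h.1.symm)
  have h3 := b_triv h
  rw [show ee P = 1 by omega] at h1
  set b : IrrCharacter G → ℤ := fun χ => mu χ (SC3.triv P) - mu χ θ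
  change b _ = 1 at h3
  change ∑ χ, b χ ^ 2 = _ at h1
  change ∑ χ, b χ * _ = _ at h2
  obtain ⟨φ, h4, h5⟩ : ∃ φ, φ ≠ SC3.triv G ∧ b φ ≠ 0 := by
    by_contra! hd
    rw [sum_eq_single (SC3.triv G) (fun χ _ e => by rw [hd χ e]; rfl) (by simp), h3] at h1
    norm_num at h1
  rw [← sum_subset (subset_univ {φ, SC3.triv G}) fun χ _ e => by
    rw [sq_support (f := b) {φ, SC3.triv G} (by
      rw [h1, sum_pair h4, h3]; have := sq_pos_of_ne_zero h5; push_cast; omega) e, zero_mul],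
    sum_pair h4, h3, SC3.dg_triv] at h2
  have h6 : (SC3.dg φ : ℤ) ∣ 1 := ⟨-b φ, by push_cast at h2; linarith⟩
  exact (SC3.one_lt_dg hG h4).ne' (by exact_mod_cast Int.eq_one_of_dvd_one (by positivity) h6)

theorem TI.main_bound (T : TI p P) {θ : IrrCharacter P} {ψ : IrrCharacter G} (hl : Lin θ)
    (h : Psi θ ψ) : 2 * ee P ≤ (lins P).card ∧ (ee P : ℝ) * ((lins P).card - ee P) ≤
      (lins P).card * (nrm (fun x : P => ψ.1 x) / Nat.card P) := by
  have h1 := h.2 ψ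
  rw [if_pos rfl, if_neg h.1.symm] at h1
  have h2 := le_var (lins P) (mu ψ) (fun η => mu ψ θ ≤ mu ψ η) fun i j e f g => f (g ▸ e)
  have h3 := (T.card_orb hl (s := (lins P).filter fun η => mu ψ θ ≤ mu ψ η)).1 fun η e => by
    simp only [lins, mem_filter, mem_univ, true_and, mu_orb ψ e, le_refl, and_true]
    obtain ⟨l, rfl⟩ := e
    exact (dg_act l θ).trans hl.1
  have h4 := (T.card_orb hl.bar (s := (lins P).filter fun η => ¬ mu ψ θ ≤ mu ψ η)).1 fun η e => by
    simp only [lins, mem_filter, mem_univ, true_and, mu_orb ψ e]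
    obtain ⟨l, rfl⟩ := e
    exact ⟨(dg_act l _).trans hl.bar.1, by omega⟩
  have h5 := card_filter_add_card_filter_not (s := lins P) fun η => mu ψ θ ≤ mu ψ η
  refine ⟨by omega, ?_⟩
  have h6 := var_le (lins P) (fun η => mu ψ η) (SC3.dg ψ / Nat.card P)
  have h7 := bessel (isChar_classFun (isChar_comp P.subtype (SC3.ch ψ))) (mu_eq ψ) (SC3.dg_eq ψ)
  have h8 : (ee P : ℤ) * ((lins P).card - ee P) ≤
      (lins P).card * ∑ i ∈ lins P, mu ψ i ^ 2 - (∑ i ∈ lins P, mu ψ i) ^ 2 := by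
    refine le_trans ?_ h2
    zify at h3 h4 h5
    nlinarith
  have h9 : (ee P : ℝ) * ((lins P).card - ee P) ≤
      (lins P).card * ∑ i ∈ lins P, (mu ψ i : ℝ) ^ 2 - (∑ i ∈ lins P, (mu ψ i : ℝ)) ^ 2 := by
    exact_mod_cast h8
  exact h9.trans (h6.trans (mul_le_mul_of_nonneg_left h7 (Nat.cast_nonneg _)))

theorem TI.count (T : TI p P) {θ : IrrCharacter P} {ψ : IrrCharacter G} (hl : Lin θ) (h : Psi θ ψ)
    (U : Finset (IrrCharacter G)) (hU : ∀ φ ∈ U, φ ≠ SC3.triv G ∧ φ ≠ ψ ∧ φ ≠ bar ψ ∧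
      mu φ (SC3.triv P) - mu φ θ ≠ 0) : U.card + 1 ≤ ee P := by
  have h1 := sum_le_sum_of_subset_of_nonneg (subset_univ (insert (SC3.triv G) (insert ψ
    (insert (bar ψ) U)))) fun χ _ _ => sq_nonneg (mu χ (SC3.triv P) - mu χ θ)
  have h2 := card_nsmul_le_sum U (fun χ => (mu χ (SC3.triv P) - mu χ θ) ^ 2) 1 fun φ e =>
    sq_pos_of_ne_zero (hU φ e).2.2.2
  have h3 := h.2 ψ
  have h4 := mu_bar ψ (bar θ)
  have h5 := mu_bar ψ (SC3.triv P)
  rw [if_pos rfl, if_neg h.1.symm] at h3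
  rw [bar_bar] at h4
  rw [bar_triv] at h5
  rw [T.norm_b hl, sum_insert (by
      simpa [h.ne_triv.symm, h.bar.ne_triv.symm] using fun e => (hU _ e).1 rfl),
    sum_insert (by simpa [h.1.symm] using fun e => (hU _ e).2.1 rfl),
    sum_insert fun e => (hU _ e).2.2.1 rfl, b_triv hl, h4, h5] at h1
  have h6 : 1 ≤ (mu ψ (SC3.triv P) - mu ψ θ) ^ 2 + (mu ψ (SC3.triv P) - mu ψ (bar θ)) ^ 2 := by
    by_cases e : mu ψ (SC3.triv P) - mu ψ θ = 0
    · rw [e, show mu ψ (SC3.triv P) - mu ψ (bar θ) = 1 by omega]; rfl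
    · have := sq_pos_of_ne_zero e
      have := sq_nonneg (mu ψ (SC3.triv P) - mu ψ (bar θ))
      omega
  rw [nsmul_eq_mul, mul_one] at h2
  omega

theorem TI.le_mul (T : TI p P) (ho : Odd (Nat.card G)) {K : Finset (IrrCharacter G)}
    (hK : ∀ (η : IrrCharacter P) φ, Lin η → Psi η φ → φ ∈ K) : (lins P).card ≤ ee P * K.card + 1 := by
  have : Nonempty (IrrCharacter G) := ⟨SC3.triv G⟩
  choose! f hf using fun η : IrrCharacter P => T.exists_psi ho (θ := η)
  have h0 : ∀ η, η ∈ (lins P).erase (SC3.triv P) → Lin η := fun η e =>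
    ⟨(mem_filter.mp (mem_of_mem_erase e)).2, ne_of_mem_erase e⟩
  have h1 := card_le_mul_card_image_of_maps_to (f := f) (fun η e => hK η _ (h0 η e) (hf η (h0 η e)))
    (ee P) fun φ _ => by
      rcases (((lins P).erase (SC3.triv P)).filter fun η => f η = φ).eq_empty_or_nonempty with
        e | ⟨θ, e⟩
      · rw [e]; exact Nat.zero_le _
      · obtain ⟨e1, rfl⟩ := mem_filter.mp e
        exact (T.card_orb (h0 θ e1)).2 fun η e' => T.psi_orb (h0 θ e1) (hf θ (h0 θ e1))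
          ((mem_filter.mp e').2 ▸ hf η (h0 η (mem_filter.mp e').1))
  have := pred_card_le_card_erase (s := lins P) (a := SC3.triv P)
  omega

theorem TI.ind_one (T : TI p P) (g : G) : indFun P (fun x => if x = 1 then 0 else 1) g =
    if g ≠ 1 ∧ PE p g then (ee P : ℂ) else 0 := by
  split_ifs with e
  · obtain ⟨y, hy⟩ := T.cj g e.2
    have h1 : (⟨_, hy⟩ : P) ≠ 1 := fun f => e.1 (by
      simpa [mul_assoc, inv_mul_eq_one] using congrArg Subtype.val f)
    rw [← indFun_classFun P _ g y⁻¹, inv_inv, T.ind_res (by simp) ⟨_, hy⟩,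
      sum_congr rfl fun l _ => if_neg (by rwa [smul_eq_iff_eq_inv_smul, smul_one]), sum_const,
      card_univ, ← Nat.card_eq_fintype_card, ← ee_mul]
    simp [-Nat.card_eq_fintype_card, card_cast_ne P]
  · exact T.ind_zero (by simp) fun f => by_contra fun f' => e ⟨f', f⟩

theorem decomp {S : Finset ℕ} {P : ℕ → Subgroup G} (T : ∀ p ∈ S, TI p (P p))
    (hS : ∀ g : G, g ≠ 1 → ∃ p ∈ S, PE p g) (ho : Odd (Nat.card G)) (χ : IrrCharacter G) :
    ∑ p ∈ S, (nrm (fun x : P p => χ.1 x) - (Nat.card (P p) - 1)) / (Nat.card (P p) * ee (P p)) ≤ 0 := by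
  let F : G → ℂ := fun g => Complex.normSq (χ.1 g) - 1
  have h0 := card_ne_zero (G := G)
  have h1 : IsClassFunction G F := fun a b => by simp only [F, isChar_classFun (SC3.ch χ) a b]
  have h2 : ∑ g, F g = 0 := by
    have := (inner_self_eq_normSq χ.1).symm.trans (inner_irr_self χ.2)
    rw [inv_mul_eq_iff_eq_mul₀ h0] at this
    simp [F, this]
  have h3 : ∀ p ∈ S, ∑ g, (if g ≠ 1 ∧ PE p g then F g else 0) = Nat.card G *
      (((nrm (fun x : P p => χ.1 x) - (Nat.card (P p) - 1)) / (Nat.card (P p) * ee (P p)) : ℝ) : ℂ) :=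
    fun p hp => by
    have e1 := sum_indHom_mul (P p).subtype (fun x => if x = 1 then 0 else 1) h1
    have e2 : (ee (P p) : ℂ) ≠ 0 := Nat.cast_ne_zero.mpr (ee_odd ho _).pos.ne'
    have e3 := card_cast_ne (P p)
    have e4 : ∑ x : P p, (if x = 1 then 0 else 1) * F x =
        nrm (fun x : P p => χ.1 x) - (Nat.card (P p) - 1) := by
      rw [nrm, Complex.ofReal_sum, Nat.card_eq_fintype_card, ← card_univ, card_eq_sum_ones,
        ← (sum_ite_eq' univ (1 : P p) fun _ => (1 : ℂ)).trans (if_pos (mem_univ _))]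
      push_cast
      rw [← sum_sub_distrib, ← sum_sub_distrib]
      exact sum_congr rfl fun x _ => by split_ifs <;> simp [F]
    simp only [← indFun_eq_indHom, (T p hp).ind_one, coe_subtype, e4] at e1
    refine mul_left_cancel₀ e2 ?_
    rw [mul_sum, (sum_congr rfl fun g _ => by split_ifs <;> simp).trans e1]
    push_cast
    field_simp
  have h4 := sum_congr rfl h3
  rw [sum_comm, ← mul_sum, ← Complex.ofReal_sum, sum_congr rfl (g := fun g => F g -
    if g = 1 then F g else 0) fun g _ => by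
      split_ifs with e
      · simp [e]
      · obtain ⟨p, hp, h⟩ := hS g e
        rw [sum_eq_single_of_mem p hp fun q hq f => if_neg fun f' => e ((pp_of_pe
          ((Nat.coprime_primes (T q hq).pr (T p hp).pr).mpr f) f'.2).eq_one h), if_pos ⟨e, h⟩,
          sub_zero], sum_sub_distrib, h2, sum_ite_eq', if_pos (mem_univ _)] at h4
  simp only [F, SC3.dg_eq, Complex.normSq_natCast] at h4
  have h5 := SC3.dg_pos χ
  generalize ∑ p ∈ S, (_ : ℝ) = t at h4 ⊢
  have h6 : (0 : ℝ) - (SC3.dg χ * SC3.dg χ - 1) = Nat.card G * t := by exact_mod_cast h4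
  have h7 : (0 : ℝ) < Nat.card G := by exact_mod_cast Nat.card_pos
  have : (1 : ℝ) ≤ SC3.dg χ := by exact_mod_cast h5
  exact nonpos_of_mul_nonpos_right (by nlinarith) h7

theorem num {e a : ℕ} (he : 3 ≤ e) (h1 : Odd e) (h2 : Odd a) (h : 2 * e ≤ a) :
    ∃ D : ℕ, 0 < D ∧ ((e : ℝ) - 1) / D + e / a + 1 / e ≤ 1 ∧
      ∀ e' a' k : ℕ, Odd e' → Odd a' → a < a' → 2 * e' ≤ a' → a' ≤ e' * k + 1 → k + 1 ≤ e →
        D ≤ e' * k := by
  obtain ⟨u, rfl⟩ := h1
  obtain ⟨v, rfl⟩ := h2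
  by_cases h3 : u = 1 ∧ v = 3
  · obtain ⟨rfl, rfl⟩ := h3
    refine ⟨10, by norm_num, by norm_num, ?_⟩
    rintro _ _ k ⟨x, rfl⟩ ⟨y, rfl⟩ _ _ _ _
    obtain rfl | rfl | rfl : k = 0 ∨ k = 1 ∨ k = 2 := by omega
    all_goals omega
  refine ⟨2 * v + 2, by omega, ?_, ?_⟩
  · obtain ⟨w, rfl⟩ : ∃ w, u = w + 1 := ⟨u - 1, by omega⟩
    obtain ⟨t, rfl⟩ : ∃ t, v = 2 * w + 3 + t := ⟨v - (2 * w + 3), by omega⟩
    have h4 : (1 : ℝ) ≤ w + t := by exact_mod_cast (by omega : 1 ≤ w + t)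
    have h5 : (0 : ℝ) ≤ w := Nat.cast_nonneg w
    have h6 : (0 : ℝ) ≤ t := Nat.cast_nonneg t
    push_cast
    rw [div_add_div _ _ (by positivity) (by positivity), div_add_div _ _ (by positivity)
      (by positivity), div_le_one (by positivity)]
    nlinarith [mul_nonneg h5 h6, mul_nonneg h5 (mul_nonneg h5 h6), mul_nonneg h6 (mul_nonneg h5 h6),
      mul_nonneg h5 (sub_nonneg.mpr h4), mul_nonneg h6 (sub_nonneg.mpr h4)]
  · rintro _ _ k - ⟨y, rfl⟩ _ _ _ _
    omega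

theorem not_ti [IsSimpleGroup G] (hG : ¬ IsMulCommutative G) (ho : Odd (Nat.card G)) {S : Finset ℕ}
    {P : ℕ → Subgroup G} (T : ∀ p ∈ S, TI p (P p)) (hS : ∀ g : G, g ≠ 1 → ∃ p ∈ S, PE p g) :
    False := by
  obtain ⟨g, hg⟩ := exists_ne (1 : G)
  obtain ⟨i, hi, hm⟩ := exists_min_image S (fun p => (lins (P p)).card) ((hS g hg).imp fun _ => And.left)
  obtain ⟨θ, hθ⟩ := (T i hi).exists_lin
  obtain ⟨ψ, hψ⟩ := (T i hi).exists_psi ho hθ
  have hodd : ∀ j ∈ S, Odd (lins (P j)).card := fun j hj => by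
    obtain ⟨k, h1, h2⟩ := (T j hj).card_lins
    exact h1 ▸ ho.of_dvd_nat h2
  obtain ⟨h1, h2⟩ := (T i hi).main_bound hθ hψ
  have h3 := (T i hi).three_le hG ho
  obtain ⟨D, hD, h4, h5⟩ := num h3 (ee_odd ho _) (hodd i hi) h1
  let K : ℕ → Finset (IrrCharacter G) := fun j => univ.filter fun φ => (∀ η ∈ lins (P j),
    mu ψ η = mu ψ (SC3.triv (P j))) ∧ ∃ η : IrrCharacter (P j), Lin η ∧ Psi η φ
  have h6 := (T i hi).count hθ hψ ((S.erase i).biUnion K) fun φ e => by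
    obtain ⟨j, hj, e⟩ := mem_biUnion.mp e
    obtain ⟨-, e1, η, e2, e3⟩ := mem_filter.mp e
    obtain ⟨e4, hj⟩ := mem_erase.mp hj
    exact ⟨e3.ne_triv, (T i hi).psi_ne (T j hj) e4 hψ e3, (T i hi).psi_ne (T j hj) e4 hψ.bar e3,
      (T i hi).parity (T j hj) e4 ho hθ e2 hψ e3 (e1 η (mem_filter.mpr ⟨mem_univ _, e2.1⟩))⟩
  rw [card_biUnion fun j hj k hk e => disjoint_left.mpr fun φ e1 e2 => by
    obtain ⟨-, -, η, -, e3⟩ := mem_filter.mp e1
    obtain ⟨-, -, η', -, e4⟩ := mem_filter.mp e2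
    exact (T k (mem_of_mem_erase hk)).psi_ne (T j (mem_of_mem_erase hj)) e e4 e3 rfl] at h6
  have h7 := decomp T hS ho ψ
  have h8 : ∀ j, (0 : ℝ) < Nat.card (P j) := fun j => by exact_mod_cast Nat.card_pos
  have h9 : ∀ j, (0 : ℝ) < ee (P j) := fun j => by exact_mod_cast (ee_odd ho _).pos
  have h10 := sum_le_sum (s := S.erase i) (f := fun j => -((K j).card : ℝ) / D)
    (g := fun p => (nrm (fun x : P p => ψ.1 x) - (Nat.card (P p) - 1)) /
      (Nat.card (P p) * ee (P p))) fun j hj => by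
    obtain ⟨e, hj'⟩ := mem_erase.mp hj
    have := Fact.mk (T j hj').pr
    obtain ⟨k, e1, -⟩ := (T j hj').card_lins
    by_cases hB : ∀ η ∈ lins (P j), mu ψ η = mu ψ (SC3.triv (P j))
    · obtain ⟨η, hη⟩ := (T j hj').exists_lin
      obtain ⟨φ, hφ⟩ := (T j hj').exists_psi ho hη
      have e2 := h5 _ _ (K j).card (ee_odd ho _) (hodd j hj') ((hm j hj').lt_of_ne fun f => e (by
          obtain ⟨l, e2, -⟩ := (T i hi).card_lins
          exact (Nat.prime_dvd_prime_iff_eq (T j hj').pr (T i hi).pr).mp ((T j hj').pr.dvd_of_dvd_pow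
            (e2 ▸ f ▸ e1 ▸ dvd_pow_self j k.succ_ne_zero))))
        ((T j hj').main_bound hη hφ).1
        ((T j hj').le_mul ho fun η φ f f' => mem_filter.mpr ⟨mem_univ _, hB, η, f, f'⟩)
        ((Nat.add_le_add_right (single_le_sum (f := fun j => (K j).card) (fun _ _ => Nat.zero_le _)
          hj) 1).trans h6)
      have e3 : (D : ℝ) ≤ ee (P j) * (K j).card := by exact_mod_cast e2
      have e4 := nrm_nonneg fun x : P j => ψ.1 x
      have e5 : (0 : ℝ) < D := by exact_mod_cast hD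
      rw [div_le_div_iff₀ e5 (mul_pos (h8 j) (h9 j))]
      nlinarith [mul_le_mul_of_nonneg_left e3 (h8 j).le, mul_nonneg e4 e5.le]
    · push Not at hB
      obtain ⟨η, e2, e3⟩ := hB
      exact (div_nonpos_of_nonpos_of_nonneg (by simp) (Nat.cast_nonneg _)).trans (div_nonneg
        (sub_nonneg.mpr (bound_ne (T j hj').pg (isChar_comp (P j).subtype (SC3.ch ψ)) (mu_eq ψ)
          (e1 ▸ dvd_pow_self j k.succ_ne_zero) (mem_filter.mp e2).2 e3)) (mul_pos (h8 j) (h9 j)).le)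
  rw [← add_sum_erase _ _ hi] at h7
  rw [← sum_div, sum_neg_distrib, ← Nat.cast_sum] at h10
  have h11 : -((ee (P i) : ℝ) - 1) / D ≤ -((∑ j ∈ S.erase i, (K j).card : ℕ) : ℝ) / D :=
    div_le_div_of_nonneg_right (by
      have : ((∑ j ∈ S.erase i, (K j).card : ℕ) : ℝ) + 1 ≤ ee (P i) := by exact_mod_cast h6
      linarith) (Nat.cast_nonneg _)
  have h12 : (0 : ℝ) < (lins (P i)).card := by exact_mod_cast (hodd i hi).pos
  have h13 : 1 - ee (P i) / (lins (P i)).card - 1 / ee (P i) < (nrm (fun x : P i => ψ.1 x) -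
      (Nat.card (P i) - 1)) / (Nat.card (P i) * ee (P i)) := by
    have e1 := h8 i
    have e2 := h9 i
    rw [← div_le_iff₀' h12, le_div_iff₀ e1] at h2
    rw [lt_div_iff₀ (mul_pos e1 e2)]
    refine lt_of_eq_of_lt (b := (ee (P i) : ℝ) * ((lins (P i)).card - ee (P i)) / (lins (P i)).card *
      Nat.card (P i) - Nat.card (P i)) (by field_simp) (by linarith)
  rw [neg_div] at h11
  linarith

end Cfsg.Agent.EP.O
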