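import Cfsg.Agent.N9.Deg
import Cfsg.Agent.N9.Num

/-! Lower bounds for the norm of a character on the non-identity elements of a `p`-group. -/

namespace Cfsg.Agent.EP.O

open Cfsg Cfsg.Agent.CharLib Cfsg.Agent.Thom Cfsg.Agent.N9 Subgroup Finset
open scoped ComplexConjugate

theorem var_le {ι : Type*} (s : Finset ι) (n : ι → ℝ) (t : ℝ) :
    s.card * ∑ i ∈ s, n i ^ 2 - (∑ i ∈ s, n i) ^ 2 ≤ s.card * ∑ i ∈ s, (n i - t) ^ 2 := by
  simp only [sub_sq, sum_add_distrib, sum_sub_distrib, ← sum_mul, ← mul_sum, sum_const,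
    nsmul_eq_mul]
  nlinarith [sq_nonneg (∑ i ∈ s, n i - s.card * t)]

theorem le_var {ι : Type*} [DecidableEq ι] (s : Finset ι) (n : ι → ℤ) (q : ι → Prop)
    [DecidablePred q] (h : ∀ i j, q i → ¬ q j → n i ≠ n j) :
    ((s.filter q).card : ℤ) * (s.card - (s.filter q).card) ≤
      s.card * ∑ i ∈ s, n i ^ 2 - (∑ i ∈ s, n i) ^ 2 := by
  have h1 : ∑ i ∈ s, ∑ j ∈ s, (n i - n j) ^ 2 =
      2 * (s.card * ∑ i ∈ s, n i ^ 2 - (∑ i ∈ s, n i) ^ 2) := by
    simp only [sub_sq, sum_add_distrib, sum_sub_distrib, ← sum_mul, ← mul_sum, sum_const,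
      nsmul_eq_mul]
    ring
  have h2 : ∑ i ∈ s, ∑ j ∈ s, ((if q i then 1 else 0) * (1 - if q j then 1 else 0) +
      (1 - if q i then 1 else 0) * (if q j then 1 else 0) : ℤ) =
      2 * ((s.filter q).card * (s.card - (s.filter q).card)) := by
    simp only [sum_add_distrib, sum_sub_distrib, ← sum_mul, ← mul_sum, sum_const, nsmul_eq_mul,
      sum_boole]
    ring
  have h3 := sum_le_sum (s := s) fun i _ => sum_le_sum (s := s) fun j _ =>
    (show ((if q i then 1 else 0) * (1 - if q j then 1 else 0) +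
      (1 - if q i then 1 else 0) * (if q j then 1 else 0) : ℤ) ≤ (n i - n j) ^ 2 by
      by_cases e : q i <;> by_cases e' : q j <;> simp only [e, e', if_true, if_false]
      · simpa using sq_nonneg _
      · have := sq_pos_of_ne_zero (sub_ne_zero.mpr (h i j e e')); omega
      · have := sq_pos_of_ne_zero (sub_ne_zero.mpr (h j i e' e).symm); omega
      · simpa using sq_nonneg _)
  rw [h1, h2] at h3
  omega

variable {P : Type*} [Group P]

/-- complex conjugate character -/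
def bar [Finite P] (θ : IrrCharacter P) : IrrCharacter P :=
  ⟨fun x => conj (θ.1 x), have := Fintype.ofFinite P; isIrr_star θ.2⟩

theorem bar_bar [Finite P] (θ : IrrCharacter P) : bar (bar θ) = θ := by ext; simp [bar]

theorem dg_bar [Finite P] (θ : IrrCharacter P) : SC3.dg (bar θ) = SC3.dg θ :=
  charDegree_eq (by change conj (θ.1 1) = _; rw [SC3.dg_eq]; simp)

theorem bar_triv [Finite P] : bar (SC3.triv P) = SC3.triv P := by ext; simp [bar, SC3.triv]

variable [Fintype P]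

theorem eq_triv_of_bar (ho : Odd (Nat.card P)) {θ : IrrCharacter P} (h : bar θ = θ) :
    θ = SC3.triv P := by
  classical
  by_contra hc
  have h1 : ∑ g, θ.1 g = 0 := by
    simpa [classInner] using inner_irr_ne θ.2 isIrr_one fun e => hc (Subtype.ext e)
  let S : AddSubgroup ℂ := (integralClosure ℤ ℂ).toSubring.toAddSubgroup.map
    (AddMonoidHom.mulLeft 2)
  have h2 : ∑ g ∈ univ.erase 1, QuotientAddGroup.mk' S (θ.1 g) = 0 :=
    sum_involution (fun u _ => u⁻¹) (fun u _ => by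
      rw [← map_add, ← isChar_conj (SC3.ch θ), show conj (θ.1 u) = θ.1 u from
        congrFun (congrArg Subtype.val h) u]
      exact (QuotientAddGroup.eq_zero_iff _).mpr ⟨_, isChar_isIntegral (SC3.ch θ) u, two_mul _⟩)
      (fun u hu _ f => (mem_erase.mp hu).1 (PP.eq_one (p := 2) ⟨_, Nat.coprime_two_right.mpr ho,
        pow_card_eq_one'⟩ ⟨1, by rw [pow_one, sq]; nth_rw 1 [← f]; simp⟩))
      (fun u hu => by simpa using hu) fun u _ => inv_inv u
  rw [← map_sum, sum_erase_eq_sub (mem_univ _), h1] at h2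
  obtain ⟨w, h3, h4⟩ := (QuotientAddGroup.eq_zero_iff _).mp h2
  rw [SC3.dg_eq, AddMonoidHom.coe_mulLeft] at h4
  obtain ⟨v, hv⟩ := int_of_rat h3 (r := -SC3.dg θ / 2) (by push_cast; linear_combination h4 / 2)
  have h5 : (SC3.dg θ : ℤ) = -2 * v := by
    have : (SC3.dg θ : ℂ) = -2 * v := by linear_combination h4 - 2 * hv
    exact_mod_cast this
  obtain ⟨k, hk⟩ := ho.of_dvd_nat (SC3.dg_dvd θ)
  omega

open Classical in
/-- the norm on the non-identity elements -/
noncomputable def nrm (χ : P → ℂ) : ℝ := ∑ x, if x = 1 then 0 else Complex.normSq (χ x)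

theorem nrm_nonneg (χ : P → ℂ) : 0 ≤ nrm χ :=
  sum_nonneg fun x _ => by split_ifs; exacts [le_rfl, Complex.normSq_nonneg _]

theorem bessel {χ : P → ℂ} (hχ : IsClassFunction P χ) {n : IrrCharacter P → ℤ}
    (hn : ∀ θ, classInner χ θ.1 = n θ) {d : ℕ} (hd : χ 1 = d) :
    ∑ θ ∈ univ.filter fun θ => SC3.dg θ = 1, ((n θ : ℝ) - d / Nat.card P) ^ 2 ≤
      nrm χ / Nat.card P := by
  classical
  have h0 := card_ne_zero (G := P)
  let u : P → ℂ := χ - ((d : ℂ) / Nat.card P) • regChar P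
  have h1 : IsClassFunction P u := classFun_sub hχ (classFun_smul _ (isChar_classFun isChar_regChar))
  have h2 : classInner u u = ((nrm χ / Nat.card P : ℝ) : ℂ) := by
    rw [inner_self_eq_normSq, nrm]
    push_cast
    rw [div_eq_inv_mul]
    congr 1
    refine sum_congr rfl fun x _ => ?_
    split_ifs with e
    · simp [u, e, hd, regChar_one, -Nat.card_eq_fintype_card, h0]
    · simp [u, regChar_of_ne e]
  have h3 : ∀ θ : IrrCharacter P,
      classInner u θ.1 = (((n θ : ℝ) - d / Nat.card P * SC3.dg θ : ℝ) : ℂ) := fun θ => by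
    simp [u, CharLib.inner_sub_left, CharLib.inner_smul_left, inner_regChar_left, hn, SC3.dg_eq]
  rw [inner_eq_sum_inner h1] at h2
  simp only [← inner_conj_symm u, h3, Complex.conj_ofReal] at h2
  have h4 : ∑ θ : IrrCharacter P, ((n θ : ℝ) - d / Nat.card P * SC3.dg θ) ^ 2 =
      nrm χ / Nat.card P := by
    simp only [sq]
    exact_mod_cast h2
  rw [← h4]
  refine le_trans (le_of_eq (sum_congr rfl fun θ hθ => ?_))
    (sum_le_sum_of_subset_of_nonneg (subset_univ _) fun _ _ _ => sq_nonneg _)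
  rw [(mem_filter.mp hθ).2]; simp

variable {p : ℕ} [hp : Fact p.Prime]

theorem deg_cong (hP : IsPGroup p P) {χ : P → ℂ} (hχ : IsClassFunction P χ)
    {n : IrrCharacter P → ℤ} (hn : ∀ θ, classInner χ θ.1 = n θ) {d : ℕ} (hd : χ 1 = d) :
    (p : ℤ) ∣ d - ∑ θ ∈ univ.filter fun θ => SC3.dg θ = 1, n θ := by
  have h1 := congrFun (classFun_eq_sum_inner hχ) 1
  simp only [Finset.sum_apply, Pi.smul_apply, hn, hd, SC3.dg_eq, smul_eq_mul] at h1
  have h2 : (d : ℤ) = ∑ θ, n θ * SC3.dg θ := by exact_mod_cast h1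
  rw [h2, sum_filter, ← sum_sub_distrib]
  refine dvd_sum fun θ _ => ?_
  split_ifs with e
  · simp [e]
  · obtain ⟨k, hk⟩ := hP.exists_card_eq
    obtain ⟨j, -, hj⟩ := (Nat.dvd_prime_pow hp.out).mp (hk ▸ SC3.dg_dvd θ)
    rw [sub_zero, hj]
    exact_mod_cast (Int.natCast_dvd_natCast.mpr (dvd_pow_self p fun f => e (by simp [hj, f]))).mul_left _

theorem galois_bound (hP : IsPGroup p P) {χ : P → ℂ} (hχ : IsCharacter P χ) {d : ℕ} (hd : χ 1 = d)
    (h : ¬ p ∣ d) : (Nat.card P : ℝ) - 1 ≤ nrm χ := by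
  classical
  have : NeZero (Nat.card P) := ⟨Nat.card_pos.ne'⟩
  let Ψ : P → ℂ := ∏ j : (ZMod (Nat.card P))ˣ, fun x => χ (x ^ (j : ZMod (Nat.card P)).val)
  have h1 : IsCharacter P Ψ := prod_induction _ _ (fun _ _ => isChar_mul) isChar_one
    fun j _ => isChar_pow hχ (ZMod.val_coe_unit_coprime j)
  have h2 : ∀ x, ∃ w : ℤ, Ψ x = w := fun x => int_of_pow h1 fun j hj => by
    obtain ⟨i, e1, e2⟩ := exists_cop (G := P) (orderOf_pos x).ne' hj
    rw [← pow_eq_pow_iff_modEq.mpr e2]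
    simp only [Ψ, prod_apply]
    refine Fintype.prod_equiv (Equiv.mulLeft (ZMod.unitOfCoprime i e1)) _ _ fun k => ?_
    rw [Equiv.coe_mulLeft, Units.val_mul, ZMod.coe_unitOfCoprime, ZMod.val_mul, ZMod.val_natCast,
      Nat.mod_mul_mod, ← pow_eq_pow_mod _ pow_card_eq_one', pow_mul]
  have h3 : ∀ x, χ x ≠ 0 := fun x e => h (by
    have := cong_p hp.out hχ (hP x) (c := 0) (d := d) (by simpa using e) (by simpa using hd)
    exact_mod_cast (dvd_neg.mp (by simpa using this) : (p : ℤ) ∣ d))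
  have h4 : ∀ x, (Fintype.card (ZMod (Nat.card P))ˣ : ℝ) ≤ ∑ j : (ZMod (Nat.card P))ˣ,
      Complex.normSq (χ (x ^ (j : ZMod (Nat.card P)).val)) := fun x => by
    obtain ⟨w, hw⟩ := h2 x
    have e1 : w ≠ 0 := fun e => by
      simp only [Ψ, prod_apply, e, Int.cast_zero, prod_eq_zero_iff] at hw
      exact h3 _ hw.choose_spec.2
    have e2 : 1 ≤ Complex.normSq (Ψ x) := by
      rw [hw, Complex.normSq_intCast, ← sq]
      exact_mod_cast (sq_pos_of_ne_zero e1 : (0 : ℤ) + 1 ≤ _)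
    simp only [Ψ, prod_apply, map_prod] at e2
    have e3 := Real.log_nonneg e2
    rw [Real.log_prod fun j _ => (Complex.normSq_pos.mpr (h3 _)).ne'] at e3
    have e4 := e3.trans (sum_le_sum fun j _ =>
      Real.log_le_sub_one_of_pos (Complex.normSq_pos.mpr (h3 _)))
    simpa using e4
  have h5 : ∀ j : (ZMod (Nat.card P))ˣ, ∑ x ∈ univ.erase 1,
      Complex.normSq (χ (x ^ (j : ZMod (Nat.card P)).val)) = nrm χ := fun j => by
    rw [nrm, ← Equiv.sum_comp (powCoprime (ZMod.val_coe_unit_coprime j).symm), ← filter_ne',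
      sum_filter]
    refine sum_congr rfl fun x _ => ?_
    have := (powCoprime (ZMod.val_coe_unit_coprime j).symm).apply_eq_iff_eq (x := x) (y := 1)
    rw [powCoprime_one] at this
    simp only [this, ite_not]
    rfl
  have h6 := sum_le_sum fun x (_ : x ∈ univ.erase 1) => h4 x
  rw [sum_comm, sum_congr rfl fun j _ => h5 j, sum_const, sum_const, card_erase_of_mem (mem_univ _),
    card_univ, card_univ, nsmul_eq_mul, nsmul_eq_mul, mul_comm, Nat.cast_pred Fintype.card_pos,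
    ← Nat.card_eq_fintype_card (α := P)] at h6
  exact le_of_mul_le_mul_left h6 (by exact_mod_cast Fintype.card_pos)

/-- if the multiplicities of the linear characters are not all equal -/
theorem bound_ne (hP : IsPGroup p P) {χ : P → ℂ} (hχ : IsCharacter P χ)
    {n : IrrCharacter P → ℤ} (hn : ∀ θ, classInner χ θ.1 = n θ)
    (ha : p ∣ (univ.filter fun θ : IrrCharacter P => SC3.dg θ = 1).card) {θ : IrrCharacter P}
    (h1 : SC3.dg θ = 1) (h2 : n θ ≠ n (SC3.triv P)) : (Nat.card P : ℝ) - 1 ≤ nrm χ := by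
  classical
  obtain ⟨d, hd⟩ := isChar_degree hχ
  by_cases h : p ∣ d
  swap
  · exact galois_bound hP hχ hd h
  set s := univ.filter fun θ : IrrCharacter P => SC3.dg θ = 1 with hs
  have h3 := le_var s n (fun η => n η = n (SC3.triv P)) fun i j e1 e2 e => e2 (e ▸ e1)
  have h4 : 0 < (s.filter fun η => n η = n (SC3.triv P)).card :=
    card_pos.mpr ⟨SC3.triv P, by simp [hs, SC3.dg_triv]⟩
  have h5 : (s.filter fun η => n η = n (SC3.triv P)).card < s.card :=
    card_lt_card (filter_ssubset.mpr ⟨θ, by simp [hs, h1], h2⟩)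
  have h6 := (dvd_sub_right (Int.natCast_dvd_natCast.mpr h)).mp
    (deg_cong hP (isChar_classFun hχ) hn hd)
  have h7 : (s.card : ℤ) ≤ s.card * ∑ i ∈ s, n i ^ 2 - (∑ i ∈ s, n i) ^ 2 := by
    by_contra hc
    have e1 : (s.card : ℤ) * ∑ i ∈ s, n i ^ 2 - (∑ i ∈ s, n i) ^ 2 = s.card - 1 := by
      zify at h4 h5
      nlinarith
    have e2 := Int.natCast_dvd_natCast.mpr ha
    have e3 := dvd_sub (e2.mul_right (∑ i ∈ s, n i ^ 2)) (h6.pow two_ne_zero)
    rw [e1, dvd_sub_right e2] at e3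
    exact hp.out.one_lt.ne' (by exact_mod_cast Int.eq_one_of_dvd_one (by positivity) e3)
  have h8 := var_le s (fun θ => n θ) (d / Nat.card P)
  have h9 := bessel (isChar_classFun hχ) hn hd
  have h10 : (s.card : ℝ) * 1 ≤ s.card * (nrm χ / Nat.card P) := by
    have : (s.card : ℝ) ≤ s.card * ∑ i ∈ s, (n i : ℝ) ^ 2 - (∑ i ∈ s, (n i : ℝ)) ^ 2 := by
      exact_mod_cast h7
    have := mul_le_mul_of_nonneg_left h9 (Nat.cast_nonneg s.card)
    linarith
  have h11 := le_of_mul_le_mul_left h10 (by exact_mod_cast h4.trans h5)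
  rw [one_le_div (by exact_mod_cast Nat.card_pos)] at h11
  linarith

end Cfsg.Agent.EP.O
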