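import Cfsg.Agent.EP.Tools

/-! Sylow 2-subgroups with trivial intersections. -/

set_option autoImplicit false

namespace Cfsg.Agent.EP

open Subgroup Finset Cfsg.Agent.SC3

variable {G : Type*} [Group G] [Finite G]

theorem exists_i2 {S : Subgroup G} (h : IsPGroup 2 S) (h0 : S ≠ ⊥) : ∃ z ∈ S ⊓ Ce S, I2 z := by
  obtain ⟨z, hz, h1⟩ := exists_central h h0
  obtain ⟨k, hk⟩ := exists_i2_pow ((pe_of_mem h hz.1).dvd Nat.prime_two h1)
  exact ⟨_, pow_mem hz k, hk⟩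

omit [Finite G] in
theorem exists_sqrt {k : G} (h : Odd (orderOf k)) : ∃ j : ℕ, k ^ j * k ^ j * k = 1 :=
  let ⟨j, hj⟩ := h; ⟨j, by rw [← pow_add, ← pow_succ, ← two_mul, ← hj, pow_orderOf_eq_one]⟩

/-- the two point stabilizer -/
def KK (S : Subgroup G) (t : G) : Subgroup G := Nm S ⊓ cj t (Nm S)

/-- the elements of order at most two in the centre -/
abbrev ZZ (S : Subgroup G) : Subgroup G := Frob.Zs 2 S

omit [Finite G] in
theorem ZZ_sq {S : Subgroup G} {x : G} (h : x ∈ ZZ S) : x * x = 1 := by rw [← sq]; exact h.2.1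

omit [Finite G] in
theorem ZZ_comm {S : Subgroup G} {x y : G} (h : x ∈ ZZ S) (hy : y ∈ S) : Commute x y := h.2.2 y hy

/-- the hypotheses -/
structure TI (S : Subgroup G) : Prop where
  h : EPPO G
  p2 : IsPGroup 2 S
  odd : ¬ 2 ∣ S.index
  ti : ∀ x ∈ S, x ≠ 1 → ∀ g, g * x * g⁻¹ ∈ S → g ∈ Nm S
  ne : Nm S ≠ ⊤
  ne0 : S ≠ ⊥

namespace TI

variable {S : Subgroup G} (T : TI S)
include T

omit [Finite G] in
theorem sylow : ∃ P : Sylow 2 G, (P : Subgroup G) = S := ⟨T.p2.toSylow T.odd, rfl⟩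

theorem pe_mem {x : G} (hx : x ∈ Nm S) (h : PE 2 x) : x ∈ S := by
  obtain ⟨P, rfl⟩ := T.sylow
  obtain ⟨n, hn⟩ := h
  exact mem_sylow_of_Nm hn hx

theorem mem_of_comm {x y : G} (hx : x ∈ S) (h1 : x ≠ 1) (h : Commute x y) : y ∈ S :=
  T.pe_mem (T.ti x hx h1 y (by rwa [← h.eq, mul_inv_cancel_right]))
    (T.h.pe_comm Nat.prime_two (pe_of_mem T.p2 hx) h1 h)

theorem conj_into {x : G} (h : PE 2 x) : ∃ g, g * x * g⁻¹ ∈ S := by
  obtain ⟨P, rfl⟩ := T.sylow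
  obtain ⟨n, hn⟩ := h
  obtain ⟨Q, hQ⟩ := exists_sylow_mem hn
  obtain ⟨g, hg⟩ := sylow_conj Q P
  exact ⟨g, hg ▸ conj_mem_cj.2 hQ⟩

theorem ti' {x g : G} (hx : x ∈ S) (hg : g ∉ Nm S) (h : g * x * g⁻¹ ∈ Nm S) : x = 1 :=
  by_contra fun e => hg (T.ti x hx e g (T.pe_mem h ((pe_of_mem T.p2 hx).conj g)))

theorem odd_mul {u v : G} (hu : I2 u) (h : u ∈ S) (hv : v * v = 1) (h' : v ∉ S) : Odd (orderOf (u * v)) :=
  by_contra fun e => by
    obtain ⟨k, hk⟩ := exists_i2_pow (even_iff_two_dvd.1 (Nat.not_odd_iff_even.1 e))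
    obtain ⟨h1, h2⟩ := comm_pow_of_i2 hu.1 hv hk
    exact h' (T.mem_of_comm (T.mem_of_comm h hu.2 h1) hk.2 h2.symm)

theorem coset {g u v : G} (hg : g ∉ Nm S) (hu : I2 u) (h : u ∈ S) (hv : I2 v) (h' : v ∈ S) :
    ∃ w, w * w = 1 ∧ w * v * w = g * u * g⁻¹ ∧ g⁻¹ * w ∈ Nm S := by
  obtain ⟨w, h1, h2⟩ := exists_swap hv.1 (hu.conj g).1 (T.odd_mul hv h' (hu.conj g).1 fun e => hg (T.ti u h hu.2 g e))
  refine ⟨w, h1, h2, T.ti v h' hv.2 _ ?_⟩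
  rwa [mul_inv_rev, inv_inv, inv_eq_of_mul_eq_one_right h1, show g⁻¹ * w * v * (w * g) = g⁻¹ * (w * v * w) * g by
    group, h2, show g⁻¹ * (g * u * g⁻¹) * g = u by group]

omit [Finite G] in
theorem exists_out : ∃ g, g ∉ Nm S := by
  by_contra h; push Not at h; exact T.ne (eq_top_iff.2 fun g _ => h g)

theorem trans {u v : G} (hu : I2 u) (h : u ∈ S) (hv : I2 v) (h' : v ∈ S) : ∃ b ∈ Nm S, b * v * b⁻¹ = u := by
  obtain ⟨g, hg⟩ := T.exists_out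
  obtain ⟨w, h1, h2, h3⟩ := T.coset hg hu h hv h'
  exact ⟨_, h3, by rw [mul_inv_rev, inv_inv, inv_eq_of_mul_eq_one_right h1,
    show g⁻¹ * w * v * (w * g) = g⁻¹ * (w * v * w) * g by group, h2]; group⟩

theorem mem_ZZ {u : G} (h : u ∈ S) (hu : u * u = 1) : u ∈ ZZ S := by
  refine ⟨h, by rwa [sq], fun y hy => ?_⟩
  by_cases e : u = 1
  · simp [e]
  obtain ⟨z, hz, h1⟩ := exists_i2 T.p2 T.ne0
  obtain ⟨b, hb, rfl⟩ := T.trans ⟨hu, e⟩ h h1 hz.1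
  have := (commute_conj (g := b)).2 (mem_Ce.1 hz.2 _ (Nm_conj' hb hy))
  simpa [mul_assoc] using this.eq

theorem C1_eq {u : G} (h : u ∈ ZZ S) (hu : u ≠ 1) : C1 u = S :=
  le_antisymm (fun _ hy => T.mem_of_comm h.1 hu (mem_C1.1 hy)) fun _ hy => mem_C1.2 (ZZ_comm h hy)

theorem exists_z : ∃ z ∈ ZZ S, I2 z :=
  let ⟨z, hz, h⟩ := exists_i2 T.p2 T.ne0; ⟨z, T.mem_ZZ hz.1 h.1, h⟩

theorem card_ZZ : Nat.card (ZZ S) = S.relIndex (Nm S) + 1 := by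
  obtain ⟨z, hz, h⟩ := T.exists_z
  have h1 := Frob.card_orbit_conj (Nm S) z (nt (ZZ S)) fun s => ⟨fun hs => T.trans ⟨ZZ_sq (mem_nt.1 hs).1,
    (mem_nt.1 hs).2⟩ (mem_nt.1 hs).1.1 h hz.1, by
      rintro ⟨g, hg, rfl⟩
      exact mem_nt.2 ⟨T.mem_ZZ (Nm_conj hg hz.1) (h.conj g).1, (h.conj g).2⟩⟩
  rw [show centralizer {z} = S from T.C1_eq hz h.2, inf_eq_right.2 (le_Nm S), ← card_mul_relIndex (le_Nm S),
    mul_comm, card_nt] at h1
  have := Nat.eq_of_mul_eq_mul_right (card_pos' S) h1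
  have := card_pos' (ZZ S)
  omega

theorem exists_w {g : G} (hg : g ∉ Nm S) : ∃ w, I2 w ∧ w ∉ Nm S ∧ g⁻¹ * w ∈ Nm S := by
  obtain ⟨z, hz, h⟩ := T.exists_z
  obtain ⟨w, h1, -, h2⟩ := T.coset hg h hz.1 h hz.1
  have : w ∉ Nm S := fun e => hg (by simpa using mul_mem e (inv_mem h2))
  exact ⟨w, ⟨h1, fun e => this (e ▸ one_mem _)⟩, this, h2⟩

section

variable {t : G} (ht : I2 t) (hB : t ∉ Nm S)
include ht

omit [Finite G] T in
theorem mem_KK {x : G} : x ∈ KK S t ↔ x ∈ Nm S ∧ t * x * t ∈ Nm S := by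
  rw [KK, Subgroup.mem_inf, mem_cj, ht.inv]

omit [Finite G] T in
theorem mem_KK_of {x : G} (hx : x * x = 1) (h : t * x ∈ Nm S) : t * x ∈ KK S t :=
  (mem_KK ht).2 ⟨h, by
    have := inv_mem h
    rwa [mul_inv_rev, ht.inv, inv_eq_of_mul_eq_one_right hx, ← one_mul x, ← ht.1, mul_assoc t t x] at this⟩

include hB

theorem KS {x : G} (hx : x ∈ KK S t) (h : x ∈ S) : x = 1 :=
  T.ti' h hB (by rw [ht.inv]; exact ((mem_KK ht).1 hx).2)

theorem K_odd {x : G} (hx : x ∈ KK S t) : Odd (orderOf x) := by_contra fun e =>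
  e (by simp [T.KS ht hB hx (T.pe_mem hx.1 (T.h.pe_two e))])

theorem K_inv {x : G} (hx : x ∈ KK S t) : t * x * t = x⁻¹ := by
  have h1 := (mem_KK ht).1 hx
  have h2 : t * x * (t * x) ∈ KK S t := by
    rw [← mul_assoc]
    exact mul_mem ((mem_KK ht).2 ⟨h1.2, by simpa [← mul_assoc, ht.1, mul_assoc x] using h1.1⟩) hx
  obtain ⟨n, hn⟩ : PE 2 (t * x) := T.h.pe_two fun e => hB (by simpa using mul_mem (inf_le_left (a := Nm S) (mem_of_sq_mem e h2)) (inv_mem h1.1))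
  exact eq_inv_of_mul_eq_one_left (by
    rw [mul_assoc]
    exact PE.eq_one ⟨n, by rw [← sq, ← pow_mul, mul_comm, pow_mul, hn, one_pow]⟩ (T.K_odd ht hB h2))

theorem K_rl {x : G} (hx : x ∈ KK S t) (h1 : x ≠ 1) : Rl x := ⟨T.K_odd ht hB hx, h1, t, ht.1, T.K_inv ht hB hx⟩

theorem K_fix {k x : G} (hk : k ∈ KK S t) (hx : x ∈ S) (h : Commute k x) : k = 1 ∨ x = 1 :=
  (T.h.odd_comm (pe_of_mem T.p2 hx) (T.K_odd ht hB hk) h.symm).symm

theorem K_conj {u v : G} (hu : I2 u) (h : u ∈ S) (hv : I2 v) (h' : v ∈ S) : ∃ k ∈ KK S t, k * v * k⁻¹ = u := by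
  obtain ⟨w, h1, h2, h3⟩ := T.coset hB hu h hv h'
  rw [ht.inv] at h2 h3
  refine ⟨_, mem_KK_of ht h1 h3, ?_⟩
  rw [mul_inv_rev, inv_eq_of_mul_eq_one_right h1, show t * w * v * (w * t⁻¹) = t * (w * v * w) * t⁻¹ by group, h2,
    ← mul_assoc, ← mul_assoc, ht.1, one_mul, mul_inv_cancel_right]

theorem decomp {b : G} (hb : b ∈ Nm S) : ∃ s ∈ S, ∃ k ∈ KK S t, b = s * k := by
  obtain ⟨z, hz, h⟩ := T.exists_z
  obtain ⟨k, hk, e⟩ := T.K_conj ht hB h hz.1 (h.conj b⁻¹) (by simpa using Nm_conj' hb hz.1)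
  have : (b * k⁻¹)⁻¹ ∈ S := T.mem_of_comm hz.1 h.2 (by
    change z * (b * k⁻¹)⁻¹ = (b * k⁻¹)⁻¹ * z
    rw [← mul_inv_eq_iff_eq_mul]; nth_rewrite 1 [← e]; group)
  exact ⟨_, inv_mem_iff.1 this, k, hk, by group⟩

theorem card_KK : Nat.card (KK S t) = S.relIndex (Nm S) := by
  apply Nat.eq_of_mul_eq_mul_left (card_pos' S)
  rw [card_mul_relIndex (le_Nm S)]
  refine le_antisymm (card_mul_le (le_Nm S) inf_le_left (eq_bot_iff.2 fun x hx => T.KS ht hB hx.2 hx.1)) ?_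
  rw [← Nat.card_prod]
  refine Nat.card_le_card_of_surjective (fun x : S × KK S t => (⟨x.1 * x.2, mul_mem (le_Nm S x.1.2) x.2.2.1⟩ : Nm S))
    fun b => ?_
  obtain ⟨s, hs, k, hk, e⟩ := T.decomp ht hB b.2
  exact ⟨(⟨s, hs⟩, ⟨k, hk⟩), Subtype.ext e.symm⟩

theorem not_inv {k b : G} (hk : k ∈ KK S t) (h1 : k ≠ 1) (hb : b ∈ Nm S) : b * k * b⁻¹ ≠ k⁻¹ := fun e => by
  have h2 := T.h.inv_sq (T.K_odd ht hB hk) h1 e
  have h3 : b ∈ S := T.pe_mem hb ⟨1, by rw [pow_one, sq, h2]⟩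
  have h4 : k * k ∈ S := by
    have := mul_mem (Nm_conj hk.1 h3) (inv_mem h3)
    rw [show k * b * k⁻¹ * b⁻¹ = k * (b * k * b⁻¹)⁻¹ by group, e, inv_inv] at this
    exact this
  exact h1 (T.KS ht hB hk (mem_of_sq_mem (T.K_odd ht hB hk) h4))

theorem C1_K {k : G} (hk : k ∈ KK S t) (h1 : k ≠ 1) : C1 k = KK S t := by
  have h2 := T.K_rl ht hB hk h1
  have h3 : ∀ a ∈ C1 k, a ∈ Nm S := fun a ha => by_contra fun e => by
    obtain ⟨w, h4, h5, h6⟩ := T.exists_w e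
    have h7 := (mem_C1.1 ha).inv_right.eq
    have h8 := T.K_inv h4 h5 ((mem_KK h4).2 ⟨hk.1, by
      have := mul_mem (mul_mem (inv_mem h6) hk.1) h6
      rwa [mul_inv_rev, inv_inv, h4.inv, show w * a * k * (a⁻¹ * w) = w * a * (k * a⁻¹) * w by group, h7,
        show w * a * (a⁻¹ * k) * w = w * k * w by group] at this⟩)
    exact T.not_inv ht hB hk h1 h6 (by
      rw [mul_inv_rev, inv_inv, h4.inv, show a⁻¹ * w * k * (w * a) = a⁻¹ * (w * k * w) * a by group, h8,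
        ← (mem_C1.1 ha).inv_inv.eq, inv_mul_cancel_right])
  refine le_antisymm (fun a ha => (mem_KK ht).2 ⟨h3 a ha, h3 _ ?_⟩) fun x hx => mem_C1.2 ?_
  · rw [T.h.inv_all h2.1 h1 ht.1 (T.K_inv ht hB hk) (mem_C1.1 ha)]; exact inv_mem ha
  · have := T.K_inv ht hB (mul_mem hk hx)
    rw [show t * (k * x) * t = t * k * (t * t) * x * t by rw [ht.1]; group, show t * k * (t * t) * x * t =
      (t * k * t) * (t * x * t) by group, T.K_inv ht hB hk, T.K_inv ht hB hx, ← mul_inv_rev] at this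
    exact (inv_injective this).symm

theorem exists_K (h0 : ¬ Nm S ≤ S) : ∃ k ∈ KK S t, k ≠ 1 := by
  obtain ⟨b, hb, h1⟩ := SetLike.not_le_iff_exists.1 h0
  obtain ⟨s, hs, k, hk, rfl⟩ := T.decomp ht hB hb
  exact ⟨k, hk, fun e => h1 (by simpa [e] using hs)⟩

theorem bruhat (h0 : ¬ Nm S ≤ S) {g : G} (hg : g ∉ Nm S) : ∃ s ∈ S, ∃ b ∈ Nm S, g = s * t * b := by
  obtain ⟨k, hk, h1⟩ := T.exists_K ht hB h0
  obtain ⟨w, h2, h3, h4⟩ := T.exists_w hg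
  obtain ⟨r, hr, h5, h6⟩ := T.h.exists_pe h1
  have := Fact.mk hr
  obtain ⟨P, hP⟩ := T.h.sylow (T.K_rl ht hB hk h1) h5
  rw [T.C1_K ht hB hk h1] at hP
  obtain ⟨a, ha⟩ := P.isPGroup'.exists_card_eq
  have h7 : ¬ r ^ (a + 1) ∣ Nat.card (Nm S) := fun e => P.not_dvd_index (Nat.dvd_of_mul_dvd_mul_left (card_pos' (P : Subgroup G)) (by
    rw [card_mul_index, ha, ← pow_succ]; exact e.trans (card_subgroup_dvd_card _)))
  obtain ⟨b, hb⟩ := conj_of_card (S := (KK S w).subgroupOf (Nm S)) (T := (KK S t).subgroupOf (Nm S))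
    (by rw [card_subgroupOf (U := KK S w) inf_le_left, T.card_KK h2 h3, ← T.card_KK ht hB, ← hP, ha])
    (by rw [card_subgroupOf (U := KK S t) inf_le_left, ← hP, ha]) h7
  have h8 : (b : G)⁻¹ * k * b ∈ KK S w :=
    (mem_cj (H := Nm S)).1 (hb.le (show (⟨k, hk.1⟩ : Nm S) ∈ (KK S t).subgroupOf _ from hk))
  have h9 : t * (b * w * (b : G)⁻¹) ∈ C1 k := mem_C1.2 (by
    have e1 := T.K_inv h2 h3 h8
    have e2 : b * w * (b : G)⁻¹ * k * (b * w * (b : G)⁻¹) = k⁻¹ := by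
      rw [show b * w * (b : G)⁻¹ * k * (b * w * (b : G)⁻¹) = b * (w * ((b : G)⁻¹ * k * b) * w) * (b : G)⁻¹ by group, e1]
      group
    change k * (t * (b * w * (b : G)⁻¹)) = t * (b * w * (b : G)⁻¹) * k
    have e3 : k * t = t * k⁻¹ := by rw [← T.K_inv ht hB hk, ← mul_assoc, ← mul_assoc, ht.1, one_mul]
    rw [← mul_assoc, e3, ← e2, mul_assoc, mul_assoc _ (b * w * (b : G)⁻¹), (h2.conj b).1, mul_one]
    group)
  rw [T.C1_K ht hB hk h1] at h9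
  obtain ⟨s, hs, l, hl, e⟩ := T.decomp ht hB (inv_mem b.2)
  refine ⟨s, hs, l⁻¹ * (t * (b * w * (b : G)⁻¹)) * b * (g⁻¹ * w)⁻¹,
    mul_mem (mul_mem (mul_mem (inv_mem hl.1) h9.1) b.2) (inv_mem h4), ?_⟩
  rw [← T.K_inv ht hB hl, show s * t * (t * l * t * (t * (b * w * (b : G)⁻¹)) * b * (g⁻¹ * w)⁻¹) =
    s * (t * t) * l * (t * t) * b * g by group, ht.1, mul_one, mul_one, ← e, inv_mul_cancel, one_mul]

theorem uniq {s s' b b' : G} (hs : s ∈ S) (hs' : s' ∈ S) (hb : b ∈ Nm S) (hb' : b' ∈ Nm S)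
    (e : s * t * b = s' * t * b') : s = s' := by
  have : t * (s'⁻¹ * s) * t⁻¹ = b' * b⁻¹ := by
    rw [show t * (s'⁻¹ * s) * t⁻¹ = t * s'⁻¹ * (s * t * b) * b⁻¹ * (t * t)⁻¹ by group, e, ht.1,
      show t * s'⁻¹ * (s' * t * b') = t * t * b' by group, ht.1]; group
  exact (inv_mul_eq_one.1 (T.ti' (mul_mem (inv_mem hs') hs) hB (this ▸ mul_mem hb' (inv_mem hb)))).symm

theorem index_eq (h0 : ¬ Nm S ≤ S) : (Nm S).index = Nat.card S + 1 := by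
  rw [← Finite.card_option]
  refine (Nat.card_congr (Equiv.ofBijective (fun x : Option S => (x.elim (1 : G) fun s => ((s : G) * t : G) : G ⧸ Nm S)) ⟨?_, ?_⟩)).symm
  · have h1 : ∀ s : S, (((s : G) * t : G) : G ⧸ Nm S) ≠ (1 : G) := fun s e =>
      hB (by simpa using mul_mem (inv_mem (le_Nm S s.2)) (inv_mem (QuotientGroup.eq.1 e)))
    rintro (_ | a) (_ | b) e
    · rfl
    · exact absurd e.symm (h1 b)
    · exact absurd e (h1 a)
    · exact congrArg some (Subtype.ext (T.uniq ht hB a.2 b.2 (QuotientGroup.eq.1 e) (one_mem _) (by group)))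
  · rintro ⟨g⟩
    by_cases e : g ∈ Nm S
    · exact ⟨none, QuotientGroup.eq.2 (by simpa using e)⟩
    · obtain ⟨s, hs, b, hb, rfl⟩ := T.bruhat ht hB h0 e
      exact ⟨some ⟨s, hs⟩, QuotientGroup.eq.2 (by simpa [mul_assoc] using hb)⟩

theorem conj_t (h0 : ¬ Nm S ≤ S) {w : G} (hw : w * w = 1) (h : w ∉ Nm S) :
    ∃ s ∈ S, ∃ k ∈ KK S t, w = s * k * t * (s * k)⁻¹ := by
  obtain ⟨s, hs, b, hb, e⟩ := T.bruhat ht hB h0 h
  have h1 : t * (s⁻¹ * w * s) ∈ KK S t := mem_KK_of ht (by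
    rw [show s⁻¹ * w * s * (s⁻¹ * w * s) = s⁻¹ * (w * w) * s by group, hw]; group) (by
    rw [e, show t * (s⁻¹ * (s * t * b) * s) = t * t * (b * s) by group, ht.1, one_mul]; exact mul_mem hb (le_Nm S hs))
  obtain ⟨j, hj⟩ := exists_sqrt (T.K_odd ht hB h1)
  refine ⟨s, hs, _, pow_mem h1 j, ?_⟩
  have h2 := T.K_inv ht hB (pow_mem h1 j)
  generalize (t * (s⁻¹ * w * s)) ^ j = c at *
  calc w = s * (t * t)⁻¹ * t * (c * c)⁻¹ * (c * c * (t * (s⁻¹ * w * s))) * s⁻¹ := by group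
    _ = s * t * (t * c * t) * c⁻¹ * s⁻¹ := by rw [hj, ht.1, h2]; group
    _ = s * (t * t) * c * t * c⁻¹ * s⁻¹ := by group
    _ = _ := by rw [ht.1]; group

/-- the structure equation -/
theorem struct (h0 : ¬ Nm S ≤ S) : ∃ σ ∈ ZZ S, I2 σ ∧ ∃ r ∈ S, t * σ * t = r * t * r⁻¹ := by
  obtain ⟨z, hz, h⟩ := T.exists_z
  obtain ⟨s, hs, k, hk, e⟩ := T.conj_t ht hB h0 (h.conj t).1 fun e => h.2 (T.ti' hz.1 hB e)
  refine ⟨k * z * k⁻¹, T.mem_ZZ (Nm_conj hk.1 hz.1) (h.conj k).1, h.conj k, k⁻¹ * s * k, Nm_conj' hk.1 hs, ?_⟩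
  calc t * (k * z * k⁻¹) * t = (t * k * t) * (t * t)⁻¹ * (t * z * t⁻¹) * (t * k⁻¹ * t) := by group
    _ = _ := by rw [ht.1, e, T.K_inv ht hB hk, T.K_inv ht hB (inv_mem hk)]; group

end

theorem not_le [IsSimpleGroup G] (hG : ¬ IsMulCommutative G) : ¬ Nm S ≤ S := fun h => by
  have : Nontrivial S := (nontrivial_iff_ne_bot S).2 T.ne0
  have := T.p2.isNilpotent
  obtain ⟨x, -, hx⟩ := SetLike.exists_of_lt (Group.IsSolvable.commutator_lt_top_of_nontrivial S)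
  refine hx (Abelianization.ker_of S ▸ transfer1 hG Abelianization.of x fun g hg k hk => ?_)
  rw [← map_one Abelianization.of]
  congr 1
  have : (x : G) ^ k = 1 := T.ti' (pow_mem x.2 k) (g := g⁻¹) (fun e => hg (h (inv_mem_iff.1 e)))
    (by simpa using le_Nm S hk)
  exact Subtype.ext (by simp [this])

end TI

end Cfsg.Agent.EP
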