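import Cfsg.Agent.EP.TI

/-! Counting in the trivial intersection case. -/

set_option autoImplicit false

namespace Cfsg.Agent.EP

open Subgroup Finset Cfsg.Agent.SC3

variable {G : Type*} [Group G] [Finite G]

namespace TI

variable {S : Subgroup G} (T : TI S) (h0 : ¬ Nm S ≤ S)
include T

theorem exists_t : ∃ t, I2 t ∧ t ∉ Nm S :=
  let ⟨_, hg⟩ := T.exists_out; let ⟨w, h1, h2, _⟩ := T.exists_w hg; ⟨w, h1, h2⟩

theorem conj_all {u v : G} (hu : I2 u) (hv : I2 v) : ∃ g, g * u * g⁻¹ = v := by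
  obtain ⟨a, ha⟩ := T.conj_into hu.pe
  obtain ⟨b, hb⟩ := T.conj_into hv.pe
  obtain ⟨c, -, hc⟩ := T.trans (hv.conj b) hb (hu.conj a) ha
  refine ⟨b⁻¹ * c * a, ?_⟩
  rw [show b⁻¹ * c * a * u * (b⁻¹ * c * a)⁻¹ = b⁻¹ * (c * (a * u * a⁻¹) * c⁻¹) * b by group, hc]
  group

theorem cnt2 : cnt G 2 * (Nat.card S * S.relIndex (Nm S)) = Nat.card G * (Nat.card S - 1) := by
  obtain ⟨R, rfl⟩ := T.sylow
  rw [rel_sylow, card_sylow]
  refine cnt_ti fun P Q x h1 h2 h3 => Sylow.ext ?_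
  obtain ⟨a, ha⟩ := sylow_conj R P
  obtain ⟨b, hb⟩ := sylow_conj R Q
  rw [← ha] at h1 ⊢
  rw [← hb] at h2 ⊢
  have := cj_eq_iff.2 (T.ti _ (mem_cj.1 h1) (fun e => h3 (by simpa [mul_assoc] using congrArg (a * · * a⁻¹) e)) (b⁻¹ * a) (by simpa [mul_assoc] using mem_cj.1 h2))
  conv_rhs => rw [← this, cj_cj, mul_inv_cancel_left]

include h0

theorem card_G : Nat.card G = (Nat.card S + 1) * (Nat.card S * S.relIndex (Nm S)) := by
  obtain ⟨t, ht, hB⟩ := T.exists_t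
  rw [← T.index_eq ht hB h0, card_mul_relIndex (le_Nm S), index_mul_card]

theorem pp : ∃ n, 2 ≤ n ∧ S.relIndex (Nm S) + 1 = 2 ^ n ∧ (S.relIndex (Nm S)).Prime ∧ S.relIndex (Nm S) ∈ RP G ∧
    mm G (S.relIndex (Nm S)) = S.relIndex (Nm S) ∧ S.relIndex (Nm S) = 2 * nn G (S.relIndex (Nm S)) + 1 := by
  obtain ⟨t, ht, hB⟩ := T.exists_t
  obtain ⟨k, hk, h1⟩ := T.exists_K ht hB h0
  obtain ⟨r, hr, h2, h3⟩ := T.h.exists_pe h1
  have h4 := T.h.card_C1 hr (T.K_rl ht hB hk h1) h2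
  have h5 : r ∈ RP G := mem_RP.2 ⟨hr, k, T.K_rl ht hB hk h1, h2⟩
  rw [T.C1_K ht hB hk h1, T.card_KK ht hB] at h4
  obtain ⟨n, hn⟩ := (T.p2.to_le (Frob.Zs_le S)).exists_card_eq
  rw [T.card_ZZ] at hn
  have h6 : mm G r = r := by
    have := EPPO.dvd_mm h5
    rw [h4, mm] at hn
    rw [mm] at this ⊢
    rw [prime_of_pow hr (fun e => hr.not_dvd_one (by simpa [e] using this)) hn, pow_one]
  rw [h6] at h4
  rw [h4] at hn ⊢
  obtain ⟨j, hj⟩ := T.h.ee_pow h5
  have h7 := T.h.mm_eq h5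
  have := hr.two_le
  rw [h6, hj] at h7
  rcases n with _ | _ | n
  · omega
  · omega
  refine ⟨_, by omega, hn, hr, h5, h6, ?_⟩
  rcases j with _ | j
  · simpa using h7
  · rw [pow_succ, pow_succ, mul_assoc, mul_assoc, mul_left_comm, mul_left_comm (2 ^ j)] at h7
    omega

theorem card_i2 : Nat.card {x : G // I2 x} = (Nat.card S + 1) * S.relIndex (Nm S) := by
  classical
  have := Fintype.ofFinite G
  obtain ⟨z, hz, h⟩ := T.exists_z
  have h1 := Frob.card_orbit_conj ⊤ z (univ.filter I2) fun s => by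
    simp only [mem_filter, mem_univ, true_and, mem_top]
    exact ⟨T.conj_all h, by rintro ⟨g, rfl⟩; exact h.conj g⟩
  rw [show centralizer {z} = S from T.C1_eq hz h.2, top_inf_eq, card_top, T.card_G h0] at h1
  rw [Nat.card_eq_fintype_card, Fintype.card_subtype]
  apply Nat.eq_of_mul_eq_mul_right (card_pos' S)
  rw [← h1]; ring

theorem sum_nn : ∑ r ∈ RP G, nn G r = S.relIndex (Nm S) := by
  classical
  have := Fintype.ofFinite G
  obtain ⟨z, hz, h⟩ := T.exists_z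
  have h1 := T.h.pairs
  have h2 := T.card_i2 h0
  rw [Nat.card_eq_fintype_card, Fintype.card_subtype] at h1 h2
  have h3 : (univ.filter fun v => I2 v ∧ Odd (orderOf (z * v)) ∧ z * v ≠ 1).card = Nat.card S * S.relIndex (Nm S) := by
    have := card_filter_add_card_filter_not (s := univ.filter (I2 (G := G))) (· ∈ S)
    rw [h2, filter_filter, filter_filter, show (univ.filter fun a => I2 a ∧ a ∈ S) = nt (ZZ S) from ext fun a => by
      simp only [mem_filter, mem_univ, true_and, mem_nt]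
      exact ⟨fun h => ⟨T.mem_ZZ h.2 h.1.1, h.1.2⟩, fun h => ⟨⟨ZZ_sq h.1, h.2⟩, h.1.1⟩⟩, card_nt, T.card_ZZ,
      add_mul] at this
    rw [show Nat.card S * S.relIndex (Nm S) = (univ.filter fun a => I2 a ∧ a ∉ S).card by omega]
    congr 1
    refine filter_congr fun v _ => and_congr_right fun hv => ⟨fun e e' => e.2 (PE.eq_one
      (pe_of_mem T.p2 (mul_mem hz.1 e')) e.1), fun e => ⟨T.odd_mul h hz.1 hv.1 e, fun e' => e ?_⟩⟩
    rw [eq_inv_of_mul_eq_one_right e']; exact inv_mem hz.1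
  rw [Frob.card_fiber_mul _ (univ.filter I2) Prod.fst (Nat.card S * S.relIndex (Nm S))
    (fun x hx => by simpa using (mem_filter.1 hx).2.1) fun u hu => ?_, h2, T.card_G h0] at h1
  · apply Nat.eq_of_mul_eq_mul_left (show 0 < (Nat.card S + 1) * (Nat.card S * S.relIndex (Nm S)) from
      T.card_G h0 ▸ Nat.card_pos)
    rw [← h1]; ring
  obtain ⟨g, rfl⟩ := T.conj_all h (mem_filter.1 hu).2
  rw [← h3]
  symm
  refine card_bij (fun v _ => (g * z * g⁻¹, g * v * g⁻¹)) (fun v hv => ?_) (fun _ _ _ _ e => by simpa using e)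
    fun x hx => ⟨g⁻¹ * x.2 * g, ?_, Prod.ext (mem_filter.1 hx).2.symm (by simp [mul_assoc])⟩
  · simp only [mem_filter, mem_univ, true_and, conj_mul, orderOf_conj, and_true] at hv ⊢
    exact ⟨h.conj g, hv.1.conj g, hv.2.1, by simpa using hv.2.2⟩
  · simp only [mem_filter, mem_univ, true_and] at hx ⊢
    obtain ⟨⟨-, e1, e2, e3⟩, e4⟩ := hx
    rw [show z * (g⁻¹ * x.2 * g) = g⁻¹ * (x.1 * x.2) * g⁻¹⁻¹ by rw [e4]; group, orderOf_conj]
    exact ⟨by simpa using e1.conj g⁻¹, e2, fun e => e3 (by simpa [mul_assoc] using congrArg (g * · * g⁻¹) e)⟩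

theorem sum_nn' : 2 * ∑ r ∈ (RP G).erase (S.relIndex (Nm S)), nn G r = S.relIndex (Nm S) + 1 := by
  obtain ⟨n, -, -, -, h1, -, h2⟩ := T.pp h0
  have := T.sum_nn h0
  rw [← add_sum_erase _ _ h1] at this
  omega

theorem fsum : ∑ r ∈ (RP G).erase (S.relIndex (Nm S)), (nn G r : ℚ) / mm G r < 1 / 2 := by
  obtain ⟨n, -, -, h0', h1, h3, h2⟩ := T.pp h0
  have h4 := T.h.fsum
  have h5 := T.cnt2
  have h6 := card_pos' S
  have h7 := h0'.pos
  rw [T.card_G h0, mul_right_comm] at h5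
  rw [← add_sum_erase _ _ h1, h3, Nat.eq_of_mul_eq_mul_right (by positivity) h5, T.card_G h0] at h4
  generalize nn G (S.relIndex (Nm S)) = m at *
  rw [h2] at h4 ⊢
  obtain ⟨s, hs⟩ : ∃ s, Nat.card S = s + 1 := ⟨Nat.card S - 1, by omega⟩
  have hs1 : 1 ≤ s := by have := (one_lt_card_iff_ne_bot S).2 T.ne0; omega
  rw [hs, Nat.add_sub_cancel] at h4
  push_cast at h4
  have hs2 : (1 : ℚ) ≤ s := by exact_mod_cast hs1
  have : 1 / 2 < (m : ℚ) / (2 * m + 1) + ((s + 1 + 1) * s + 1) / ((s + 1 + 1) * ((s + 1) * (2 * m + 1))) := by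
    rw [div_add_div _ _ (by positivity) (by positivity), div_lt_div_iff₀ (by positivity) (by positivity)]
    have : (0 : ℚ) ≤ m := by positivity
    nlinarith [mul_pos (show (0 : ℚ) < 2 * m + 1 by positivity) (show (0 : ℚ) < (s + 1) * s by positivity)]
  linarith

theorem mm_dvd {r : ℕ} (hr : r ∈ (RP G).erase (S.relIndex (Nm S))) : mm G r ∣ Nat.card S + 1 := by
  obtain ⟨n, -, -, h1, -⟩ := T.pp h0
  obtain ⟨a, ha⟩ := T.p2.exists_card_eq
  have h2 := mem_erase.1 hr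
  refine Nat.Coprime.dvd_of_dvd_mul_right ?_ (T.card_G h0 ▸ EP.mm_dvd r)
  exact Nat.Coprime.pow_left _ (Nat.Coprime.mul_right (ha ▸ (Nat.coprime_two_right.2 (odd_of_RP h2.2)).pow_right _)
    ((Nat.coprime_primes (mem_RP.1 h2.2).1 h1).2 h2.1))

end TI

end Cfsg.Agent.EP
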