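import Cfsg.Agent.EP.TI2

/-! The trivial intersection case with three involutions in a Sylow subgroup; the abelian case. -/

set_option autoImplicit false

namespace Cfsg.Agent.EP

open Subgroup Finset Cfsg.Agent.SC3

variable {G : Type*} [Group G] [Finite G]

theorem sum_pred_le {ι : Type*} (s : Finset ι) (a : ι → ℕ) (h : ∀ i ∈ s, 1 ≤ a i) :
    ∑ i ∈ s, (a i - 1) + 1 ≤ ∏ i ∈ s, a i := by
  classical
  induction s using Finset.induction_on with
  | empty => simp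
  | insert i s hi ih =>
    rw [sum_insert hi, prod_insert hi]
    have h1 := ih fun j hj => h j (mem_insert_of_mem hj)
    obtain ⟨b, hb⟩ : ∃ b, a i = b + 1 := ⟨a i - 1, by have := h i (mem_insert_self _ _); omega⟩
    rw [hb, Nat.add_sub_cancel]
    nlinarith [Nat.zero_le (∑ i ∈ s, (a i - 1))]

namespace TI

variable {S : Subgroup G} (T : TI S) (h0 : ¬ Nm S ≤ S)
include T

theorem inv_two {t k : G} (ht : I2 t) (hB : t ∉ Nm S) (hk : k ∈ KK S t) (h1 : k ≠ 1) {W : Subgroup G}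
    (hW : IsPGroup 2 W) (h2 : W ≠ ⊥) (h3 : k ∈ Nm W) : W ≤ S ∨ W ≤ cj t S := by
  obtain ⟨R, rfl⟩ := T.sylow
  obtain ⟨Q, hQ⟩ := hW.exists_le_sylow
  obtain ⟨g, hg⟩ := sylow_conj R Q
  rw [← hg] at hQ
  by_cases e : g ∈ Nm (R : Subgroup G)
  · exact Or.inl (cj_eq_iff.2 e ▸ hQ)
  obtain ⟨x, hx, h4⟩ := (ne_bot_iff_exists_ne_one.1 h2).imp fun x h => And.intro x.2 h
  have h5 := T.ti _ (mem_cj.1 (hQ hx)) (fun e => h4 (Subtype.ext (by
    simpa [mul_assoc] using congrArg (g * · * g⁻¹) e))) (g⁻¹ * k * g) (by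
      simpa [mul_assoc] using mem_cj.1 (hQ (Nm_conj h3 hx)))
  obtain ⟨w, h6, h7, h8⟩ := T.exists_w e
  have h9 := T.K_inv h6 h7 ((mem_KK h6).2 ⟨hk.1, by
    have := mul_mem (mul_mem (inv_mem h8) h5) h8
    rwa [mul_inv_rev, inv_inv, h6.inv, show w * g * (g⁻¹ * k * g) * (g⁻¹ * w) = w * k * w by group] at this⟩)
  have h10 : t * w ∈ C1 k := mem_C1.2 (by
    change k * (t * w) = t * w * k
    have e3 : k * t = t * k⁻¹ := by rw [← T.K_inv ht hB hk, ← mul_assoc, ← mul_assoc, ht.1, one_mul]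
    rw [← mul_assoc, e3, ← h9, mul_assoc, mul_assoc _ w, h6.1, mul_one, mul_assoc])
  rw [T.C1_K ht hB hk h1] at h10
  refine Or.inr (hQ.trans (le_of_eq ?_))
  conv_rhs => rw [← cj_eq_iff.2 (mul_mem h10.1 (inv_mem h8)), cj_cj, ← mul_assoc, ← mul_assoc, ht.1]
  simp

include h0

theorem three (h3 : S.relIndex (Nm S) = 3) : Nat.card S = 4 := by
  classical
  obtain ⟨t, ht, hB⟩ := T.exists_t
  obtain ⟨k, hk, h1⟩ := T.exists_K ht hB h0
  have h2 := T.card_KK ht hB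
  have h4 : orderOf k = 3 := ((Nat.dvd_prime Nat.prime_three).1 (h3 ▸ h2 ▸ (KK S t).orderOf_dvd_natCard hk)).resolve_left
    fun e => h1 (orderOf_eq_one_iff.1 e)
  have Y : M3 k := ⟨h4, fun x hx => (eq_of_card_le (zpowers_le_of_mem hk) (by rw [h2, h3, Nat.card_zpowers, h4])).ge
    ((T.C1_K ht hB hk h1).le (mem_C1.2 hx))⟩
  obtain ⟨a, ha⟩ := T.p2.exists_card_eq
  have hS : Iv k S := ⟨hk.1, fun e => absurd (Nat.prime_three.dvd_of_dvd_pow (ha ▸ e)) (by omega)⟩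
  have hS' : Iv k (cj t S) := ⟨Nm_cj t S ▸ hk.2, by rw [card_cj]; exact hS.nd⟩
  have h5 := Y.count.trans_le (Nat.mul_le_mul_left 9 (WW_le k))
  have hm : mm G 2 = Nat.card S := by obtain ⟨R, rfl⟩ := T.sylow; rw [card_sylow]
  have hG := T.card_G h0
  have hp : ∀ W, Mx k W → W ≠ ⊥ → (Nat.card W).minFac.Prime ∧ IsPGroup (Nat.card W).minFac W := fun W hW h6 => by
    have h7 := Nat.minFac_prime (fun e => h6 (card_eq_one.1 e))
    obtain ⟨x, hx, h8⟩ := exists_ord h7 (Nat.minFac_dvd _)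
    obtain ⟨z, hz, h9⟩ := (ne_bot_iff_exists_ne_one.1 (Y.cx.center_ne hW.1 h6)).imp fun x h => And.intro x.2 h
    have h10 := T.h.pe_comm h7 (T.h.pe h7 h8.symm.dvd) (fun e => h7.ne_one (by simpa [e] using h8.symm))
      (mem_Ce.1 hz.2 x hx).symm
    exact ⟨h7, isP_of_pe fun y hy => T.h.pe_comm h7 h10 (fun e => h9 (Subtype.ext e)) (mem_Ce.1 hz.2 y hy)⟩
  have h6 : ∑ W ∈ MX k, (Nat.card W - 1) ≤ ∑ r ∈ (Nat.card G).primeFactors.erase 3, 2 * (mm G r - 1) := by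
    rw [← sum_erase (MX k) (a := ⊥) (by simp), ← sum_fiberwise_of_maps_to (g := fun W : Subgroup G => (Nat.card W).minFac)
      (t := (Nat.card G).primeFactors.erase 3) fun W hW => mem_erase.2 ⟨fun e => (mem_MX.1 (mem_erase.1 hW).2).1.nd
        (e ▸ Nat.minFac_dvd _), Nat.mem_primeFactors.2 ⟨(hp W (mem_MX.1 (mem_erase.1 hW).2) (mem_erase.1 hW).1).1,
          (Nat.minFac_dvd _).trans (card_subgroup_dvd_card W), Nat.card_pos.ne'⟩⟩]
    refine sum_le_sum fun r hr => ?_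
    have hr' := Nat.prime_of_mem_primeFactors (mem_erase.1 hr).2
    have := Fact.mk hr'
    set X := ((MX k).erase ⊥).filter fun W : Subgroup G => (Nat.card W).minFac = r
    have hX : ∀ W ∈ X, Mx k W ∧ W ≠ ⊥ ∧ IsPGroup r W := fun W hW => by
      obtain ⟨e1, e2⟩ := mem_filter.1 hW
      exact ⟨mem_MX.1 (mem_erase.1 e1).2, (mem_erase.1 e1).1, e2 ▸ (hp W (mem_MX.1 (mem_erase.1 e1).2) (mem_erase.1 e1).1).2⟩
    have hy := Nat.pow_succ_factorization_not_dvd (Nat.card_pos (α := G)).ne' hr'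
    have hc : ∀ W ∈ X, Nat.card W = mm G r := fun W hW => by
      obtain ⟨e1, e2, e3⟩ := hX W hW
      by_cases e : r = 2
      · subst e
        rcases T.inv_two ht hB hk h1 e3 e2 e1.1.nm with e | e
        · rw [le_antisymm e (e1.2 hS e), hm]
        · rw [le_antisymm e (e1.2 hS' e), hm, card_cj]
      · refine Y.gx.q_sylow e1 e2 hr' (hr'.five_le_of_ne_two_of_ne_three e (mem_erase.1 hr).1) le_rfl e3 ?_ rfl
          (EP.mm_dvd r) hy
        rw [relIndex_self]; exact hr'.not_dvd_one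
    rw [sum_congr rfl fun W hW => by rw [hc W hW], sum_const, smul_eq_mul]
    rcases X.eq_empty_or_nonempty with e | ⟨W, hW⟩
    · simp [e]
    have e1 := Y.gx.orb3 (hX W hW).1 (hX W hW).2.1 (X := X) fun V hV => ⟨(hX V hV).1.1, conj_of_card (hc W hW) (hc V hV) hy⟩
    have e2 := card_Ak h4
    rw [Y.C1_eq, Y.cx.card_zp] at e2
    exact Nat.mul_le_mul_right _ (by omega)
  have h7 : 2 ∈ (Nat.card G).primeFactors.erase 3 := mem_erase.2 ⟨by omega, Nat.mem_primeFactors.2 ⟨Nat.prime_two,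
    i2_iff.1 ht ▸ orderOf_dvd_natCard t, Nat.card_pos.ne'⟩⟩
  rw [← add_sum_erase _ _ h7, ← mul_sum, hm] at h6
  have h8 : ∀ r ∈ ((Nat.card G).primeFactors.erase 3).erase 2, r.Prime := fun r hr =>
    Nat.prime_of_mem_primeFactors (mem_erase.1 (mem_erase.1 hr).2).2
  have h9 := sum_pred_le (((Nat.card G).primeFactors.erase 3).erase 2) (mm G) fun r hr => pow_pos (h8 r hr).pos _
  have h10 : ∏ r ∈ ((Nat.card G).primeFactors.erase 3).erase 2, mm G r ≤ Nat.card S + 1 := Nat.le_of_dvd (Nat.succ_pos _) (Nat.Coprime.dvd_of_dvd_mul_right (Nat.Coprime.prod_left fun r hr =>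
    Nat.Coprime.pow_left _ (Nat.Coprime.mul_right (ha ▸ ((Nat.coprime_primes (h8 r hr) Nat.prime_two).2
      (mem_erase.1 hr).1).pow_right _) (h3 ▸ (Nat.coprime_primes (h8 r hr) Nat.prime_three).2
        (mem_erase.1 (mem_erase.1 hr).2).1))) ((prod_mm_dvd h8).trans hG.dvd))
  have h11 := Y.cx.card_mod hS
  have h12 := Y.cx.four_le hS T.ne0
  rw [hG, h3] at h5
  have h13 : Nat.card S < 11 := by
    by_contra e
    nlinarith [show (Nat.card S + 1) * (Nat.card S * 3) < 36 * Nat.card S by omega]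
  rw [ha] at h11 h12 h13 ⊢
  have : a < 4 := by
    by_contra e
    have := Nat.pow_le_pow_right (n := 2) (by omega) (not_lt.1 e)
    omega
  interval_cases a <;> omega

theorem abel (h : ∀ a ∈ S, ∀ b ∈ S, Commute a b) : ∃ (F : Type) (_ : Field F) (_ : Fintype F), CharP F 2 ∧
    (Fintype.card F = 4 ∨ Fintype.card F = 8) ∧ Nonempty (G ≃* Matrix.SpecialLinearGroup (Fin 2) F) := by
  obtain ⟨t, ht, hB⟩ := T.exists_t
  obtain ⟨k, hk, h1⟩ := T.exists_K ht hB h0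
  obtain ⟨z, hz, h2⟩ := T.exists_z
  refine sl2_of_hyp T.h (fun u a b hu h3 h4 => ?_) h2 (h2.conj k) (fun e => ?_) (ZZ_comm hz (Nm_conj hk.1 hz.1)) h2 ht
    fun e => hB (le_Nm S (T.mem_of_comm hz.1 h2.2 e))
  · obtain ⟨g, rfl⟩ := T.conj_all h2 hu
    have := (commute_conj (g := g)).2 (h _ (T.mem_of_comm hz.1 h2.2 ((commute_conj (g := g)).1 (by simpa [mul_assoc] using h3) :
      Commute z (g⁻¹ * a * g))) _ (T.mem_of_comm hz.1 h2.2 ((commute_conj (g := g)).1 (by simpa [mul_assoc] using h4) :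
      Commute z (g⁻¹ * b * g))))
    simpa [mul_assoc] using this
  · exact (T.K_fix ht hB hk hz.1 (mul_inv_eq_iff_eq_mul.1 e.symm)).elim h1 h2.2

end TI

end Cfsg.Agent.EP
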