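import Cfsg.Agent.EP.TI3

/-! The trivial intersection case: a subgroup `SL₂(q)`, and arithmetic. -/

set_option autoImplicit false

namespace Cfsg.Agent.EP

open Subgroup Finset Cfsg.Agent.SC3

variable {G : Type*} [Group G] [Finite G]

theorem mm_eq_of {r a : ℕ} (hr : r.Prime) (h1 : r ^ a ∣ Nat.card G) (h2 : ¬ r ^ (a + 1) ∣ Nat.card G) :
    mm G r = r ^ a := by
  rw [hr.pow_dvd_iff_le_factorization Nat.card_pos.ne'] at h1 h2
  rw [mm, show (Nat.card G).factorization r = a by omega]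

namespace TI

variable {S : Subgroup G} (T : TI S) (h0 : ¬ Nm S ≤ S)
include T

theorem sub_sl2 {t σ r : G} (ht : I2 t) (hB : t ∉ Nm S) (hσ : σ ∈ ZZ S) (h1 : I2 σ) (hr : r ∈ ZZ S)
    (e : t * σ * t = r * t * r⁻¹) (h0 : ¬ Nm S ≤ S) : Nat.card (ZZ S) ∣ 60 ∨ Nat.card (ZZ S) ∣ 504 := by
  let P : G → Prop := fun g => (∃ z ∈ ZZ S, ∃ k ∈ KK S t, g = z * k) ∨
    ∃ z ∈ ZZ S, ∃ z' ∈ ZZ S, ∃ k ∈ KK S t, g = z * t * z' * k
  have hN : ∀ l ∈ KK S t, ∀ z ∈ ZZ S, l * z * l⁻¹ ∈ ZZ S := fun l hl z hz => Nm_conj (Frob.norm_le_Zs S hl.1) hz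
  have hl : ∀ l ∈ KK S t, l * t = t * l⁻¹ := fun l hl => by
    rw [← T.K_inv ht hB hl, ← mul_assoc, ← mul_assoc, ht.1, one_mul]
  have p1 : ∀ y ∈ ZZ S, ∀ g, P g → P (y * g) := by
    rintro y hy g (⟨z, hz, k, hk, rfl⟩ | ⟨z, hz, z', hz', k, hk, rfl⟩)
    · exact Or.inl ⟨_, mul_mem hy hz, k, hk, by group⟩
    · exact Or.inr ⟨_, mul_mem hy hz, z', hz', k, hk, by group⟩
  have p2 : ∀ l ∈ KK S t, ∀ g, P g → P (l * g) := by
    rintro l h g (⟨z, hz, k, hk, rfl⟩ | ⟨z, hz, z', hz', k, hk, rfl⟩)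
    · exact Or.inl ⟨_, hN l h z hz, _, mul_mem h hk, by group⟩
    · refine Or.inr ⟨_, hN l h z hz, _, hN _ (inv_mem h) z' hz', _, mul_mem (inv_mem h) hk, ?_⟩
      rw [show l * (z * t * z' * k) = l * z * l⁻¹ * (l * t) * z' * k by group, hl l h]; group
  have p3 : ∀ g, P g → P (t * g) := by
    rintro g (⟨z, hz, k, hk, rfl⟩ | ⟨z, hz, z', hz', k, hk, rfl⟩)
    · exact Or.inr ⟨1, one_mem _, z, hz, k, hk, by group⟩
    by_cases e1 : z = 1
    · exact Or.inl ⟨z', hz', k, hk, by simp only [e1, ← mul_assoc, ht.1, one_mul]⟩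
    obtain ⟨l, h2, rfl⟩ := T.K_conj ht hB ⟨ZZ_sq hz, e1⟩ hz.1 h1 hσ.1
    have := p2 _ (inv_mem h2) _ (Or.inr ⟨r, hr, _, mul_mem (inv_mem hr) (hN l h2 z' hz'), _, mul_mem h2 hk, rfl⟩)
    rwa [show l⁻¹ * (r * t * (r⁻¹ * (l * z' * l⁻¹)) * (l * k)) = l⁻¹ * (r * t * r⁻¹) * l * z' * k by group, ← e,
      ← T.K_inv ht hB h2, show t * l * t * (t * σ * t) * l * z' * k = t * l * (t * t) * σ * (t * l⁻¹⁻¹) * z' * k by group,
      ← hl _ (inv_mem h2), ht.1, show t * l * 1 * σ * (l⁻¹ * t) * z' * k = t * (l * σ * l⁻¹ * t * z' * k) by group] at this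
  set L := closure {g | g = t ∨ g ∈ ZZ S ∨ g ∈ KK S t}
  have l1 : t ∈ L := subset_closure (Or.inl rfl)
  have l2 : ZZ S ≤ L := fun x hx => subset_closure (Or.inr (Or.inl hx))
  have l3 : KK S t ≤ L := fun x hx => subset_closure (Or.inr (Or.inr hx))
  have hP : ∀ g ∈ L, P g := fun g hg => by
    induction hg using closure_induction_left with
    | one => exact Or.inl ⟨1, one_mem _, 1, one_mem _, by simp⟩
    | mul_left x hx y _ ih => exact hx.elim (fun e => e ▸ p3 y ih) fun e => e.elim (p1 x · y ih) (p2 x · y ih)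
    | inv_mul_cancel x hx y _ ih =>
      exact hx.elim (fun e => by rw [e, ht.inv]; exact p3 y ih) fun e =>
        e.elim (fun e => p1 _ (inv_mem e) y ih) fun e => p2 _ (inv_mem e) y ih
  have hS : ∀ g ∈ L, g ∈ S → g ∈ ZZ S := fun g hg h => by
    rcases hP g hg with ⟨z, hz, k, hk, rfl⟩ | ⟨z, hz, z', hz', k, hk, rfl⟩
    · rw [T.KS ht hB hk (by simpa using mul_mem (inv_mem (Frob.Zs_le S hz)) h), mul_one]; exact hz
    · exact absurd (by simpa [mul_assoc] using mul_mem (mul_mem (mul_mem (inv_mem (le_Nm S hz.1)) (le_Nm S h))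
        (inv_mem (inf_le_left (a := Nm S) hk))) (inv_mem (le_Nm S hz'.1))) hB
  have hc : ∀ u ∈ L, I2 u → ∃ g ∈ L, g * u * g⁻¹ ∈ ZZ S := fun u hu h => by
    rcases hP u hu with ⟨z, hz, k, hk, rfl⟩ | ⟨z, hz, z', hz', k, hk, rfl⟩
    · exact ⟨1, one_mem _, by simpa using T.mem_ZZ (T.pe_mem (mul_mem (le_Nm S hz.1) hk.1) h.pe) h.1⟩
    have h2 := mem_KK_of ht (h.conj z⁻¹).1 (by
      rw [show t * (z⁻¹ * (z * t * z' * k) * z⁻¹⁻¹) = t * t * (z' * k * z) by group, ht.1, one_mul]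
      exact mul_mem (mul_mem (le_Nm S hz'.1) hk.1) (le_Nm S hz.1))
    obtain ⟨j, hj⟩ := exists_sqrt (T.K_odd ht hB h2)
    have h3 := pow_mem h2 j
    generalize z * t * z' * k = u at *
    generalize (t * (z⁻¹ * u * z⁻¹⁻¹)) ^ j = c at *
    refine ⟨t * r * c⁻¹ * z⁻¹, mul_mem (mul_mem (mul_mem l1 (l2 hr)) (l3 (inv_mem h3))) (l2 (inv_mem hz)), ?_⟩
    have h4 : c⁻¹ * (z⁻¹ * u * z) * c = t := by
      calc _ = c⁻¹ * (t * t)⁻¹ * t * (c * c)⁻¹ * (c * c * (t * (z⁻¹ * u * z⁻¹⁻¹))) * c := by group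
        _ = c⁻¹ * (t * c⁻¹) := by rw [hj, ht.1]; group
        _ = t := by rw [← hl c h3]; group
    rwa [show t * r * c⁻¹ * z⁻¹ * u * (t * r * c⁻¹ * z⁻¹)⁻¹ = t * (r * (c⁻¹ * (z⁻¹ * u * z) * c) * r⁻¹) * t⁻¹ by group,
      h4, ← e, ← mul_assoc, ← mul_assoc, ht.1, one_mul, mul_inv_cancel_right]
  have i2 : ∀ {x : G} (hx : x ∈ L), I2 x → I2 (⟨x, hx⟩ : L) := fun _ h => ⟨Subtype.ext h.1, fun e => h.2 (congrArg Subtype.val e)⟩
  obtain ⟨k, hk, h2⟩ := T.exists_K ht hB h0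
  obtain ⟨F, _, _, _, h3, ⟨φ⟩⟩ := sl2_of_hyp (T.h.sub L) (fun u a b hu h3 h4 => by
      have h5 : I2 (u : G) := ⟨congrArg Subtype.val hu.1, fun e => hu.2 (Subtype.ext e)⟩
      obtain ⟨g, hg, h6⟩ := hc u u.2 h5
      have h7 : ∀ a : L, Commute u a → g * a * g⁻¹ ∈ ZZ S := fun a ha => hS _ (mul_mem (mul_mem hg a.2) (inv_mem hg))
        (T.mem_of_comm h6.1 (h5.conj g).2 (commute_conj.2 (congrArg Subtype.val ha.eq)))
      exact Subtype.ext (commute_conj.1 (ZZ_comm (h7 a h3) (h7 b h4).1)).eq)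
    (i2 (l2 hσ) h1) (i2 (l2 (hN k hk σ hσ)) (h1.conj k))
    (fun e => (T.K_fix ht hB hk hσ.1 (mul_inv_eq_iff_eq_mul.1 (congrArg Subtype.val e).symm)).elim h2 h1.2)
    (Subtype.ext (ZZ_comm hσ (hN k hk σ hσ).1)) (i2 (l2 hσ) h1) (i2 l1 ht)
    fun e => hB (le_Nm S (T.mem_of_comm hσ.1 h1.2 (congrArg Subtype.val e.eq)))
  have h4 := card_dvd_of_le l2
  rw [Nat.card_congr φ.toEquiv, SL2.card_sl] at h4
  exact h3.imp (fun e => by simpa [e] using h4) fun e => by simpa [e] using h4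

include h0

theorem arith {n : ℕ} (hn : 3 ≤ n) (ho : Odd n) (hp : S.relIndex (Nm S) + 1 = 2 ^ n) (hs : Nat.card S = 2 ^ (2 * n))
    (h4 : ∀ r ∈ RP G, ee G r ≤ 4) (h5 : 5 ∈ (RP G).erase (S.relIndex (Nm S))) (h5' : 4 ∣ ee G 5) (hn5 : n % 10 ≠ 5) :
    n = 3 := by
  have h1 := T.sum_nn' h0
  have h2 := T.fsum h0
  have h3 : mm G 5 = 5 := by
    have e1 := T.mm_dvd h0 h5
    have e2 := EPPO.dvd_mm (mem_erase.1 h5).2
    rw [mm] at e1 e2 ⊢
    generalize (Nat.card G).factorization 5 = a at *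
    rcases a with _ | _ | a
    · simp at e2
    · rfl
    have e3 := (pow_dvd_pow 5 (show 2 ≤ a + 1 + 1 by omega)).trans e1
    rw [hs, ← Nat.div_add_mod n 10, mul_add, ← mul_assoc, pow_add, pow_mul] at e3
    have e4 := Nat.mod_eq_zero_of_dvd e3
    have e5 := Nat.mod_lt n (show 0 < 10 by omega)
    have e6 : n % 10 % 2 = 1 := by have := Nat.odd_iff.1 ho; omega
    rw [Nat.add_mod, Nat.mul_mod, Nat.pow_mod (2 ^ (2 * 10)), show 2 ^ (2 * 10) % 5 ^ 2 = 1 by norm_num, one_pow] at e4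
    generalize n % 10 = c at *
    interval_cases c <;> simp_all
  have h6 := T.h.mm_eq (mem_erase.1 h5).2
  have h7 : ee G 5 = 4 := le_antisymm (h4 5 (mem_erase.1 h5).2) (Nat.le_of_dvd (Nat.pos_of_ne_zero index_ne_zero_of_finite) h5')
  have h8 : nn G 5 = 1 := by rw [h3, h7] at h6; omega
  rw [← add_sum_erase _ _ h5, h8] at h1 h2
  rw [h3] at h2
  set R := ((RP G).erase (S.relIndex (Nm S))).erase 5
  have hR : ∀ r ∈ R, r ∈ RP G := fun r hr => (mem_erase.1 (mem_erase.1 hr).2).2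
  have h9 : ∀ r ∈ R, ∀ c : ℕ, ee G r ≤ c → 1 / (c + 1 : ℚ) ≤ (nn G r : ℚ) / mm G r := fun r hr c hc => by
    have e1 := T.h.nn_pos (hR r hr)
    rw [T.h.mm_eq (hR r hr), div_le_div_iff₀ (by positivity) (by positivity)]
    exact_mod_cast (by nlinarith : 1 * (ee G r * nn G r + 1) ≤ nn G r * (c + 1))
  have h10 := card_nsmul_le_sum R _ _ fun r hr => h9 r hr 4 (h4 r (hR r hr))
  have h11 : R.card < 2 := by
    by_contra e
    have : (2 : ℚ) ≤ R.card := by exact_mod_cast not_lt.1 e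
    rw [nsmul_eq_mul] at h10
    push_cast at h10 h2
    linarith
  have h12 : 8 ≤ 2 ^ n := Nat.pow_le_pow_right (n := 2) (by omega) hn
  obtain ⟨r, hr⟩ := card_eq_one.1 (show R.card = 1 by
    have := card_ne_zero.2 (nonempty_of_sum_ne_zero (show ∑ r ∈ R, nn G r ≠ 0 by omega)); omega)
  have h13 : r ∈ R := hr ▸ mem_singleton_self r
  rw [hr, sum_singleton] at h1 h2
  obtain ⟨j, hj⟩ := T.h.ee_pow (hR r h13)
  have h14 : ee G r = 4 := by
    have e1 := h4 r (hR r h13)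
    rcases j with _ | _ | j
    · have := h9 r h13 2 hj.le
      push_cast at this h2
      linarith
    · exact hj
    · have := Nat.one_le_two_pow (n := j); omega
  have h15 := T.mm_dvd h0 (mem_erase.1 h13).2
  rw [T.h.mm_eq (hR r h13), h14, hs, mul_comm 2 n, pow_mul, ← hp, ← h1] at h15
  have h16 : 4 * nn G r + 1 ∣ 13 := (Nat.dvd_add_right (Dvd.intro (4 * nn G r + 7) rfl)).1 (by
    rw [show (4 * nn G r + 1) * (4 * nn G r + 7) + 13 = 4 * ((2 * (1 + nn G r)) ^ 2 + 1) by ring]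
    exact h15.mul_left 4)
  have h17 : nn G r = 3 := by have := (Nat.dvd_prime (by norm_num)).1 h16; omega
  exact Nat.pow_right_injective le_rfl (show 2 ^ n = 2 ^ 3 by omega)

end TI

end Cfsg.Agent.EP
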