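import Cfsg.Agent.EP.TI4
import Cfsg.Agent.EP.Hig
import Cfsg.Agent.EP.Ident
import Cfsg.Agent.EP.Concl

/-! The trivial intersection case. -/

set_option autoImplicit false

namespace Cfsg.Agent.EP

open Subgroup Finset Cfsg.Agent.SC3

variable {G : Type*} [Group G] [Finite G]

theorem card_le_four {E : Subgroup G} (h1 : ∀ a ∈ E, ∀ b ∈ E, I2 a → I2 b → a = b) (h2 : ∀ x ∈ E, x ^ 4 = 1)
    (h3 : ∀ x ∈ E, ∀ y ∈ E, x * x ≠ 1 → y * y = x * x → x⁻¹ * y * (x⁻¹ * y) = 1) : Nat.card E ≤ 4 := by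
  classical
  have h4 : ∀ x ∈ E, x * x ≠ 1 → I2 (x * x) := fun x hx h => ⟨by rw [← h2 x hx]; simp [pow_succ, mul_assoc], h⟩
  have h5 : ∀ l : List G, (∀ x ∈ E, x ∈ l) → Nat.card E ≤ l.length := fun l hl =>
    (Set.ncard_le_ncard (s := (E : Set G)) (t := l.toFinset) fun x hx => by simpa using hl x hx).trans
      (by rw [Set.ncard_coe_finset]; exact l.toFinset_card_le)
  by_cases e : ∃ x ∈ E, x * x ≠ 1
  · obtain ⟨x, hx, e⟩ := e
    have h6 : ∀ y ∈ E, y * y = 1 → y = 1 ∨ y = x * x := fun y hy h =>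
      or_iff_not_imp_left.2 fun e' => h1 y hy _ (mul_mem hx hx) ⟨h, e'⟩ (h4 x hx e)
    refine h5 [1, x * x, x * 1, x * (x * x)] fun y hy => ?_
    by_cases e' : y * y = 1
    · rcases h6 y hy e' with rfl | rfl <;> simp
    · rcases h6 _ (mul_mem (inv_mem hx) hy) (h3 x hx y hy e (h1 _ (mul_mem hy hy) _ (mul_mem hx hx) (h4 y hy e')
        (h4 x hx e))) with e | e <;> rw [inv_mul_eq_iff_eq_mul] at e <;> simp [e]
  · push Not at e
    by_cases e' : ∃ x ∈ E, x ≠ 1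
    · obtain ⟨x, hx, e'⟩ := e'
      exact (h5 [1, x] fun y hy => by
        simpa using or_iff_not_imp_left.2 fun h => h1 y hy x hx ⟨e y hy, h⟩ ⟨e x hx, e'⟩).trans (by simp)
    · push Not at e'
      exact (h5 [1] fun y hy => by simpa using e' y hy).trans (by simp)

theorem TI.concl [IsSimpleGroup G] (hG : ¬ IsMulCommutative G) {S : Subgroup G} (T : TI S) : Concl G := by
  have h0 := T.not_le hG
  by_cases hab : IsMulCommutative S
  · obtain ⟨F, _, _, _, h1, ⟨φ⟩⟩ := T.abel h0 fun a ha b hb => congrArg Subtype.val (hab.1.1 ⟨a, ha⟩ ⟨b, hb⟩)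
    exact Or.inr (Or.inl ⟨F, inferInstance, inferInstance, by rcases h1 with e | e <;> simp [e], psl_of_sl hG φ⟩)
  obtain ⟨n, hn2, hp, hp', -⟩ := T.pp h0
  have hn : 3 ≤ n := lt_of_le_of_ne hn2 fun e => hab ⟨⟨fun a b => Subtype.ext
    (mem_Ce.1 (four_comm (T.three h0 (by subst e; omega)) a.2) b b.2)⟩⟩
  have h8 : 8 ≤ 2 ^ n := Nat.pow_le_pow_right (n := 2) (by omega) hn
  have ho : Odd n := Nat.not_even_iff_odd.1 fun ⟨m, e⟩ => by
    have : 2 ^ n % 3 = 1 := by simp [e, ← two_mul, pow_mul, Nat.pow_mod]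
    have := (Nat.prime_dvd_prime_iff_eq Nat.prime_three hp').1 (by omega)
    omega
  obtain ⟨t, ht, hB⟩ := T.exists_t
  obtain ⟨k, hk, hk1⟩ := T.exists_K ht hB h0
  have hK := T.card_KK ht hB
  have hk2 : orderOf k = 2 ^ n - 1 := by
    have := ((Nat.dvd_prime hp').1 (hK ▸ (KK S t).orderOf_dvd_natCard hk)).resolve_left
      fun e => hk1 (orderOf_eq_one_iff.1 e)
    omega
  let κ : MulAut S := S.normalizerMonoidHom ⟨k, hk.1⟩
  have a1 : (2 ^ n - 1).Prime := by rwa [← hp, Nat.add_sub_cancel]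
  have a2 : κ ^ (2 ^ n - 1) = 1 := by
    rw [← map_pow, ← map_one S.normalizerMonoidHom]
    exact congrArg _ (Subtype.ext (by simp [← hk2]))
  have a3 : ∀ x, κ x = x → x = 1 := fun x e => Subtype.ext
    ((T.K_fix ht hB hk x.2 (mul_inv_eq_iff_eq_mul.1 (congrArg Subtype.val e))).resolve_left hk1)
  have a4 : Nat.card {x : S // x * x = 1} = 2 ^ n := by
    rw [← hp, ← T.card_ZZ]
    exact Nat.card_congr ⟨fun x => ⟨x.1, T.mem_ZZ x.1.2 (congrArg Subtype.val x.2)⟩,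
      fun x => ⟨⟨x.1, x.2.1⟩, Subtype.ext (ZZ_sq x.2)⟩, fun _ => rfl, fun _ => rfl⟩
  obtain ⟨b1, b2⟩ := higman T.p2 κ hn a1 a2 a3 a4 hab
  have b3 : ∀ x ∈ S, x ^ 4 = 1 := fun x hx => congrArg Subtype.val (b1 ⟨x, hx⟩)
  obtain ⟨σ, hσ, h1, r, hr, e⟩ := T.struct ht hB h0
  have htS : t ∉ S := fun e => hB (le_Nm S e)
  have hπ : Rl (σ * t) := rl_mul h1.1 ht.1 (T.odd_mul h1 hσ.1 ht.1 htS) fun e =>
    htS (eq_inv_of_mul_eq_one_right e ▸ inv_mem hσ.1)
  have h2 : r * (σ * t) * r⁻¹ = (σ * t) ^ 2 := by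
    rw [sq, mul_assoc σ t, ← mul_assoc t, e, ← mul_assoc r σ, ← (ZZ_comm hσ hr).eq]; group
  have h3 : r * r * (σ * t) * (r * r)⁻¹ = (σ * t) ^ 4 := by
    rw [show r * r * (σ * t) * (r * r)⁻¹ = r * (r * (σ * t) * r⁻¹) * r⁻¹ by group, h2, ← conj_pow, h2, ← pow_mul]
  have h4 : ∀ c : ℕ, c.Prime → (σ * t) ^ c = 1 → c ≠ 2 ^ n - 1 → c ∈ (RP G).erase (S.relIndex (Nm S)) ∧
      c ∣ Nat.card S + 1 := fun c hc e1 e2 =>
    have : c ∈ (RP G).erase (S.relIndex (Nm S)) := mem_erase.2 ⟨by omega, mem_RP.2 ⟨hc, _, hπ,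
      PE.dvd hc ⟨1, by rwa [pow_one]⟩ hπ.2.1⟩⟩
    ⟨this, (EPPO.dvd_mm (mem_erase.1 this).2).trans (T.mm_dvd h0 this)⟩
  obtain ⟨m, hm⟩ := ho
  by_cases hrr : r * r = 1
  · exfalso
    obtain ⟨h5, h6⟩ := h4 3 Nat.prime_three (by
      rw [hrr, one_mul, inv_one, mul_one] at h3
      exact mul_right_cancel (by rw [← pow_succ, ← h3, one_mul])) (by omega)
    have h7 := T.sub_sl2 ht hB hσ h1 (T.mem_ZZ hr hrr) e h0
    rw [T.card_ZZ, hp] at h7
    obtain rfl : n = 3 := le_antisymm (not_lt.1 fun e => by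
      have := pow_dvd_pow 2 (show 4 ≤ n from e)
      exact h7.elim (fun e => absurd (this.trans e) (by decide)) fun e => absurd (this.trans e) (by decide)) hn
    have h9 : Nat.card S = 512 := b2.resolve_left fun e => by rw [e] at h6; omega
    have h10 := T.card_G h0
    have h11 : S.relIndex (Nm S) = 7 := by omega
    have h12 := T.h.mm_eq (mem_erase.1 h5).2
    obtain ⟨j, hj⟩ := T.h.ee_pow (mem_erase.1 h5).2
    have h13 := T.sum_nn' h0
    have h14 := single_le_sum (f := nn G) (fun _ _ => Nat.zero_le _) h5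
    rw [mm_eq_of (a := 3) Nat.prime_three (by rw [h10, h9, h11]; norm_num) (by rw [h10, h9, h11]; norm_num), hj] at h12
    rcases j with _ | j
    · omega
    · rw [show 2 ^ (j + 1 + 1) * nn G 3 = 4 * (2 ^ j * nn G 3) by ring] at h12
      omega
  have h5 : I2 (r * r) := ⟨by rw [← b3 r hr]; simp [pow_succ, mul_assoc], hrr⟩
  have h6 : r ∈ Nm (C1 (σ * t)) := (T.h.sc hπ).fusion (mem_C1.2 rfl) hπ.2.1 (h2 ▸ pow_mem (mem_C1.2 rfl) 2)
  have h7 := T.h.inv_of_i2 hπ h5 (mul_mem h6 h6) (mem_C1.2 rfl)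
  obtain ⟨h9, h10⟩ := h4 5 Nat.prime_five (by rw [pow_succ, ← h3, h5.inv, h7, inv_mul_cancel]) (by omega)
  have h11 : Nat.card S = 2 ^ (2 * n) := b2.resolve_right fun e => by
    rw [e, show 3 * n = 2 * (3 * m + 1) + 1 by omega, pow_succ, pow_mul] at h10
    have : ∀ c, (2 ^ 2) ^ c % 5 = 1 ∨ (2 ^ 2) ^ c % 5 = 4 := fun c => by
      induction c with
      | zero => simp
      | succ c ih => rw [pow_succ]; omega
    have := this (3 * m + 1)
    omega
  have h12 : σ = r * r := by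
    have : Commute (σ * (r * r)) (σ * t) := by
      change σ * (r * r) * (σ * t) = σ * t * (σ * (r * r))
      rw [mul_assoc σ, eq_mul_inv_of_mul_eq h7, h5.inv, mul_inv_rev, h1.inv, ht.inv]
      group
    rw [← h1.inv]
    exact inv_eq_of_mul_eq_one_right ((T.h.odd_comm (pe_of_mem T.p2 (mul_mem hσ.1 (mul_mem hr hr))) hπ.1
      this).resolve_right hπ.2.1)
  obtain ⟨F, _, _, i, θ, α, l, u, c1, c2, c3, c4, c5, c6, c7, c8, c9⟩ := coords T.p2 κ hn a1 a2 a3 a4 hab h11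
    (r := ⟨r, hr⟩) fun e => hrr (congrArg Subtype.val e)
  have : CharP F 2 := Sz.charP_of_card (n := n - 1) (by rw [Nat.card_eq_fintype_card, c1]; congr 1; omega)
  have d0 : ∀ a b, u a b * u a b = u 0 (a * θ a) := fun a b => by
    rw [c7]; congr 1 <;> grind
  have d1 : u 0 0 = 1 := by simpa using d0 0 0
  have d2 : ∀ x : S, ∃ a b, u a b = x := fun x => let ⟨y, hy⟩ := c6.2 x; ⟨y.1, y.2, hy⟩
  have d3 : ∀ x y : S, x * x ≠ 1 → y * y = x * x → x⁻¹ * y * (x⁻¹ * y) = 1 := fun x y e1 e2 => by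
    obtain ⟨a, b, rfl⟩ := d2 x
    obtain ⟨c, d, rfl⟩ := d2 y
    rw [d0] at e1
    rw [d0, d0] at e2
    have e3 : c * θ c = a * θ a := congrArg Prod.snd (c6.1 (a₁ := (0, _)) (a₂ := (0, _)) e2)
    have e4 : a ≠ 0 := fun e => e1 (by simp [e, d1])
    have e5 : (c / a) ^ (2 ^ i + 1) = 1 := by
      rw [pow_succ', ← c4, map_div₀, div_mul_div_comm, e3, div_self (by simpa using e4)]
    have e6 : c / a ≠ 0 := fun e => by simp [e] at e5
    have e7 := FiniteField.pow_card_sub_one_eq_one _ e6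
    rw [c1] at e7
    have e8 : c = a := (div_eq_one_iff_eq e4).1 (orderOf_eq_one_iff.1 (((Nat.dvd_prime a1).1
      (orderOf_dvd_of_pow_eq_one e7)).resolve_right fun e => by
        have e9 := Nat.le_of_dvd (Nat.succ_pos _) (e ▸ orderOf_dvd_of_pow_eq_one e5)
        have := Nat.pow_le_pow_right (n := 2) (by omega) (show i + 1 ≤ n from c3)
        omega))
    rw [show u c d = u a b * u 0 (b + d) by rw [c7, e8]; congr 1 <;> grind, inv_mul_cancel_left, d0]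
    simp [d1]
  have h13 : ∀ c ∈ RP G, ee G c ≤ 4 := fun c hc => by
    obtain ⟨e1, x, e2, e3⟩ := mem_RP.1 hc
    obtain ⟨E, -, e4, e5, e6⟩ := T.h.exists_E e1 e2 e3
    obtain ⟨R, rfl⟩ := T.sylow
    obtain ⟨Q, hQ⟩ := e4.exists_le_sylow
    obtain ⟨g, hg⟩ := sylow_conj Q R
    have e7 : ∀ x ∈ E, g * x * g⁻¹ ∈ (R : Subgroup G) := fun x hx => hg ▸ conj_mem_cj.2 (hQ hx)
    refine e5 ▸ card_le_four e6 (fun x hx => by simpa using b3 _ (e7 x hx)) fun x hx y hy e8 e9 => ?_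
    have := congrArg Subtype.val (d3 ⟨_, e7 x hx⟩ ⟨_, e7 y hy⟩ (fun e => e8 (by simpa using congrArg Subtype.val e))
      (Subtype.ext (by simp [e9])))
    simpa [mul_assoc] using congrArg (g⁻¹ * · * g) this
  have h14 : 4 ∣ ee G 5 := by
    have := T.h.card_two_dvd Nat.prime_five hπ (PE.dvd Nat.prime_five ⟨1, by
      rw [pow_one, pow_succ, ← h3, h5.inv, h7, inv_mul_cancel]⟩ hπ.2.1) (T.p2.to_le (zpowers_le_of_mem hr))
      (zpowers_le_of_mem h6)
    rwa [Nat.card_zpowers, orderOf_eq_prime_pow (p := 2) (n := 1) (by simpa [sq] using hrr) (b3 r hr)] at this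
  have h15 : n = 3 ∨ n = 5 := or_iff_not_imp_right.2 fun e => T.arith h0 hn ⟨m, hm⟩ hp h11 h13 h9 h14 fun e' =>
    e ((Nat.prime_dvd_prime_iff_eq Nat.prime_five (Nat.prime_of_pow_sub_one_prime (by omega) a1).2).1 (by omega)).symm
  have hl : ∀ x, x ∈ zpowers l := fun x => (eq_top_of_card_eq (zpowers l) (by
    rw [Nat.card_zpowers, c5, Nat.card_units, Nat.card_eq_fintype_card, c1])).ge (mem_top x)
  let h : Fˣ →* G := monoidHomOfForallMemZpowers hl (hk2.trans c5.symm).dvd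
  have g1 : h l = k := monoidHomOfForallMemZpowers_apply_gen _ _
  have g2 : ∀ x, ∃ j : ℕ, l ^ j = x := fun x => (mem_powers_iff_mem_zpowers.2 (hl x))
  have g3 : ∀ x ∈ KK S t, ∃ y, x = h y := fun x hx => by
    obtain ⟨j, rfl⟩ := (eq_of_card_le (zpowers_le_of_mem hk) (by rw [hK, Nat.card_zpowers, hk2]; omega)).ge hx
    exact ⟨l ^ j, by rw [map_zpow, g1]⟩
  refine Or.inr (Or.inr (Or.inr ⟨F, inferInstance, inferInstance, ident (θ := θ) (α := α)
    ⟨fun a b => u a b, h, t, fun a b c d => congrArg Subtype.val (c7 a b c d), fun x => ?_, ht.1, fun x => ?_, ?_,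
      fun g => ?_⟩ ?_ ?_⟩))
  · obtain ⟨j, rfl⟩ := g2 x
    induction j with
    | zero => simp
    | succ j ih =>
      intro a b
      rw [pow_succ', map_mul, g1, show k * h (l ^ j) * u a b * (k * h (l ^ j))⁻¹ =
        k * (h (l ^ j) * u a b * (h (l ^ j))⁻¹) * k⁻¹ by group, ih]
      refine (congrArg Subtype.val (c8 _ _)).trans ?_
      simp only [Units.val_mul, map_mul]
      congr 2 <;> ring
  · obtain ⟨j, rfl⟩ := g2 x
    rw [map_inv, map_pow, g1, T.K_inv ht hB (pow_mem hk j)]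
  · have := congrArg Subtype.val (d0 1 0)
    rw [c9, map_one, one_mul] at this
    simp only [c9]
    rw [← this, ← e, h12]; rfl
  · by_cases e : g ∈ Nm S
    · obtain ⟨s, hs, x, hx, rfl⟩ := T.decomp ht hB e
      obtain ⟨a, b, e1⟩ := d2 ⟨s, hs⟩
      obtain ⟨y, rfl⟩ := g3 x hx
      exact Or.inl ⟨a, b, y, by rw [e1]⟩
    · obtain ⟨s', hs', g, hg, rfl⟩ := T.bruhat ht hB h0 e
      obtain ⟨s, hs, x, hx, rfl⟩ := T.decomp ht hB hg
      obtain ⟨a, b, e1⟩ := d2 ⟨s, hs⟩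
      obtain ⟨c, d, e'⟩ := d2 ⟨s', hs'⟩
      obtain ⟨y, rfl⟩ := g3 x hx
      exact Or.inr ⟨c, d, a, b, y, by rw [e1, e', mul_assoc (s' * t)]⟩
  · rw [T.card_G h0, h11, c1, ← hp, Nat.add_sub_cancel, hp, ← pow_mul, mul_comm n 2, mul_assoc]
  · rcases h15 with rfl | rfl
    · obtain rfl : i = 2 := by omega
      exact Or.inl ⟨c1, c4⟩
    · obtain rfl | rfl : i = 3 ∨ i = 4 := by omega
      exacts [Or.inr ⟨c1, Or.inl c4⟩, Or.inr ⟨c1, Or.inr c4⟩]

end Cfsg.Agent.EP
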