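import Cfsg.Agent.EP.Basic
import Cfsg.Agent.SC3.E2b
import Cfsg.Agent.AbInv.Final
import Cfsg.Agent.SL2.More
import Cfsg.Agent.Frob.Quad

/-! Transfer, arithmetic and recognition tools. -/

set_option autoImplicit false

namespace Cfsg.Agent.EP

open Subgroup Finset Cfsg.Agent.SC3

variable {G : Type*} [Group G] [Finite G]

omit [Finite G] in
theorem hom_triv [IsSimpleGroup G] (hG : ¬ IsMulCommutative G) {A : Type*} [CommGroup A] (f : G →* A) (x : G) :
    f x = 1 := by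
  rcases f.normal_ker.eq_bot_or_eq_top with e | e
  · exact absurd ⟨⟨fun a b => (f.ker_eq_bot_iff.1 e) (by rw [map_mul, map_mul, mul_comm])⟩⟩ hG
  · exact e.ge (mem_top x)

theorem transfer1 [IsSimpleGroup G] (hG : ¬ IsMulCommutative G) {H : Subgroup G} {A : Type*} [CommGroup A]
    (φ : H →* A) (x : H) (h : ∀ g ∉ H, ∀ (k : ℕ) (hk : g⁻¹ * x ^ k * g ∈ H), φ ⟨_, hk⟩ = 1) : φ x = 1 := by
  classical
  have := Fintype.ofFinite (Quotient (MulAction.orbitRel (zpowers (x : G)) (G ⧸ H)))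
  have h1 := hom_triv hG (MonoidHom.transfer φ) x
  have h2 : ∀ y : zpowers (x : G), y • ((1 : G) : G ⧸ H) = (1 : G) := fun y =>
    QuotientGroup.eq.2 (by simpa using zpowers_le_of_mem x.2 y.2)
  have h3 : ∀ q : Quotient (MulAction.orbitRel (zpowers (x : G)) (G ⧸ H)), q.out.out ∈ H ↔ q = ⟦((1 : G) : G ⧸ H)⟧ :=
    fun q => by
    rw [← inv_mem_iff, ← mul_one q.out.out⁻¹, ← QuotientGroup.eq, QuotientGroup.out_eq']
    refine ⟨fun e => by rw [← e, Quotient.out_eq], fun e => ?_⟩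
    obtain ⟨y, hy⟩ := MulAction.orbitRel_apply.1 (Quotient.exact (q.out_eq.trans e))
    exact hy.symm.trans (h2 y)
  rw [MonoidHom.transfer_eq_prod_quotient_orbitRel_zpowers_quot, prod_eq_single ⟦((1 : G) : G ⧸ H)⟧
    (fun q _ hq => h _ (mt (h3 q).1 hq) _ _) (by simp)] at h1
  have h4 := (h3 _).2 rfl
  generalize_proofs p1 p2 at h1
  generalize Quotient.out (s := MulAction.orbitRel (zpowers (x : G)) (G ⧸ H)) ⟦((1 : G) : G ⧸ H)⟧ = c at *
  have h5 : Function.minimalPeriod ((x : G) • ·) c = 1 := Function.minimalPeriod_eq_one_iff_isFixedPt.2 (by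
    change (x : G) • c = c
    rw [← c.out_eq', MulAction.Quotient.smul_coe, QuotientGroup.eq]
    exact mul_mem (inv_mem (mul_mem x.2 h4)) h4)
  have h6 : (⟨_, p2⟩ : H) = ⟨_, h4⟩⁻¹ * x * ⟨_, h4⟩ := Subtype.ext (by simp [h5])
  rwa [h6, map_mul, map_mul, map_inv, mul_right_comm, inv_mul_cancel, one_mul] at h1

/-- Thompson's transfer lemma -/
theorem transfer2 [IsSimpleGroup G] (hG : ¬ IsMulCommutative G) {H M : Subgroup G} (ho : ¬ 2 ∣ H.index)
    (hM : M.relIndex H = 2) {x : G} (hx : x * x = 1) : ∃ g, g * x * g⁻¹ ∈ M := by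
  classical
  by_contra hn
  push Not at hn
  have := Fintype.ofFinite (Quotient (MulAction.orbitRel (zpowers x) (G ⧸ H)))
  have := Fintype.ofFinite (G ⧸ H)
  let φ : H →* ℤˣ := ⟨⟨fun h => if (h : G) ∈ M then 1 else -1, by simp⟩, fun a b => by
    have := mul_mem_iff_of_index_two hM (a := a) (b := b)
    simp only [mem_subgroupOf] at this
    by_cases h1 : (a : G) ∈ M <;> by_cases h2 : (b : G) ∈ M <;> simp_all⟩
  have h1 := hom_triv hG (MonoidHom.transfer φ) x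
  rw [MonoidHom.transfer_eq_prod_quotient_orbitRel_zpowers_quot, prod_congr rfl (g := fun q =>
    (-1) ^ Function.minimalPeriod (x • ·) q.out) fun q _ => ?_, prod_pow_eq_pow_sum] at h1
  · rw [← index_eq_sum_minimalPeriod, (Nat.odd_iff.2 (by omega : H.index % 2 = 1)).neg_one_pow] at h1
    exact absurd h1 (by decide)
  · change (if _ ∈ M then _ else _) = _
    rcases Nat.even_or_odd' (Function.minimalPeriod (x • ·) q.out) with ⟨k, e | e⟩ <;>
      simp only [e, pow_succ _ (2 * k), pow_mul, sq, hx, one_pow, one_mul]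
    · simp
    · rw [if_neg (by simpa using hn q.out.out⁻¹)]; simp

omit [Finite G] in
theorem I2.zp {t x : G} (h : I2 t) (hx : x ∈ zpowers t) : x = 1 ∨ x = t := by
  obtain ⟨k, rfl⟩ := hx
  have : t ^ (2 : ℤ) = 1 := by rw [zpow_two, h.1]
  rcases Int.even_or_odd' k with ⟨j, rfl | rfl⟩ <;> simp [zpow_add, zpow_mul, this]

omit [Finite G] in
theorem exists_swap {x y : G} (hx : x * x = 1) (hy : y * y = 1) (h : Odd (orderOf (x * y))) :
    ∃ w, w * w = 1 ∧ w * x * w = y := by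
  obtain ⟨k, hk⟩ := h
  have h1 : x * (x * y) * x⁻¹ = (x * y)⁻¹ := by
    rw [mul_inv_rev, inv_eq_of_mul_eq_one_right hx, inv_eq_of_mul_eq_one_right hy, ← mul_assoc, hx, one_mul]
  have h2 : x * (x * y) ^ k * x = ((x * y) ^ k)⁻¹ := by
    rw [← inv_pow, ← h1, conj_pow, inv_eq_of_mul_eq_one_right hx]
  have h3 : x * y * ((x * y) ^ k * (x * y) ^ k) = 1 := by
    rw [← pow_add, ← pow_succ', ← two_mul, ← hk, pow_orderOf_eq_one]
  refine ⟨(x * y) ^ k * x, by rw [mul_assoc, ← mul_assoc x, h2, mul_inv_cancel], ?_⟩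
  rw [mul_assoc _ x x, hx, mul_one, ← mul_assoc, eq_inv_of_mul_eq_one_right h3, ← h1, ← mul_assoc x x, hx,
    inv_eq_of_mul_eq_one_right hx, one_mul, mul_assoc, hx, mul_one]

omit [Finite G] in
theorem comm_pow_of_i2 {x y : G} (hx : x * x = 1) (hy : y * y = 1) {k : ℕ} (h : I2 ((x * y) ^ k)) :
    Commute x ((x * y) ^ k) ∧ Commute y ((x * y) ^ k) := by
  have h1 : x * (x * y) * x⁻¹ = (x * y)⁻¹ := by
    rw [mul_inv_rev, inv_eq_of_mul_eq_one_right hx, inv_eq_of_mul_eq_one_right hy, ← mul_assoc, hx, one_mul]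
  have h2 : Commute x ((x * y) ^ k) := mul_inv_eq_iff_eq_mul.1 (by rw [← conj_pow, h1, inv_pow, h.inv])
  refine ⟨h2, ?_⟩
  have := h2.mul_left ((Commute.refl (x * y)).pow_right k)
  rwa [← mul_assoc, hx, one_mul] at this

/-- the Baer-Suzuki theorem -/
theorem baer {p : ℕ} [Fact p.Prime] {D : Set G} (hD : ∀ x ∈ D, ∀ g, g * x * g⁻¹ ∈ D)
    (h : ∀ x ∈ D, ∀ y ∈ D, IsPGroup p (closure {x, y})) : IsPGroup p (closure D) := by
  classical
  have key : ∀ n, ∀ P Q : Sylow p G, Nat.card G - (D ∩ P ∩ Q).ncard = n → D ∩ P ⊆ Q := by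
    intro n
    induction n using Nat.strong_induction_on with | _ n ih => ?_
    -- a step: inside a Sylow subgroup there is a new element normalizing `I`
    have step : ∀ P Q : Sylow p G, ¬ D ∩ P ⊆ Q → ∃ x ∈ D ∩ P, x ∉ Q ∧ x ∈ Nm (closure (D ∩ P ∩ Q)) := fun P Q hn => by
      have hI : closure (D ∩ P ∩ Q) ≤ P := (closure_le _).2 fun x hx => hx.1.2
      have hI' : closure (D ∩ P ∩ Q) ≤ Q := (closure_le _).2 fun x hx => hx.2
      obtain ⟨T, hT, hmax⟩ := (Set.toFinite {T : Subgroup G | closure (D ∩ P ∩ Q) ≤ T ∧ T ≤ P ∧ D ∩ T ⊆ Q}).exists_le_maximal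
        (a := closure (D ∩ P ∩ Q)) ⟨le_rfl, hI, fun x hx => hI' hx.2⟩
      obtain ⟨g, h1, h2, h3⟩ := Frob.exists_norm_notMem P.isPGroup' hmax.1.2.1 fun e => hn fun x hx =>
        hmax.1.2.2 ⟨hx.1, e hx.2⟩
      have h4 : ¬ D ∩ (P ⊓ Nm T : Subgroup G) ⊆ Q := fun e =>
        h2 (hmax.2 (y := P ⊓ Nm T) ⟨hT.trans (le_inf hmax.1.2.1 (le_Nm T)), inf_le_left, e⟩
          (le_inf hmax.1.2.1 (le_Nm T)) ⟨h1, h3⟩)
      obtain ⟨x, h5, h6⟩ := Set.not_subset.1 h4
      refine ⟨x, ⟨h5.1, h5.2.1⟩, h6, mem_Nm fun y hy => ?_⟩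
      refine closure_induction (fun z hz => subset_closure ?_) (by simp) (fun a b _ _ ha hb => by
        simpa using mul_mem ha hb) (fun a _ ha => by simpa [mul_assoc] using inv_mem ha) hy
      have h7 : x * z * x⁻¹ ∈ T := Nm_conj h5.2.2 (hT (subset_closure hz))
      exact ⟨⟨hD z hz.1.1 x, hmax.1.2.1 h7⟩, hmax.1.2.2 ⟨hD z hz.1.1 x, h7⟩⟩
    have hc : ∀ P Q : Sylow p G, D ∩ P ⊆ Q → D ∩ Q ⊆ P := fun P Q e => by
      obtain ⟨g, hg⟩ := sylow_conj Q P
      have h1 : (D ∩ Q).ncard ≤ (D ∩ P).ncard := Set.ncard_le_ncard_of_injOn (fun x => g * x * g⁻¹)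
        (fun x hx => ⟨hD x hx.1 g, show _ ∈ (P : Subgroup G) from hg ▸ conj_mem_cj.2 hx.2⟩) fun a _ b _ e => by
          simpa using e
      rw [← Set.eq_of_subset_of_ncard_le (show D ∩ P ⊆ D ∩ Q from fun x hx => ⟨hx.1, e hx⟩) h1]
      exact Set.inter_subset_right
    intro P Q hn
    by_contra h0
    obtain ⟨x, hx, h1, h2⟩ := step P Q h0
    obtain ⟨y, hy, h3, h4⟩ := step Q P fun e => h0 (hc Q P e)
    rw [Set.inter_right_comm] at h4
    have h5 : IsPGroup p (closure (D ∩ P ∩ Q) ⊔ closure {x, y} : Subgroup G) :=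
      (P.isPGroup'.to_le ((closure_le _).2 fun x hx => hx.1.2)).to_sup_of_normal_left' (h x hx.1 y hy.1)
        ((closure_le _).2 (by rintro _ (rfl | rfl); exacts [h2, h4]))
    obtain ⟨R, hR⟩ := h5.exists_le_sylow
    have h6 : ∀ z ∈ D ∩ P ∩ Q, z ∈ (R : Subgroup G) := fun z hz => hR (mem_sup_left (subset_closure hz))
    have h7 : ∀ P' : Sylow p G, ∀ z ∈ D ∩ P', z ∈ (R : Subgroup G) → z ∉ D ∩ P ∩ Q → D ∩ P ∩ Q ⊆ P' → D ∩ P' ⊆ R :=
      fun P' z e1 e2 e3 e4 => ih _ (by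
        have : (D ∩ P ∩ Q).ncard < (D ∩ P' ∩ R).ncard := Set.ncard_lt_ncard
          ⟨fun w hw => ⟨⟨hw.1.1, e4 hw⟩, h6 w hw⟩, fun e => e3 (e ⟨e1, e2⟩)⟩
        have := Set.ncard_le_card (D ∩ P' ∩ R)
        omega) P' R rfl
    have h8 := h7 P x hx (hR (mem_sup_right (subset_closure (by simp)))) (fun e => h1 e.2) fun w hw => hw.1.2
    have h9 := h7 Q y hy (hR (mem_sup_right (subset_closure (by simp)))) (fun e => h3 e.1.2) fun w hw => hw.2
    exact h1 (hc Q R h9 ⟨hx.1, h8 hx⟩)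
  have P : Sylow p G := default
  refine P.isPGroup'.to_le ((closure_le _).2 fun x hx => ?_)
  obtain ⟨Q, hQ⟩ := (h x hx x hx).exists_le_sylow
  exact key _ Q P rfl ⟨hx, hQ (subset_closure (by simp))⟩

omit [Finite G] in
theorem dihedral_pe {x y : G} (hx : x * x = 1) (hy : y * y = 1) (h : PE 2 (x * y)) : IsPGroup 2 (closure {x, y}) := by
  have h1 : x * (x * y) * x⁻¹ = (x * y)⁻¹ := by
    rw [mul_inv_rev, inv_eq_of_mul_eq_one_right hx, inv_eq_of_mul_eq_one_right hy, ← mul_assoc, hx, one_mul]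
  obtain ⟨n, hn⟩ := h
  refine ((isP_zpowers Nat.prime_two hn).to_sup_of_normal_left' (isP_zpowers (n := 1) (x := x) Nat.prime_two
    (by simpa [sq] using hx)) (zpowers_le_of_mem ?_)).to_le ((closure_le _).2 ?_)
  · refine mem_normalizer_iff.2 fun g => ⟨?_, ?_⟩
    · rintro ⟨k, rfl⟩; exact ⟨-k, by simp only [← conj_zpow, h1, inv_zpow']⟩
    · rintro ⟨k, hk⟩
      refine ⟨-k, ?_⟩
      have : x * (x * y) ^ (-k) * x⁻¹ = x * g * x⁻¹ := by rw [← conj_zpow, h1, ← hk, inv_zpow', neg_neg]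
      simpa using this
  · have := mul_mem (mem_sup_right (mem_zpowers x) : x ∈ zpowers (x * y) ⊔ zpowers x) (mem_sup_left (mem_zpowers _))
    rw [← mul_assoc, hx, one_mul] at this
    rintro _ (rfl | rfl)
    exacts [mem_sup_right (mem_zpowers _), this]

theorem prime_of_pow {r a n : ℕ} (hr : r.Prime) (ha : a ≠ 0) (h : r ^ a + 1 = 2 ^ n) : a = 1 := by
  by_cases h5 : 5 ≤ r
  · exact catalan hr h5 (Or.inr h) ha
  have h2 := hr.two_le
  rcases n with _ | _ | _ | n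
  · have := Nat.le_self_pow ha r; omega
  · have := Nat.le_self_pow ha r; omega
  · by_contra e
    have := Nat.pow_le_pow_left h2 a
    have := Nat.pow_le_pow_right (n := 2) (by omega) (show 2 ≤ a by omega)
    omega
  exfalso
  have h3 : r ≠ 4 := fun e => absurd (e ▸ hr) (by decide)
  have h4 : r ≠ 2 := fun e => by
    have := dvd_pow_self r ha
    rw [e] at h this
    omega
  obtain rfl : r = 3 := by omega
  have : 3 ^ a % 8 = 1 ∨ 3 ^ a % 8 = 3 := by
    rcases Nat.even_or_odd' a with ⟨k, rfl | rfl⟩ <;> simp [pow_succ, pow_mul, Nat.pow_mod, Nat.mul_mod]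
  omega

theorem pow3_eq {a n : ℕ} (h : 3 ^ a = 2 ^ n + 1) : n = 1 ∨ n = 3 := by
  rcases Nat.even_or_odd' a with ⟨k, rfl | rfl⟩
  · have h1 : (3 ^ k - 1) * (3 ^ k - 1 + 2) = 2 ^ n := by
      obtain ⟨m, hm⟩ : ∃ m, 3 ^ k = m + 1 := ⟨3 ^ k - 1, by have := Nat.one_le_pow k 3 (by omega); omega⟩
      rw [mul_comm, pow_mul, hm] at h
      rw [hm, Nat.add_sub_cancel]; nlinarith
    obtain ⟨i, -, hi⟩ := (Nat.dvd_prime_pow Nat.prime_two).1 (Dvd.intro _ h1)
    obtain ⟨j, -, hj⟩ := (Nat.dvd_prime_pow Nat.prime_two).1 (Dvd.intro_left _ h1)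
    rw [hi] at h1 hj
    rcases i with _ | _ | i
    · rcases j with _ | j <;> omega
    · exact Or.inr (Nat.pow_right_injective le_rfl (show 2 ^ n = 2 ^ 3 by omega))
    · rcases j with _ | _ | j <;> simp only [pow_succ] at hj <;> have := Nat.one_le_two_pow (n := i) <;> omega
  · have : 3 ^ (2 * k + 1) % 4 = 3 := by simp [pow_succ, pow_mul, Nat.pow_mod, Nat.mul_mod]
    rcases n with _ | _ | n <;> omega

theorem sl2_card {F : Type*} [Field F] [Fintype F] [CharP F 2] (h : EPPO (Matrix.SpecialLinearGroup (Fin 2) F))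
    (h2 : Fintype.card F ≠ 2) : Fintype.card F = 4 ∨ Fintype.card F = 8 := by
  obtain ⟨n, -, hn⟩ := FiniteField.card F 2
  have h1 := Fintype.one_lt_card (α := F)
  obtain ⟨g, -, hg⟩ := SL2.exists_ell_generator (F := F)
  obtain ⟨a, ha⟩ := SL2.exists_unit_generator (F := F)
  rw [← SL2.orderOf_dg] at ha
  have : Fintype.card F % 3 = 1 ∨ Fintype.card F % 3 = 2 := by
    have : ¬ 3 ∣ Fintype.card F := fun e => absurd (Nat.prime_three.dvd_of_dvd_pow (hn ▸ e)) (by omega)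
    omega
  rcases this with e | e
  · obtain ⟨k, hk⟩ := (h.pe Nat.prime_three (show 3 ∣ orderOf (SL2.dg a) by omega)).ord Nat.prime_three
    obtain rfl := prime_of_pow (n := n) Nat.prime_three (show k ≠ 0 by rintro rfl; omega) (by omega)
    omega
  · obtain ⟨k, hk⟩ := (h.pe Nat.prime_three (show 3 ∣ orderOf g by omega)).ord Nat.prime_three
    rcases pow3_eq (a := k) (n := n) (by omega) with e | e <;> rw [e] at hn <;> omega

theorem sl2_of_hyp (h : EPPO G) (h1 : ∀ t a b : G, I2 t → Commute t a → Commute t b → Commute a b)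
    {s t : G} (hs : I2 s) (ht : I2 t) (h2 : s ≠ t) (h3 : Commute s t) {u v : G} (hu : I2 u) (hv : I2 v)
    (h4 : ¬ Commute u v) : ∃ (F : Type) (_ : Field F) (_ : Fintype F), CharP F 2 ∧
      (Fintype.card F = 4 ∨ Fintype.card F = 8) ∧ Nonempty (G ≃* Matrix.SpecialLinearGroup (Fin 2) F) := by
  have H : AbInv.Hyp G := ⟨h1, ⟨s, t, hs, ht, h2, h3⟩, u, v, hu, hv, h4⟩
  obtain ⟨F, _, _, _, ⟨e⟩⟩ := H.main
  have := Fintype.ofFinite F
  have h5 : ∀ z : center G, z = 1 := fun z => Subtype.ext (by_contra fun e => by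
    obtain ⟨k, hk⟩ := exists_i2_pow ((h.pe_comm Nat.prime_two hs.pe hs.2 (mem_center_iff.1 z.2 s)).dvd Nat.prime_two e)
    exact hk.2 (H.center_eq (pow_mem z.2 k) hk.1))
  have : Unique (center G) := ⟨⟨1⟩, h5⟩
  have e' := e.trans MulEquiv.prodUnique
  refine ⟨F, inferInstance, inferInstance, inferInstance, sl2_card (h.of_surj e'.toMonoidHom e'.surjective)
    fun e2 => ?_, ⟨e'⟩⟩
  have h6 := SL2.card_sl (F := F)
  rw [← Nat.card_congr e'.toEquiv, e2] at h6
  have h7 := card_mul_le (A := zpowers s) (B := zpowers t) (U := zpowers s ⊔ zpowers t) le_sup_left le_sup_right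
    (disjoint_iff.1 (disjoint_def.2 fun {x} e1 e2 => by_contra fun e3 =>
      h2 (((hs.zp e1).resolve_left e3).symm.trans ((ht.zp e2).resolve_left e3))))
  obtain ⟨j, hj⟩ := (dihedral_pe hs.1 ht.1 ⟨1, by rw [pow_one, h3.mul_pow, sq, sq, hs.1, ht.1, mul_one]⟩).exists_card_eq
  rw [Nat.card_zpowers, Nat.card_zpowers, i2_iff.1 hs, i2_iff.1 ht, zpowers_eq_closure, zpowers_eq_closure,
    ← Subgroup.closure_union, Set.singleton_union, hj] at h7
  have h8 := card_subgroup_dvd_card (closure {s, t})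
  rw [hj, h6] at h8
  rcases j with _ | _ | j
  · omega
  · omega
  · exact absurd ((pow_dvd_pow 2 (show 2 ≤ j + 1 + 1 by omega)).trans h8) (by decide)

omit [Finite G] in
theorem psl_of_sl [IsSimpleGroup G] (hG : ¬ IsMulCommutative G) {F : Type*} [Field F]
    (e : G ≃* Matrix.SpecialLinearGroup (Fin 2) F) : Nonempty (G ≃* Matrix.ProjectiveSpecialLinearGroup (Fin 2) F) := by
  have hc' : center G = ⊥ := (inferInstance : (center G).Normal).eq_bot_or_eq_top.resolve_right fun e =>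
    hG ⟨⟨fun a b => mem_center_iff.1 (e.ge (mem_top b)) a⟩⟩
  have h5 : center (Matrix.SpecialLinearGroup (Fin 2) F) = ⊥ := eq_bot_iff.2 fun x hx =>
    e.symm.injective ((hc'.le (mem_center_iff.2 fun g => e.injective (by
      simpa using mem_center_iff.1 hx (e g)))).trans (map_one _).symm)
  exact ⟨e.trans (QuotientGroup.quotientBot.symm.trans (QuotientGroup.quotientMulEquivOfEq h5.symm))⟩

end Cfsg.Agent.EP
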